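import Cfsg.Agent.Fs.SymS
import Cfsg.Agent.Fx.Lift

/-!
Automorphisms of the point set, the kernel of the action on the local structure, and
the extension of a local sign character.
-/
set_option autoImplicit false

namespace Cfsg.Agent.Fs

open Cfsg.Agent.Fis Subgroup Equiv

variable {G : Type*} [Group G] {D : Set G} [TT D] {H : Type*} [Group H] {E : Set H} [TT E]

def QA (D : Set G) [TT D] : Subgroup (Perm (Pt D)) where
  carrier := {σ | ∀ a b, σ (a ⋆ b) = σ a ⋆ σ b}
  one_mem' _ _ := rfl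
  mul_mem' {σ τ} h1 h2 a b := by rw [Perm.mul_apply, h2, h1]; rfl
  inv_mem' {σ} h a b := σ.injective (by rw [h]; simp)

theorem QA.cm (σ : QA D) {a b : Pt D} : Cm (σ.1 a) (σ.1 b) ↔ Cm a b := by
  rw [Cm, Cm, ← σ.2, σ.1.injective.eq_iff]

def toQ (D : Set G) [TT D] : G →* QA D :=
  (MulAction.toPermHom G (Pt D)).codRestrict _ fun g a b => smul_st g a b

theorem toQ_apply (g : G) (a : Pt D) : (toQ D g).1 a = g • a := rfl

theorem Irr.eq_one (h : Irr D) {g : G} (hg : ∀ a : Pt D, g • a = a) : g = 1 :=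
  mem_bot.1 (h.cen ▸ h.mem_center_iff.2 hg)

theorem Irr.toQ_inj (h : Irr D) : Function.Injective (toQ D) :=
  (injective_iff_map_eq_one _).2 fun g e => h.eq_one fun a => by rw [← toQ_apply, e]; rfl

theorem ker_Q [Finite G] (h : Irr D) (h4 : P4 D) {x : Pt D} (σ : QA D) (hx : σ.1 x = x)
    (hf : ∀ y ∈ Dx x, σ.1 y = y) : σ = 1 ∨ σ = toQ D x.t := by
  obtain ⟨a, ha⟩ := h.toPrim.exists_nc' h.cen x
  have key : ∀ τ : QA D, (∀ y, Cm x y → τ.1 y = y) → τ.1 a = a → τ = 1 := fun τ t1 t2 => by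
    refine Subtype.ext (Equiv.ext fun b => ?_)
    by_cases hb : Cm x b
    · exact t1 b hb
    obtain ⟨g, hg, rfl⟩ := h.toPrim.trA' ha hb
    exact closure_smul_mem (P := fun b => τ.1 b = b) (fun s hs z hz => by
      show τ.1 (s ⋆ z) = _
      rw [τ.2, t1 s hs, hz]) hg a t2
  have f1 : ∀ y, Cm x y → σ.1 y = y := fun y c => by
    by_cases e : y = x
    exacts [e ▸ hx, hf y ⟨e, c⟩]
  rcases h4 x a (σ.1 a) ha (by rwa [← hx, QA.cm]) (fun y hy => by
    rw [← f1 y hy.1.symm, QA.cm]; exact hy.2) with e | e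
  · exact Or.inl (key σ f1 e)
  · refine Or.inr ?_
    have := key (toQ D x.t * σ) (fun y c => by
      show x ⋆ σ.1 y = y
      rw [f1 y c, c.eq]) (by
      show x ⋆ σ.1 a = a
      rw [e, st_st])
    rw [eq_inv_of_mul_eq_one_right this, ← map_inv, x.inv]

theorem ker_G [Finite G] (h : Irr D) (h4 : P4 D) {x : Pt D} {g : G} (hx : g • x = x)
    (hf : ∀ y ∈ Dx x, g • y = y) : g = 1 ∨ g = x.t :=
  (ker_Q h h4 (toQ D g) hx hf).imp (fun e => h.toQ_inj (e.trans (map_one _).symm))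
    fun e => h.toQ_inj e

/-- the action of `H1 x` on the local structure -/
theorem Emb.exists_pi {x : Pt D} {φ : Pt E → Pt D} (l : Emb x φ) (h : Irr E) :
    ∃ π : H1 x →* H, Function.Surjective π ∧ (∀ g p, φ (π g • p) = g.1 • φ p) ∧
      ∀ p hp, π ⟨(φ p).t, hp⟩ = p.t := by
  choose π hπ using fun g : H1 x => l.down g.2
  have u : ∀ (g : H1 x) (k : H), (∀ p, φ (k • p) = g.1 • φ p) → π g = k := fun g k e => by
    rw [← mul_inv_eq_one, ← inv_inj, inv_one]
    refine h.eq_one fun p => l.inj ?_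
    rw [mul_inv_rev, inv_inv, mul_smul, e, ← hπ, smul_inv_smul]
  refine ⟨MonoidHom.mk' π fun a b => u _ _ fun p => by
    rw [mul_smul, hπ, hπ, ← mul_smul]; rfl, fun k => ?_, hπ, fun p hp => u _ _ fun q => l.st p q⟩
  obtain ⟨g, hg, e⟩ := l.lift h.toCl k
  exact ⟨⟨g, HH_le_H1 x hg⟩, u _ _ e⟩

theorem Ctx.ext [Finite G] (c : Ctx D E) (h4 : P4 E) {x : Pt D} {φ : Pt E → Pt D} (l : Emb x φ)
    {π : H1 x →* H} (hs : Function.Surjective π) (hπ : ∀ g p, φ (π g • p) = g.1 • φ p) :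
    Fx.Ext (⟨x.t, t_mem_H1 (Cm.refl x)⟩ : H1 x) π where
  cen u := Subtype.ext (smul_eq_iff_commute.1 (H1_fix u.2))
  sq := Subtype.ext x.sq
  ne e := x.ne_one (congrArg Subtype.val e)
  surj := hs
  pd := c.loc.eq_one fun p => l.inj (by rw [hπ]; exact (l.cmx p).eq)
  ker u e := (ker_G c.irr (c.p4 h4) (H1_fix u.2) fun y hy => by
    obtain ⟨p, rfl⟩ := (l.rng y).1 hy
    rw [← hπ, e, one_smul]).imp Subtype.ext Subtype.ext

theorem Ctx.card_H1 [Finite G] (c : Ctx D E) (h4 : P4 E) (x : Pt D) :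
    Nat.card (H1 x) = 2 * Nat.card H := by
  obtain ⟨φ, l⟩ := c.emb x
  obtain ⟨π, h1, h2, -⟩ := l.exists_pi c.loc
  have e := c.ext h4 l h1 h2
  have : (π.ker : Set (H1 x)) = {1, ⟨x.t, t_mem_H1 (Cm.refl x)⟩} := by
    ext u
    exact ⟨fun t => e.ker u t, by rintro (rfl | rfl); exacts [one_mem _, e.pd]⟩
  rw [← π.ker.card_mul_index, index_ker, MonoidHom.range_eq_top.2 h1, card_top]
  congr 1
  show Nat.card (π.ker : Set (H1 x)) = 2
  rw [this, Nat.card_coe_set_eq, Set.ncard_pair e.ne.symm]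

def P6 (D : Set G) [TT D] : Prop := Nat.card (QA D) ∣ 6 * Nat.card G

theorem Ctx.card_stab [Finite G] (c : Ctx D E) (h4 : P4 E) (x : Pt D) :
    Nat.card (MulAction.stabilizer (QA D) x) ∣ 2 * Nat.card (QA E) := by
  obtain ⟨φ, l⟩ := c.emb x
  have ex : ∀ σ : MulAction.stabilizer (QA D) x, ∀ p, ∃ q, φ q = σ.1.1 (φ p) := fun σ p => by
    have hx : σ.1.1 x = x := σ.2
    exact l.ex (fun t => l.nex p (σ.1.1.injective (t.trans hx.symm)))
      (by have := (QA.cm σ.1).2 (l.cmx p); rwa [hx] at this)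
  choose r hr using ex
  let ρ : MulAction.stabilizer (QA D) x →* QA E := MonoidHom.mk' (fun σ =>
    ⟨⟨r σ, r σ⁻¹, fun p => l.inj (by rw [hr, hr]; simp), fun p => l.inj (by rw [hr, hr]; simp)⟩,
      fun a b => l.inj (by
        show φ (r σ (a ⋆ b)) = φ (r σ a ⋆ r σ b)
        rw [hr, l.st, l.st, hr, hr, σ.1.2])⟩) fun σ τ => Subtype.ext (Equiv.ext fun p => l.inj (by
      show φ (r (σ * τ) p) = φ (r σ (r τ p))
      rw [hr, hr, hr]; rfl))
  have k : Nat.card ρ.ker ∣ 2 := by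
    have : Nat.card (zpowers (toQ D x.t)) ∣ 2 := by
      rw [Nat.card_zpowers]
      exact orderOf_dvd_of_pow_eq_one (by rw [← map_pow, pow_two, x.sq, map_one])
    refine dvd_trans (card_dvd_of_injective (((MulAction.stabilizer (QA D) x).subtype.comp
      ρ.ker.subtype).codRestrict _ fun σ => ?_) fun a b e => ?_) this
    · rcases ker_Q c.irr (c.p4 h4) σ.1.1 σ.1.2 (fun y hy => by
        obtain ⟨p, rfl⟩ := (l.rng y).1 hy
        rw [← hr]
        exact congrArg φ (congrArg (fun τ : QA E => τ.1 p) σ.2)) with e | e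
      · show σ.1.1 ∈ _
        rw [e]; exact one_mem _
      · show σ.1.1 ∈ _
        rw [e]; exact mem_zpowers _
    · exact Subtype.ext (Subtype.ext (congrArg (fun z : zpowers (toQ D x.t) => z.1) e))
  rw [← ρ.ker.card_mul_index, index_ker]
  exact mul_dvd_mul k (card_subgroup_dvd_card _)

theorem card_eq_pt {K : Type*} [Group K] [MulAction K (Pt D)] (h : ∀ x y : Pt D, ∃ g : K, g • x = y)
    (x : Pt D) : Nat.card K = Nat.card (Pt D) * Nat.card (MulAction.stabilizer K x) := by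
  haveI : MulAction.IsPretransitive K (Pt D) := ⟨h⟩
  rw [← (MulAction.stabilizer K x).card_mul_index, MulAction.index_stabilizer_of_transitive,
    mul_comm]

theorem Ctx.p6 [Finite G] (c : Ctx D E) (h4 : P4 E) (h6 : P6 E) {x : Pt D}
    (hC : ∀ g : G, g • x = x → g ∈ H1 x) : P6 D := by
  have e : MulAction.stabilizer G x = H1 x := le_antisymm hC fun g hg => H1_fix hg
  rw [P6, card_eq_pt (K := QA D) (fun a b => (c.irr.tr a b).imp' (toQ D) fun _ t => t) x,
    card_eq_pt c.irr.tr x, e, c.card_H1 h4, mul_left_comm]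
  exact mul_dvd_mul_left _ ((c.card_stab h4 x).trans (by
    rw [mul_left_comm]; exact mul_dvd_mul_left _ h6))

theorem p6_of_mulAut (h : Irr D) (h6 : Nat.card (MulAut G) = 6 * Nat.card G) : P6 D := by
  have cj : ∀ (σ : QA D) (a : Pt D), σ * toQ D a.t * σ⁻¹ = toQ D (σ.1 a).t := fun σ a =>
    Subtype.ext (Equiv.ext fun b => by
      show σ.1 (a ⋆ σ.1⁻¹ b) = σ.1 a ⋆ b
      rw [σ.2]; simp)
  haveI : (toQ D).range.Normal := ⟨by
    rintro _ ⟨g, rfl⟩ σ
    have hg : g ∈ closure D := h.gen ▸ mem_top g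
    induction hg using closure_induction with
    | mem d hd => exact ⟨_, (cj σ ⟨d, hd⟩).symm⟩
    | one => simp
    | mul a b _ _ ha hb => rw [map_mul, ← conj_mul]; exact mul_mem ha hb
    | inv a _ ha => rw [map_inv, ← conj_inv]; exact inv_mem ha⟩
  have := card_dvd_of_injective (MulAut.conjNormal (H := (toQ D).range))
    ((injective_iff_map_eq_one _).2 fun σ e => Subtype.ext (Equiv.ext fun a => by
      have t := congrArg (fun τ : MulAut (toQ D).range => (τ ⟨_, a.t, rfl⟩).1) e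
      simp only [MulAut.conjNormal_apply, cj, MulAut.one_apply] at t
      exact Pt.ext (h.toQ_inj t)))
  rwa [← Nat.card_congr (MulAut.congr (MonoidHom.ofInjective h.toQ_inj)).toEquiv, h6] at this

theorem exists_sign {Q : Type*} [Group Q] [Finite Q] (h : Nat.card Q % 4 = 2) :
    ∃ χ : Q →* ℤˣ, ∃ q, χ q ≠ 1 := by
  classical
  haveI := Fintype.ofFinite Q
  haveI : Fact (Nat.Prime 2) := ⟨Nat.prime_two⟩
  obtain ⟨q, hq⟩ := exists_prime_orderOf_dvd_card' (G := Q) 2 (by omega)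
  refine ⟨Perm.sign.comp (MulAction.toPermHom Q Q), q, ?_⟩
  have h1 : (MulAction.toPermHom Q Q q) ^ 2 = 1 := by
    rw [← map_pow, ← hq, pow_orderOf_eq_one, map_one]
  have h2 : Fintype.card (Function.fixedPoints (MulAction.toPermHom Q Q q)) = 0 := by
    rw [Fintype.card_eq_zero_iff]
    refine ⟨fun ⟨y, hy⟩ => ?_⟩
    have : q = 1 := by simpa [Function.IsFixedPt] using hy
    rw [this, orderOf_one] at hq
    omega
  rw [MonoidHom.comp_apply, Perm.sign_of_pow_two_eq_one h1, h2, ← Nat.card_eq_fintype_card,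
    Odd.neg_one_pow ⟨Nat.card Q / 4, by omega⟩]
  decide

theorem H1_conj {x : Pt D} {g k : G} (hg : g • x = x) (hk : k ∈ H1 x) : g * k * g⁻¹ ∈ H1 x := by
  induction hk using closure_induction with
  | mem d hd =>
    obtain ⟨y, hy, rfl⟩ := hd
    exact t_mem_H1 (y := g • y) (hg ▸ Cm.smul hy g)
  | one => simp
  | mul a b _ _ ha hb => rw [← conj_mul]; exact mul_mem ha hb
  | inv a _ ha => rw [← conj_inv]; exact inv_mem ha

theorem index_H1 [Finite G] (h : closure D = ⊤) (x : Pt D) {i : ℕ}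
    (hi : Nat.card (MulAction.stabilizer G x) = i * Nat.card (H1 x)) : i % 4 ≠ 2 := by
  intro h4
  set C := MulAction.stabilizer G x
  have le : H1 x ≤ C := fun g hg => H1_fix hg
  haveI : ((H1 x).subgroupOf C).Normal := ⟨fun k hk g => H1_conj g.2 hk⟩
  have e1 : Nat.card (C ⧸ (H1 x).subgroupOf C) = i := by
    have := card_eq_card_quotient_mul_card_subgroup ((H1 x).subgroupOf C)
    rw [hi, Nat.card_congr (subgroupOfEquivOfLe le).toEquiv] at this
    exact (Nat.eq_of_mul_eq_mul_right Nat.card_pos this).symm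
  obtain ⟨χ, q, hq⟩ := exists_sign (e1 ▸ h4)
  obtain ⟨g, rfl⟩ := QuotientGroup.mk_surjective q
  obtain ⟨k, hk, e⟩ := CL3 h ((χ.comp (QuotientGroup.mk' _)).ker.map C.subtype)
    (fun k hk => ⟨⟨k, le hk⟩, by
      rw [SetLike.mem_coe, MonoidHom.mem_ker, MonoidHom.comp_apply, QuotientGroup.mk'_apply,
        (QuotientGroup.eq_one_iff _).2 (by exact hk), map_one], rfl⟩)
    (fun k h1 h2 => ⟨⟨k, h1⟩, by
      rw [SetLike.mem_coe, MonoidHom.mem_ker]
      have : (χ.comp (QuotientGroup.mk' _)) ⟨k, h1⟩ ^ 3 = 1 := by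
        rw [← map_pow, show (⟨k, h1⟩ : C) ^ 3 = 1 from Subtype.ext h2, map_one]
      rcases Int.units_eq_one_or ((χ.comp (QuotientGroup.mk' _)) ⟨k, h1⟩) with t | t
      · exact t
      · rw [t] at this; exact absurd this (by decide), rfl⟩) g.2
  exact hq (Subtype.ext e ▸ hk)

/-- a local sign character extends -/
theorem Ctx.sgn [Finite G] (c : Ctx D E) (h4 : P4 E) (h6 : P6 E) {x : Pt D} (χ : H1 x →* ℤˣ)
    (hχ : ∀ y : Pt D, ∀ hy, χ ⟨y.t, hy⟩ = -1 ∨ ¬ Cm x y) : Sgn D := by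
  refine (sgn_or c.irr.gen).resolve_right fun hz => ?_
  set C := MulAction.stabilizer G x
  have le : H1 x ≤ C := fun g hg => H1_fix hg
  obtain ⟨i, hi⟩ := card_dvd_of_le le
  have p0 : 0 < Nat.card (H1 x) := Nat.card_pos
  have h1 : i ∣ 6 := by
    have : Nat.card C ∣ Nat.card (MulAction.stabilizer (QA D) x) :=
      card_dvd_of_injective (((toQ D).comp C.subtype).codRestrict _ fun g => g.2)
        fun a b e => Subtype.ext (c.irr.toQ_inj (congrArg Subtype.val e))
    have := (this.trans (c.card_stab h4 x)).trans (mul_dvd_mul_left 2 h6)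
    rw [mul_left_comm, ← c.card_H1 h4 x, hi, mul_comm 6] at this
    exact Nat.dvd_of_mul_dvd_mul_left p0 this
  have h2 := index_H1 c.irr.gen x (hi.trans (mul_comm _ _))
  let p : HatG D →* G := (MonoidHom.fst _ _).comp (HatG D).subtype
  have ps : ∀ g : G, ∃ k, p k = g := by
    intro g
    have : closure D ≤ p.range := (closure_le _).2 fun d hd => ⟨(up ⟨d, hd⟩).t, rfl⟩
    exact this (c.irr.gen ▸ mem_top g)
  have a1 : ∀ k ∈ H1 (up x), ∃ hk : p k ∈ H1 x, χ ⟨_, hk⟩ = k.1.2 := fun k hk => by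
    induction hk using closure_induction with
    | mem d hd =>
      obtain ⟨y, hy, rfl⟩ := hd
      have cy : Cm x (dn y) := dn_cm.2 hy
      exact ⟨t_mem_H1 cy, ((hχ (dn y) _).resolve_right (not_not.2 cy)).trans y.mem.2.symm⟩
    | one => exact ⟨one_mem _, map_one χ⟩
    | mul a b _ _ ha hb =>
      obtain ⟨ha, e1⟩ := ha
      obtain ⟨hb, e2⟩ := hb
      exact ⟨mul_mem ha hb, by
        rw [coe_mul, Prod.snd_mul, ← e1, ← e2]; exact map_mul χ ⟨_, ha⟩ ⟨_, hb⟩⟩
    | inv a _ ha =>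
      obtain ⟨ha, e1⟩ := ha
      exact ⟨inv_mem ha, by rw [coe_inv, Prod.snd_inv, ← e1]; exact map_inv χ ⟨_, ha⟩⟩
  have a2 : Nat.card (H1 (up x)) = Nat.card (H1 x) := by
    refine Nat.card_congr (Equiv.ofBijective (fun k => ⟨p k.1, (a1 k.1 k.2).1⟩) ⟨fun a b e => ?_, ?_⟩)
    · refine Subtype.ext (Subtype.ext (Prod.ext (congrArg Subtype.val e) ?_))
      rw [← (a1 a.1 a.2).2, ← (a1 b.1 b.2).2]
      exact congrArg χ e
    · rintro ⟨g, hg⟩
      have : H1 x ≤ (H1 (up x)).map p := (closure_le _).2 (by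
        rintro _ ⟨y, hy, rfl⟩
        exact ⟨(up y).t, t_mem_H1 (dn_cm.1 hy), rfl⟩)
      obtain ⟨k, hk, rfl⟩ := this hg
      exact ⟨⟨k, hk⟩, rfl⟩
  have a3 : Nat.card (MulAction.stabilizer (HatG D) (up x)) = 2 * Nat.card C := by
    have : MulAction.stabilizer (HatG D) (up x) = C.comap p := by
      ext k
      exact ⟨fun t => congrArg dn t, fun t => dn_inj t⟩
    have k : Nat.card p.ker = 2 := by
      have : (p.ker : Set (HatG D)) = {1, ⟨_, hz⟩} := by
        ext ⟨⟨a, b⟩, hab⟩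
        constructor
        · intro t
          obtain rfl : a = 1 := t
          rcases Int.units_eq_one_or b with rfl | rfl
          exacts [Or.inl rfl, Or.inr rfl]
        · rintro (t | t) <;> rw [t]
          exacts [one_mem _, rfl]
      show Nat.card (p.ker : Set (HatG D)) = 2
      rw [this, Nat.card_coe_set_eq, Set.ncard_pair fun t =>
        absurd (show (1 : ℤˣ) = -1 from congrArg (fun k : HatG D => k.1.2) t) (by decide)]
    have t1 := (C.comap p).card_mul_index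
    have t2 := C.card_mul_index
    have t3 := p.ker.card_mul_index
    rw [index_comap_of_surjective _ ps] at t1
    rw [index_ker, MonoidHom.range_eq_top.2 ps, card_top, k, ← t1, ← t2, ← mul_assoc] at t3
    rw [this]
    exact (Nat.eq_of_mul_eq_mul_right (Nat.pos_of_ne_zero C.index_ne_zero_of_finite) t3).symm
  have h3 := index_H1 (hat_gen (D := D)) (up x) (i := 2 * i) (by rw [a3, a2, hi]; ring)
  have := Nat.le_of_dvd (by norm_num) h1
  interval_cases i <;> omega

end Cfsg.Agent.Fs
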