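import Cfsg.Agent.Fs.Loc

/-!
The centraliser of a 3-transposition is generated by the commuting ones and elements of order 3;
sign characters.
-/
set_option autoImplicit false

namespace Cfsg.Agent.Fs

open Cfsg.Agent.Fis Subgroup

variable {G : Type*} [Group G] {D : Set G} [TT D]

theorem smul_mem_of_closure {S : Set (Pt D)} (hS : ∀ a ∈ S, ∀ b ∈ S, a ⋆ b ∈ S) {g : G}
    (hg : g ∈ closure (Pt.t '' S)) {y : Pt D} (hy : y ∈ S) : g • y ∈ S :=
  closure_smul_mem (P := fun y => y ∈ S) (fun s hs x hx => hS s hs x hx) hg y hy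

theorem CL {S : Set (Pt D)} (hS : ∀ a ∈ S, ∀ b ∈ S, a ⋆ b ∈ S) {x : Pt D} (hx : x ∈ S)
    (N : Subgroup G) (h1 : ∀ s ∈ S, Cm s x → s.t ∈ N)
    (h2 : ∀ a ∈ S, ∀ b ∈ S, ¬ Cm x a → ¬ Cm x b → ¬ Cm a b →
      (x ⋆ b).t * (a ⋆ b).t * (x ⋆ a).t ∈ N)
    {g : G} (hg : g ∈ closure (Pt.t '' S)) (hgx : g • x = x) : g ∈ N := by
  set Y := closure (Pt.t '' S)
  have tY : ∀ s ∈ S, s.t ∈ Y := fun s hs => subset_closure ⟨s, hs, rfl⟩
  let Fib : Pt D → G ⧸ N → Prop := fun u ω => ∃ k ∈ Y, k • x = u ∧ ω = k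
  have back : ∀ {k : G}, k ∈ Y → ∀ s ∈ S, k⁻¹ • s ∈ S := fun hk s hs =>
    smul_mem_of_closure hS (inv_mem hk) hs
  have F1 : ∀ {u ω}, Fib u ω → ∀ s ∈ S, Cm s u → s.t • ω = ω := by
    rintro _ _ ⟨k, hk, rfl, rfl⟩ s hs c
    have := h1 _ (back hk s hs) (cm_smul_iff.1 c)
    rw [MulAction.Quotient.smul_mk, eq_comm, QuotientGroup.eq]
    simpa [smul_t, mul_assoc] using this
  have F2 : ∀ {u ω}, Fib u ω → ∀ s ∈ S, Fib (s ⋆ u) (s.t • ω) := by
    rintro _ _ ⟨k, hk, rfl, rfl⟩ s hs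
    exact ⟨s.t * k, mul_mem (tY s hs) hk, mul_smul _ _ _, rfl⟩
  have F3 : ∀ {u ω}, Fib u ω → ∀ v ∈ S, ∀ w ∈ S, ¬ Cm u v → ¬ Cm u w → ¬ Cm v w →
      (v ⋆ w).t • (u ⋆ v).t • ω = (u ⋆ w).t • ω := by
    rintro _ _ ⟨k, hk, rfl, rfl⟩ v hv w hw c1 c2 c3
    obtain ⟨v, rfl⟩ : ∃ v', v = k • v' := ⟨k⁻¹ • v, by simp⟩
    obtain ⟨w, rfl⟩ : ∃ w', w = k • w' := ⟨k⁻¹ • w, by simp⟩
    have := h2 v (by simpa using back hk _ hv) w (by simpa using back hk _ hw)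
      (by rwa [cm_smul] at c1) (by rwa [cm_smul] at c2) (by rwa [cm_smul] at c3)
    rw [← smul_st, ← smul_st, ← smul_st, MulAction.Quotient.smul_mk, MulAction.Quotient.smul_mk,
      MulAction.Quotient.smul_mk, eq_comm, QuotientGroup.eq]
    simpa [smul_t, mul_assoc, Pt.inv] using this
  have tt : ∀ (s : Pt D) (ω : G ⧸ N), s.t • s.t • ω = ω := fun s ω => by
    rw [← mul_smul, s.sq, one_smul]
  set o : G ⧸ N := ((1 : G) : G ⧸ N) with ho
  have f0 : Fib x o := ⟨1, one_mem _, one_smul _ _, rfl⟩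
  have fA : ∀ a ∈ S, ¬ Cm x a → Fib a ((x ⋆ a).t • o) := fun a ha n => by
    have := F2 f0 _ (hS x hx a ha)
    rwa [st_st_fst n] at this
  have W1 : ∀ u ∈ S, ∀ a ∈ S, ∀ b ∈ S, ¬ Cm x a → ¬ Cm a u → ¬ Cm x b → ¬ Cm b u → ¬ Cm a b →
      (a ⋆ u).t • (x ⋆ a).t • o = (b ⋆ u).t • (x ⋆ b).t • o := fun u hu a ha b hb a1 a2 b1 b2 n => by
    rw [← F3 (fA a ha a1) b hb u hu n a2 b2, F3 f0 a ha b hb a1 b1 n]
  have W : ∀ u ∈ S, Cm x u → ∀ a ∈ S, ∀ b ∈ S, ¬ Cm x a → ¬ Cm a u → ¬ Cm x b → ¬ Cm b u →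
      (a ⋆ u).t • (x ⋆ a).t • o = (b ⋆ u).t • (x ⋆ b).t • o := fun u hu c a ha b hb a1 a2 b1 b2 => by
    by_cases n : Cm a b
    · have c1 := nc_st_self a1
      have c2 : ¬ Cm (x ⋆ a) u := nc_symm (nc_st_right c.symm (nc_symm a2))
      rw [W1 u hu a ha _ (hS x hx a ha) a1 a2 c1 c2 (nc_st_self' a1),
        W1 u hu _ (hS x hx a ha) b hb c1 c2 b1 b2
          (nc_symm (nc_st_left a1 (nc_symm b1) n.symm))]
    · exact W1 u hu a ha b hb a1 a2 b1 b2 n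
  let sec : Pt D → G ⧸ N → Prop := fun u ω => u ∈ S ∧ Fib u ω ∧ (u = x → ω = o) ∧
    (¬ Cm x u → ω = (x ⋆ u).t • o) ∧
    (Cm x u → u ≠ x → ∃ a ∈ S, ¬ Cm x a ∧ ¬ Cm a u ∧ ω = (a ⋆ u).t • (x ⋆ a).t • o)
  have T : ∀ u ω, sec u ω → ∀ v ∈ S, ¬ Cm u v → sec v ((u ⋆ v).t • ω) := by
    rintro u ω ⟨hu, fu, s1, s2, s3⟩ v hv n
    refine ⟨hv, by simpa [st_st_fst n] using F2 fu _ (hS u hu v hv), fun e => ?_, fun c => ?_,
      fun c e => ?_⟩
    · subst e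
      rw [s2 (nc_symm n), st_comm n, tt]
    · by_cases e : u = x
      · rw [s1 e, e]
      by_cases c' : Cm x u
      · obtain ⟨a, ha, a1, a2, e1⟩ := s3 c' e
        rw [e1, W u hu c' a ha v hv a1 a2 c (nc_symm n), st_comm n, tt]
      · rw [s2 c', F3 f0 u hu v hv c' c n]
    · by_cases c' : Cm x u
      · have e' : u ≠ x := fun t => n (t ▸ c)
        obtain ⟨a, ha, a1, a2, e1⟩ := s3 c' e'
        by_cases c2 : Cm a v
        · have b1 : ¬ Cm x (u ⋆ a) := nc_st_right c' a1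
          have b2 : ¬ Cm (u ⋆ a) u := nc_symm (nc_st_self (nc_symm a2))
          have b3 : ¬ Cm (u ⋆ a) v := nc_symm (nc_st_left (nc_symm a2) (nc_symm n) c2.symm)
          refine ⟨_, hS u hu a ha, b1, b3, ?_⟩
          rw [e1, W u hu c' a ha _ (hS u hu a ha) a1 a2 b1 b2,
            F3 (fA _ (hS u hu a ha) b1) u hu v hv b2 b3 n]
        · exact ⟨a, ha, a1, c2, by rw [e1, F3 (fA a ha a1) u hu v hv a2 c2 n]⟩
      · exact ⟨u, hu, c', n, by rw [s2 c']⟩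
  have key : ∀ k ∈ Y, sec (k • x) k := fun k hk => by
    induction hk using closure_induction_left with
    | one => exact ⟨by simpa using hx, by simpa using f0, fun _ => rfl,
        fun c => absurd (by simpa using Cm.refl x) c, fun _ e => absurd (by simp) e⟩
    | mul_left d hd k hk ih =>
      obtain ⟨s, hs, rfl⟩ := hd
      rw [mul_smul]
      show sec (s ⋆ k • x) (s.t • (k : G ⧸ N))
      by_cases c : Cm s (k • x)
      · rw [c.eq, F1 ih.2.1 s hs c]; exact ih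
      · have := T _ _ ih _ (hS s hs _ ih.1) (nc_st_self' c)
        rwa [st_st_mid c] at this
    | inv_mul_cancel d hd k hk ih =>
      obtain ⟨s, hs, rfl⟩ := hd
      rw [s.inv, mul_smul]
      show sec (s ⋆ k • x) (s.t • (k : G ⧸ N))
      by_cases c : Cm s (k • x)
      · rw [c.eq, F1 ih.2.1 s hs c]; exact ih
      · have := T _ _ ih _ (hS s hs _ ih.1) (nc_st_self' c)
        rwa [st_st_mid c] at this
  have := (key g hg).2.2.1 hgx
  rw [ho, eq_comm, QuotientGroup.eq] at this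
  simpa using this

theorem tri_eq {x a b : Pt D} (h1 : ¬ Cm x a) (h2 : ¬ Cm x b) (h3 : ¬ Cm a b) :
    x.t * ((x ⋆ b).t * (a ⋆ b).t * (x ⋆ a).t) = (b ⋆ x).t * a.t * ((x ⋆ a).t * b.t)⁻¹ := by
  rw [mul_inv_rev, Pt.inv, Pt.inv, st_t x b, st_t a b, st_t b x]
  have e := congrArg Pt.t (st_comm h3)
  rw [st_t, st_t] at e
  calc x.t * (x.t * b.t * x.t * (a.t * b.t * a.t) * (x ⋆ a).t)
      = x.t * (x.t * (b.t * x.t * (a.t * b.t * a.t) * (x ⋆ a).t)) := by group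
    _ = _ := by rw [x.sq', e]; group

theorem tri_S4 {x a b : Pt D} (h1 : ¬ Cm x a) (h2 : ¬ Cm x b) (h3 : ¬ Cm a b) (h4 : Cm b (x ⋆ a)) :
    (x ⋆ b).t * (a ⋆ b).t * (x ⋆ a).t = (a ⋆ b).t ∧ Cm (a ⋆ b) x := by
  constructor
  · have e := tri_eq h1 h2 h3
    rw [inv_eq_of_mul_eq_one_right (by rw [← pow_two]; exact sq_eq_one h4.symm),
      (tri_comm h1 h2 h3).1] at e
    exact mul_left_cancel e
  · rw [cm_comm, cm_st_iff, ← st_comm h1]; exact h4.symm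

theorem tri_AG {x a b : Pt D} (h1 : ¬ Cm x a) (h2 : ¬ Cm x b) (h3 : ¬ Cm a b)
    (h4 : ¬ Cm b (x ⋆ a)) : (x.t * ((x ⋆ b).t * (a ⋆ b).t * (x ⋆ a).t)) ^ 3 = 1 := by
  have h5 : ¬ Cm (b ⋆ x) a := by rwa [← st_comm h2, ← cm_st_iff]
  obtain ⟨e1, e2⟩ := tri_comm h1 h2 h3
  rw [tri_eq h1 h2 h3, (Commute.inv_right (e1.trans e2.symm)).mul_pow, inv_pow, cube_eq_one h5,
    cube_eq_one (nc_symm h4)]
  simp

/-- the centraliser is generated by `H1 x` and elements of order dividing 3 -/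
theorem CL3 (h : closure D = ⊤) {x : Pt D} (N : Subgroup G) (h1 : H1 x ≤ N)
    (h2 : ∀ k : G, k • x = x → k ^ 3 = 1 → k ∈ N) {g : G} (hg : g • x = x) : g ∈ N := by
  refine CL (S := Set.univ) (fun _ _ _ _ => trivial) trivial N
    (fun s _ c => h1 (t_mem_H1 c.symm)) (fun a _ b _ a1 a2 a3 => ?_)
    (by rw [image_t_univ, h]; trivial) hg
  by_cases h4 : Cm b (x ⋆ a)
  · obtain ⟨e, c⟩ := tri_S4 a1 a2 a3 h4
    rw [e]; exact h1 (t_mem_H1 c.symm)
  · have := mul_mem (h1 (t_mem_H1 (Cm.refl x))) (h2 _ (by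
      rw [mul_smul, mul_smul, mul_smul, ← st_def, ← st_def, ← st_def, ← st_def, st_st_fst a1,
        st_st_fst a3, st_st_snd a2, st_self]) (tri_AG a1 a2 a3 h4))
    rwa [x.sq'] at this

/-- in the symplectic case, an element acting trivially is a product of commuting points -/
theorem CLQ [Finite G] (hA : NoAG D) (S : Set (Pt D)) (hS : ∀ a ∈ S, ∀ b ∈ S, a ⋆ b ∈ S) {c : G}
    (hc : c ∈ closure (Pt.t '' S)) (hf : ∀ s ∈ S, c • s = s) :
    ∃ T : Set (Pt D), (∀ a ∈ T, ∀ b ∈ T, Cm a b) ∧ c ∈ closure (Pt.t '' T) := by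
  induction hn : S.ncard using Nat.strong_induction_on generalizing S with
  | _ n ih =>
  by_cases hq : ∀ a ∈ S, ∀ b ∈ S, Cm a b
  · exact ⟨S, hq, hc⟩
  push Not at hq
  obtain ⟨s, hs, e, he, n⟩ := hq
  refine ih _ (hn ▸ Set.ncard_lt_ncard (s := {y ∈ S | Cm y e}) ⟨fun y hy => hy.1,
    fun t => n (t hs).2⟩) {y ∈ S | Cm y e} (fun a ha b hb => ⟨hS a ha.1 b hb.1,
      (ha.2.symm.st_right hb.2.symm).symm⟩) ?_ (fun y hy => hf y hy.1) rfl
  refine CL hS he (closure (Pt.t '' {y ∈ S | Cm y e}))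
    (fun y hy c => Subgroup.subset_closure ⟨y, ⟨hy, c⟩, rfl⟩)
    (fun a ha b hb a1 a2 a3 => ?_) hc (hf e he)
  obtain ⟨e1, c⟩ := tri_S4 a1 a2 a3 (((hA e a b a1).resolve_left (nc_symm a2)).resolve_left
    (nc_symm a3))
  rw [e1]
  exact subset_closure ⟨_, ⟨hS a ha b hb, c⟩, rfl⟩

theorem exists_list {T : Set (Pt D)} (hT : ∀ a ∈ T, ∀ b ∈ T, Cm a b) {c : G}
    (hc : c ∈ closure (Pt.t '' T)) :
    ∃ l : List (Pt D), l.Nodup ∧ (∀ a ∈ l, a ∈ T) ∧ (l.map Pt.t).prod = c := by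
  classical
  have step : ∀ s ∈ T, ∀ l : List (Pt D), l.Nodup → (∀ a ∈ l, a ∈ T) →
      ∃ m : List (Pt D), m.Nodup ∧ (∀ a ∈ m, a ∈ T) ∧ (m.map Pt.t).prod = s.t * (l.map Pt.t).prod := by
    intro s hs l h1 h2
    by_cases hm : s ∈ l
    · refine ⟨l.erase s, h1.erase s, fun a ha => h2 a (List.mem_of_mem_erase ha), ?_⟩
      have := ((List.perm_cons_erase hm).map Pt.t).prod_eq' (by
        rw [List.pairwise_map]
        exact List.Pairwise.imp_of_mem (R := fun _ _ => True)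
          (fun ha hb _ => cm_iff.1 (hT _ (h2 _ ha) _ (h2 _ hb))) (List.pairwise_of_forall (by simp)))
      rw [this, List.map_cons, List.prod_cons, s.sq']
    · exact ⟨s :: l, List.nodup_cons.2 ⟨hm, h1⟩, by simpa using ⟨hs, h2⟩, by simp⟩
  induction hc using closure_induction_left with
  | one => exact ⟨[], by simp, by simp, by simp⟩
  | mul_left d hd k hk ih =>
    obtain ⟨s, hs, rfl⟩ := hd
    obtain ⟨l, h1, h2, rfl⟩ := ih
    exact step s hs l h1 h2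
  | inv_mul_cancel d hd k hk ih =>
    obtain ⟨s, hs, rfl⟩ := hd
    obtain ⟨l, h1, h2, rfl⟩ := ih
    rw [s.inv]
    exact step s hs l h1 h2

/-! ### the signed cover -/

def hatD (D : Set G) : Set (G × ℤˣ) := {q | q.1 ∈ D ∧ q.2 = -1}

abbrev HatG (D : Set G) : Subgroup (G × ℤˣ) := closure (hatD D)

def hatE (D : Set G) : Set (HatG D) := {q | q.1 ∈ hatD D}

instance instTTHat : TT (hatE D) where
  sq d hd := Subtype.ext (Prod.ext (TT.sq _ hd.1) (by show d.1.2 * d.1.2 = 1; rw [hd.2]; rfl))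
  ne d hd e := TT.ne _ hd.1 (by rw [e]; rfl)
  three d hd e he := (TT.three _ hd.1 _ he.1).imp
    (fun t => Subtype.ext (Prod.ext t (mul_comm _ _))) fun t => Subtype.ext (Prod.ext t (by
      show d.1.2 * e.1.2 * d.1.2 = e.1.2 * d.1.2 * e.1.2
      rw [hd.2, he.2]))
  conj g d hd := ⟨TT.conj _ _ hd.1, by
    show g.1.2 * d.1.2 * g.1.2⁻¹ = -1
    rw [mul_right_comm, mul_inv_cancel, one_mul, hd.2]⟩

def dn (p : Pt (hatE D)) : Pt D := ⟨p.t.1.1, p.mem.1⟩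

def up (p : Pt D) : Pt (hatE D) := ⟨⟨(p.t, -1), subset_closure ⟨p.mem, rfl⟩⟩, ⟨p.mem, rfl⟩⟩

theorem dn_up (p : Pt D) : dn (up p) = p := rfl

theorem dn_inj : Function.Injective (dn (D := D)) := fun p q e =>
  Pt.ext (Subtype.ext (Prod.ext (congrArg Pt.t e) (p.mem.2.trans q.mem.2.symm)))

theorem dn_smul (g : HatG D) (p : Pt (hatE D)) : dn (g • p) = g.1.1 • dn p := rfl

theorem dn_st (p q : Pt (hatE D)) : dn (p ⋆ q) = dn p ⋆ dn q := rfl

theorem dn_cm {p q : Pt (hatE D)} : Cm (dn p) (dn q) ↔ Cm p q := by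
  rw [Cm, Cm, ← dn_st, dn_inj.eq_iff]

omit [TT D] in
theorem hat_gen : closure (hatE D) = ⊤ := closure_closure_coe_preimage

omit [TT D] in
/-- either there is a sign character or the signed cover contains the sign element -/
theorem sgn_or (h : closure D = ⊤) : Sgn D ∨ ((1, -1) : G × ℤˣ) ∈ HatG D := by
  rw [or_iff_not_imp_right]
  intro hn
  let π : HatG D →* G := (MonoidHom.fst _ _).comp (HatG D).subtype
  have hi : Function.Injective π := by
    rw [injective_iff_map_eq_one]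
    rintro ⟨⟨a, b⟩, hab⟩ e
    obtain rfl : a = 1 := e
    rcases Int.units_eq_one_or b with rfl | rfl
    · rfl
    · exact absurd hab hn
  have hs : Function.Surjective π := by
    rw [← MonoidHom.range_eq_top, eq_top_iff, ← h, closure_le]
    exact fun d hd => ⟨⟨(d, -1), subset_closure ⟨hd, rfl⟩⟩, rfl⟩
  let e := MulEquiv.ofBijective π ⟨hi, hs⟩
  refine ⟨((MonoidHom.snd _ _).comp (HatG D).subtype).comp e.symm.toMonoidHom, fun d hd => ?_⟩
  have : e.symm d = ⟨(d, -1), subset_closure ⟨hd, rfl⟩⟩ := e.symm_apply_eq.2 rfl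
  show (e.symm d).1.2 = -1
  rw [this]

theorem hat_prod (l : List (Pt (hatE D))) :
    ((l.map Pt.t).prod).1 = ((((l.map dn).map Pt.t).prod, (-1) ^ l.length) : G × ℤˣ) := by
  induction l with
  | nil => rfl
  | cons a l ih =>
    rw [List.map_cons, List.prod_cons, coe_mul, ih]
    exact Prod.ext rfl (by
      show a.t.1.2 * _ = _
      rw [a.mem.2, List.length_cons, pow_succ'])

/-- symplectic case without sign character: an odd relation between commuting points -/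
theorem odd_rel [Finite G] (h : closure D = ⊤) (hA : NoAG D) (hn : ¬ Sgn D) :
    ∃ l : List (Pt D), l.Nodup ∧ (∀ a ∈ l, ∀ b ∈ l, Cm a b) ∧ Odd l.length ∧
      (l.map Pt.t).prod = 1 := by
  have hz := (sgn_or h).resolve_left hn
  obtain ⟨T, h1, h2⟩ := CLQ (D := hatE D) (fun a b z n => by
      simpa only [← dn_cm, dn_st] using hA (dn a) (dn b) (dn z) (by rwa [dn_cm]))
    Set.univ (fun _ _ _ _ => trivial) (c := ⟨_, hz⟩) (by rw [image_t_univ, hat_gen]; trivial)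
    (fun s _ => dn_inj (by rw [dn_smul, one_smul]))
  obtain ⟨l, h3, h4, h5⟩ := exists_list h1 h2
  have := hat_prod l
  rw [h5, Prod.ext_iff] at this
  refine ⟨l.map dn, h3.map dn_inj, fun a ha b hb => ?_, ?_, this.1.symm⟩
  · obtain ⟨a, ha', rfl⟩ := List.mem_map.1 ha
    obtain ⟨b, hb', rfl⟩ := List.mem_map.1 hb
    exact dn_cm.2 (h1 a (h4 a ha') b (h4 b hb'))
  · rw [List.length_map, ← Nat.not_even_iff_odd]
    intro he
    have t := this.2
    simp only [he.neg_one_pow] at t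
    exact absurd t (by decide)

end Cfsg.Agent.Fs
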