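import Cfsg.Agent.Fis.U4
import Cfsg.Agent.Fx.KL
import Cfsg.Agent.Class.Orth4

/-!
Definitions for the inductive classification of irreducible classes of 3-transpositions.
-/
set_option autoImplicit false

namespace Cfsg.Agent.Fs

open Cfsg.Agent.Fis Cfsg.Agent.Class Subgroup Module

variable {G : Type*} [Group G] {D : Set G} [TT D] {H : Type*} [Group H] {E : Set H} [TT E]

/-- no affine planes (symplectic type) -/
def NoAG (D : Set G) [TT D] : Prop :=
  ∀ a b z : Pt D, ¬ Cm a b → Cm z a ∨ Cm z b ∨ Cm z (a ⋆ b)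

/-- a line is determined by the points commuting with it -/
def P4 (D : Set G) [TT D] : Prop :=
  ∀ x a b : Pt D, ¬ Cm x a → ¬ Cm x b → (∀ y ∈ DD x a, Cm y b) → b = a ∨ b = x ⋆ a

/-- there is a sign character -/
def Sgn (D : Set G) : Prop := ∃ χ : G →* ℤˣ, ∀ d ∈ D, χ d = -1

/-- `φ` identifies the points of `E` with the points commuting with `x` -/
structure Emb (x : Pt D) (φ : Pt E → Pt D) : Prop where
  inj : Function.Injective φ
  rng : ∀ y, y ∈ Dx x ↔ ∃ p, φ p = y
  st : ∀ p q, φ (p ⋆ q) = φ p ⋆ φ q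

structure Irr (D : Set G) [TT D] : Prop extends Prim D where
  cen : center G = ⊥
  ne : Nonempty (Pt D)

/-- the setting of an inductive step: `D` is not of polar type and is locally `E` -/
structure Ctx (D : Set G) [TT D] (E : Set H) [TT E] : Prop where
  irr : Irr D
  np : ¬ Pol D
  loc : Irr E
  emb : ∀ x : Pt D, ∃ φ : Pt E → Pt D, Emb x φ

/-- unitary type of dimension `n` -/
def UT (D : Set G) [TT D] (n : ℕ) : Prop :=
  U5 D ∧ P4 D ∧ ∃ (f : FS PK (Fin n → K4)) (Φ : Pt D → Fin n → K4), Model f Φ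

/-- reflections in the vectors of norm one of an orthogonal space over the field of order 3 -/
structure OModel {V : Type*} [AddCommGroup V] [Module (ZMod 3) V] (f : OS (ZMod 3) V)
    (Φ : Pt D → V) : Prop where
  nd : f.Nondeg
  q : ∀ a, f.Q (Φ a) = 1
  cm : ∀ a b, a ≠ b → (f.B (Φ a) (Φ b) = 0 ↔ Cm a b)
  inj : ∀ a b, Φ a = Φ b ∨ Φ a = - Φ b → a = b
  surj : ∀ v, f.Q v = 1 → ∃ a, v = Φ a ∨ v = - Φ a
  st : ∀ a b, Φ b - f.B (Φ a) (Φ b) • Φ a = Φ (a ⋆ b) ∨
    Φ b - f.B (Φ a) (Φ b) • Φ a = - Φ (a ⋆ b)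

/-- orthogonal type of dimension `n` -/
def OT (D : Set G) [TT D] (n : ℕ) : Prop :=
  ∃ (f : OS (ZMod 3) (Fin n → ZMod 3)) (Φ : Pt D → Fin n → ZMod 3), OModel f Φ

namespace Emb
variable {x : Pt D} {φ : Pt E → Pt D} (h : Emb x φ)
include h

theorem cm {p q : Pt E} : Cm (φ p) (φ q) ↔ Cm p q := by
  rw [Cm, Cm, ← h.st, h.inj.eq_iff]

theorem mem (p : Pt E) : φ p ∈ Dx x := (h.rng _).2 ⟨p, rfl⟩

theorem cmx (p : Pt E) : Cm x (φ p) := (h.mem p).2

theorem nex (p : Pt E) : φ p ≠ x := (h.mem p).1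

theorem ex {y : Pt D} (h1 : y ≠ x) (h2 : Cm x y) : ∃ p, φ p = y := (h.rng y).1 ⟨h1, h2⟩

/-- every element of the local group is induced by an element of `HH x` -/
theorem lift (hc : Cl E) (k : H) : ∃ g ∈ HH x, ∀ p, φ (k • p) = g • φ p := by
  have hk : k ∈ closure E := hc.gen ▸ mem_top k
  induction hk using closure_induction with
  | mem d hd => exact ⟨(φ ⟨d, hd⟩).t, t_mem_HH (h.mem _), fun p => h.st ⟨d, hd⟩ p⟩
  | one => exact ⟨1, one_mem _, fun p => by simp⟩
  | mul a b _ _ ha hb =>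
    obtain ⟨g, hg, e⟩ := ha
    obtain ⟨g', hg', e'⟩ := hb
    exact ⟨g * g', mul_mem hg hg', fun p => by rw [mul_smul, e, e', mul_smul]⟩
  | inv a _ ha =>
    obtain ⟨g, hg, e⟩ := ha
    exact ⟨g⁻¹, inv_mem hg, fun p => by rw [eq_inv_smul_iff, ← e, smul_inv_smul]⟩

/-- every element of `H1 x` induces an element of the local group -/
theorem down {g : G} (hg : g ∈ H1 x) : ∃ k : H, ∀ p, φ (k • p) = g • φ p := by
  induction hg using closure_induction with
  | mem d hd =>
    obtain ⟨y, hy, rfl⟩ := hd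
    by_cases e : y = x
    · exact ⟨1, fun p => by rw [one_smul, e]; exact (h.cmx p).eq.symm⟩
    · obtain ⟨q, rfl⟩ := h.ex e hy
      exact ⟨q.t, fun p => h.st q p⟩
  | one => exact ⟨1, fun p => by simp⟩
  | mul a b _ _ ha hb =>
    obtain ⟨g, e⟩ := ha
    obtain ⟨g', e'⟩ := hb
    exact ⟨g * g', fun p => by rw [mul_smul, e, e', mul_smul]⟩
  | inv a _ ha =>
    obtain ⟨g, e⟩ := ha
    exact ⟨g⁻¹, fun p => by rw [eq_inv_smul_iff, ← e, smul_inv_smul]⟩

theorem smul (g : G) : Emb (g • x) fun p => g • φ p where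
  inj a b e := h.inj (MulAction.injective g e)
  rng y := by
    constructor
    · rintro ⟨h1, h2⟩
      obtain ⟨p, hp⟩ := h.ex (y := g⁻¹ • y) (fun e => h1 (by rw [← e, smul_inv_smul]))
        (by rw [← cm_smul g, smul_inv_smul]; exact h2)
      exact ⟨p, by rw [hp, smul_inv_smul]⟩
    · rintro ⟨p, rfl⟩
      exact ⟨fun e => h.nex p (MulAction.injective g e), (h.cmx p).smul g⟩
  st p q := by rw [h.st, smul_st]

end Emb

/-- the property `P4` passes from the local structure to the whole -/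
theorem Ctx.p4 [Finite G] (c : Ctx D E) (h : P4 E) : P4 D := by
  intro x a b ha hb hs
  obtain ⟨e, h1, h2⟩ := c.irr.exists_DD x a
  have h3 := hs e ⟨h1, h2⟩
  obtain ⟨φ, l⟩ := c.emb e
  obtain ⟨x', rfl⟩ := l.ex (y := x) (fun t => ha (t ▸ h2)) h1
  obtain ⟨a', rfl⟩ := l.ex (y := a) (fun t => ha (t ▸ h1.symm)) h2
  obtain ⟨b', rfl⟩ := l.ex (y := b) (fun t => hb (t ▸ h1.symm)) h3
  rw [← l.st, l.inj.eq_iff, l.inj.eq_iff]
  exact h x' a' b' (by rwa [l.cm] at ha) (by rwa [l.cm] at hb) fun y hy =>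
    l.cm.1 (hs _ ⟨l.cm.2 hy.1, l.cm.2 hy.2⟩)

/-- a short relation between commuting points forces polar type -/
theorem pol_of_rel [Finite G] (h : Prim D) {a b c : Pt D} {l : List (Pt D)}
    (hl : (a :: b :: c :: l).Pairwise Cm) (hn : (a :: b :: c :: l).Nodup) (h2 : l.length ≤ 2)
    (hp : ∀ y : Pt D, ((a :: b :: c :: l).map Pt.t).prod • y = y) : Pol D := by
  classical
  have hab : a ≠ b := fun e => by simp [e] at hn
  have hac : c ≠ a := fun e => by simp [e] at hn
  have hbc : c ≠ b := fun e => by simp [e] at hn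
  have cab : Cm a b := (List.pairwise_cons.1 hl).1 b (by simp)
  have hc : c ∈ Ln a b := by
    intro y ya yb
    obtain ⟨k1, k3, -, k2⟩ := Fx.klem_pt y _ hl (hp y)
    have k2 := k2 hn
    by_contra hy
    rw [List.filter_cons_of_neg (by simpa using ya.symm),
      List.filter_cons_of_neg (by simpa using yb.symm),
      List.filter_cons_of_pos (by simpa using nc_symm hy), List.length_cons] at k1 k2 k3
    have := List.length_filter_le (fun p => decide ¬ Cm p y) l
    omega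
  refine ⟨h, fun x e he => ?_⟩
  obtain ⟨g, rfl, rfl⟩ := h.tr2 (a := a) (b := b) ⟨hab.symm, cab⟩ he
  exact ⟨g • c, Ln_smul g hc, fun e => hac (MulAction.injective g e),
    fun e => hbc (MulAction.injective g e)⟩

section transport
variable {V W : Type*} [AddCommGroup V] [AddCommGroup W]

theorem Model.comap {F : Type*} [Field F] {P : FP F} [Module F V] [Module F W]
    [FiniteDimensional F W] {f : FS P V} {Φ : Pt D → V} (h : Model f Φ) (e : W ≃ₗ[F] V) :
    Model (f.comap e.toLinearMap) fun a => e.symm (Φ a) where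
  nd := FS.IsIso.nondeg (f := f) (e := e) ⟨fun _ _ => rfl, fun _ => rfl⟩ h.nd
  cm a b := by simpa using h.cm a b
  surj v hv hq := by
    obtain ⟨a, c, h1, h2⟩ := h.surj (e v) (by simpa using hv) hq
    exact ⟨a, c, h1, by rw [← map_smul, ← h2, e.symm_apply_apply]⟩
  st a b := by
    obtain ⟨c, h1, h2⟩ := h.st a b
    exact ⟨c, h1, by rw [← map_smul e.symm c, ← h2]; simp⟩

theorem OModel.comap [Module (ZMod 3) V] [Module (ZMod 3) W] [FiniteDimensional (ZMod 3) W]
    {f : OS (ZMod 3) V} {Φ : Pt D → V} (h : OModel f Φ) (e : W ≃ₗ[ZMod 3] V) :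
    OModel (f.comap e.toLinearMap) fun a => e.symm (Φ a) where
  nd := FS.IsIso.nondeg (f := f) (e := e) ⟨fun _ _ => rfl, fun _ => rfl⟩ h.nd
  q a := by simpa using h.q a
  cm a b hab := by simpa using h.cm a b hab
  inj a b t := h.inj a b (t.imp (fun t => e.symm.injective t) fun t => e.symm.injective (by rw [map_neg]; exact t))
  surj v hq := by
    obtain ⟨a, h2⟩ := h.surj (e v) hq
    exact ⟨a, h2.imp (fun t => by rw [← t, e.symm_apply_apply])
      fun t => by rw [← map_neg, ← t, e.symm_apply_apply]⟩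
  st a b := (h.st a b).imp (fun t => by rw [← t]; simp) fun t => by rw [← map_neg, ← t]; simp

theorem ut_of_model [Module K4 V] [FiniteDimensional K4 V] (h5 : U5 D) (h4 : P4 D)
    {f : FS PK V} {Φ : Pt D → V} (h : Model f Φ) {n : ℕ} (hn : finrank K4 V = n) : UT D n :=
  ⟨h5, h4, _, _, Model.comap h (LinearEquiv.ofFinrankEq (Fin n → K4) V (by simp [hn]))⟩

theorem OModel.ot [Module (ZMod 3) V] [FiniteDimensional (ZMod 3) V]
    {f : OS (ZMod 3) V} {Φ : Pt D → V} (h : OModel f Φ) {n : ℕ} (hn : finrank (ZMod 3) V = n) :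
    OT D n :=
  ⟨_, _, h.comap (LinearEquiv.ofFinrankEq (Fin n → ZMod 3) V (by simp [hn]))⟩

end transport

/-- polar type: symplectic or unitary -/
theorem pol_cases [Finite G] (h : Irr D) (hp : Pol D) : NoAG D ∨ ∃ n, 4 ≤ n ∧ UT D n := by
  obtain ⟨x⟩ := h.ne
  obtain ⟨a, ha⟩ := h.toPrim.exists_nc' h.cen x
  rcases hp.three_or_five with h3 | h5
  · exact Or.inl fun a b z hab => hp.noAG h3 hab
  · have h' : U5 D := ⟨hp, h5, h.cen⟩
    obtain ⟨κ, W, f, r, hW⟩ := h'.exists_wd ha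
    obtain ⟨Φ, hM⟩ := hW.model h' ha
    refine Or.inr ⟨_, hM.four_le hp (fun v hv => (FS.herm_Q _ v).trans hv) ha,
      ut_of_model h' (fun x a b ha hb hs => ?_) hM rfl⟩
    obtain ⟨κ, W, f, r, hW⟩ := h'.exists_wd ha
    exact hW.P4x h' ha hb hs

end Cfsg.Agent.Fs
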