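import Cfsg.Agent.Fs.Def

/-!
The local structure of an irreducible class of 3-transpositions which is not of polar type.
-/
set_option autoImplicit false

namespace Cfsg.Agent.Fs

open Cfsg.Agent.Fis Subgroup
open scoped commutatorElement

universe u

variable {G : Type u} [Group G] {D : Set G} [TT D]

theorem mul_mem_comm (h : Cl D) (a b : Pt D) : a.t * b.t ∈ commutator G := by
  obtain ⟨g, rfl⟩ := h.tr a b
  have : a.t * (g • a).t = ⁅a.t, g⁆ := by
    rw [smul_t, commutatorElement_def, a.inv]; group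
  rw [this]
  exact commutator_mem_commutator (mem_top _) (mem_top _)

theorem cm_mem_comm2 (h : Cl D) {e f : Pt D} (hc : Cm e f) :
    e.t * f.t ∈ ⁅commutator G, commutator G⁆ := by
  by_cases hef : e = f
  · rw [hef, f.sq]; exact one_mem _
  obtain ⟨z, h1, h2⟩ := h.diam hef hc
  have u3 := cube_eq_one h1
  have v2 := sq_eq_one hc
  have w3 : (e.t * f.t * (z.t * e.t)) ^ 3 = 1 := by
    have := cube_eq_one (nc_symm h2)
    rw [show e.t * f.t * (z.t * e.t) = e.t * (f.t * z.t) * e.t⁻¹ by rw [e.inv]; group,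
      conj_pow, this]; group
  have m := commutator_mem_commutator (mul_mem_comm h z e) (mul_mem_comm h e f)
  generalize z.t * e.t = u at *
  generalize e.t * f.t = v at *
  have a1 : v⁻¹ = v := by rw [inv_eq_iff_mul_eq_one, ← pow_two, v2]
  have a2 : u * u = u⁻¹ := by rw [eq_inv_iff_mul_eq_one, ← pow_three', u3]
  have a3 : u * v * u = v * u⁻¹ * v := by
    have : v * u * v * (u * v * u) = 1 := by rw [← w3, pow_three]; group
    rw [eq_inv_of_mul_eq_one_right this, mul_inv_rev, mul_inv_rev, a1, mul_assoc]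
  have a4 : v = u * ⁅u, v⁆ * u⁻¹ := by
    rw [commutatorElement_def, a1, show u * (u * v * u⁻¹ * v) = u * u * (v * u⁻¹ * v) by group,
      ← a3, a2]; group
  rw [a4]
  exact Normal.conj_mem inferInstance _ m u

/-- a class whose commuting graph is connected has perfect derived group -/
theorem perf_of_conn (h : Cl D) (hc : ∀ P : Pt D → Prop, (∀ x y, P x → Cm x y → P y) →
    ∀ x y, P x → P y) : ⁅commutator G, commutator G⁆ = commutator G := by
  refine le_antisymm (commutator_le_left _ _) ?_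
  set K := ⁅commutator G, commutator G⁆
  have h1 : ∀ x y : Pt D, x.t * y.t ∈ K := fun x y =>
    hc (fun y => x.t * y.t ∈ K) (fun y z hy hz => by
      have := mul_mem hy (cm_mem_comm2 h hz)
      rwa [mul_assoc, y.sq'] at this) x y (by rw [x.sq]; exact one_mem _)
  have h2 : ∀ a b : G ⧸ K, a * b = b * a := by
    have h3 : ∀ x : Pt D, ∀ b : G, (x.t : G ⧸ K) * b = b * x.t := fun x b => by
      have hb : b ∈ closure D := h.gen ▸ mem_top b
      induction hb using closure_induction with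
      | mem d hd =>
        have : (x.t : G ⧸ K) = d := QuotientGroup.eq.2 (by rw [x.inv]; exact h1 x ⟨d, hd⟩)
        rw [this]
      | one => simp
      | mul a b _ _ ha hb => exact (Commute.mul_right ha hb).eq
      | inv a _ ha => exact (Commute.inv_right ha).eq
    intro a b
    obtain ⟨a, rfl⟩ := QuotientGroup.mk_surjective a
    obtain ⟨b, rfl⟩ := QuotientGroup.mk_surjective b
    have ha : a ∈ closure D := h.gen ▸ mem_top a
    induction ha using closure_induction with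
    | mem d hd => exact h3 ⟨d, hd⟩ b
    | one => simp
    | mul a c _ _ ha hb => exact (Commute.mul_left ha hb).eq
    | inv a _ ha => exact (Commute.inv_left ha).eq
  rw [commutator_def, commutator_le]
  intro a _ b _
  rw [← QuotientGroup.eq_one_iff (N := K), commutatorElement_def]
  simp [h2 (a : G ⧸ K) b]

variable [Finite G]

theorem loc_conn (h : Irr D) (np : ¬ Pol D) (ns : ¬ Nonempty (G ≃* Equiv.Perm (Fin 5))) (e : Pt D)
    (P : Pt D → Prop) (hP : ∀ x y, y ∈ Dx e → P x → Cm x y → P y) {x a : Pt D} (hx : x ∈ Dx e)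
    (ha : a ∈ Dx e) (px : P x) : P a := by
  by_contra pa
  have xa : ¬ Cm x a := fun t => pa (hP x a ha px t)
  have i1 : ∀ f ∈ DD x a, Cm e f → f = e := fun f hf c => by
    by_contra hne
    exact pa (hP f a ha (hP x f ⟨hne, c⟩ px hf.1.symm) hf.2)
  have me : e ∈ DD x a := ⟨hx.2, ha.2⟩
  have i2 : ∀ f ∈ DD x a, ∀ g ∈ DD x a, Cm f g → g = f := fun f hf g hg c => by
    by_cases hfe : f = e
    · exact hfe ▸ i1 g hg (hfe ▸ c)
    have n : ¬ Cm e f := fun t => hfe (i1 f hf t)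
    have m : ∀ y ∈ DD x a, (e ⋆ f) ⋆ y ∈ DD x a := fun y hy =>
      ⟨((me.1.symm.st_right hf.1.symm).st_right hy.1.symm).symm,
        ((me.2.symm.st_right hf.2.symm).st_right hy.2.symm).symm⟩
    have := i1 _ (m g hg) (by have := c.st (e ⋆ f); rwa [st_st_snd n] at this)
    exact st_inj (this.trans (st_st_snd n).symm)
  have i3 : ∀ x' a' : Pt D, ¬ Cm x' a' → ∀ f ∈ DD x' a', ∀ g ∈ DD x' a', Cm f g → g = f := by
    intro x' a' n f hf g hg c
    obtain ⟨k, rfl⟩ := h.tr x x'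
    obtain ⟨j, j1, rfl⟩ := h.toPrim.trA (d := k • x) (a := k • a) (by rwa [cm_smul]) n
    rw [← j1, ← mul_smul, ← mul_smul] at hf hg
    have t : ∀ y ∈ DD ((j * k) • x) ((j * k) • a), (j * k)⁻¹ • y ∈ DD x a := fun y hy =>
      ⟨cm_smul_iff.1 hy.1, cm_smul_iff.1 hy.2⟩
    exact MulAction.injective _ (i2 _ (t f hf) _ (t g hg) (c.smul _))
  by_cases hf : ∃ f ∈ Dx e, f ≠ x ∧ Cm x f
  · obtain ⟨f, h1, h2, h3⟩ := hf
    have hl : f ∈ Ln e x := fun y y1 y2 => by
      by_contra n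
      exact hx.1 (i3 y f n e ⟨y1.symm, h1.2⟩ x ⟨y2.symm, h3⟩ hx.2)
    refine np ⟨h.toPrim, fun x' e' he => ?_⟩
    obtain ⟨g, rfl, rfl⟩ := h.toPrim.tr2 hx he
    exact ⟨g • f, Ln_smul g hl, fun t => h1.1 (MulAction.injective g t),
      fun t => h2 (MulAction.injective g t)⟩
  · refine ns (h.toPrim.th_S5 h.cen hx (e0' := a) ⟨ha, xa, fun y y1 y2 y3 => ?_⟩)
    by_cases hy : y = e
    · rw [hy]; exact ha.2
    · exact absurd ⟨y, ⟨hy, y1.symm⟩, y3, y2.symm⟩ hf

theorem Irr.noncen (h : Irr D) {x y : Pt D} (hy : y ∈ Dx x) : ∃ z ∈ Dx x, ¬ Cm y z := by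
  obtain ⟨z, z1, z2, z3⟩ := h.toPrim.sep hy.1.symm
  exact ⟨z, ⟨z1, z2⟩, z3⟩

theorem mem_center_HH {x : Pt D} {g : HH x} : g ∈ center (HH x) ↔ ∀ y ∈ Dx x, g.1 • y = y := by
  constructor
  · intro hg y hy
    rw [smul_eq_iff_commute]
    exact (congrArg Subtype.val (mem_center_iff.1 hg ⟨y.t, t_mem_HH hy⟩)).symm
  · intro hg
    rw [mem_center_iff]
    rintro ⟨k, hk⟩
    refine Subtype.ext ?_
    show k * g.1 = g.1 * k
    induction hk using closure_induction with
    | mem d hd =>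
      obtain ⟨y, hy, rfl⟩ := hd
      exact (smul_eq_iff_commute.1 (hg y hy)).symm
    | one => simp
    | mul a b _ _ ha hb => exact (Commute.mul_left ha hb).eq
    | inv a _ ha => exact (Commute.inv_left ha).eq

/-- the image of the local class -/
def LD (x : Pt D) : Set (HH x ⧸ center (HH x)) :=
  {q | ∃ y, ∃ hy : y ∈ Dx x, q = ((⟨y.t, t_mem_HH hy⟩ : HH x) : HH x ⧸ center (HH x))}

theorem Irr.ld_inj (h : Irr D) {x y z : Pt D} (hy : y ∈ Dx x) (hz : z ∈ Dx x)
    (e : ((⟨y.t, t_mem_HH hy⟩ : HH x) : HH x ⧸ center (HH x)) = (⟨z.t, t_mem_HH hz⟩ : HH x)) :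
    y = z := by
  by_contra hne
  obtain ⟨w, hw, n⟩ := h.noncen hy
  have := mem_center_HH.1 (QuotientGroup.eq.1 e) w hw
  simp only [coe_mul, coe_inv, y.inv] at this
  exact n ((mul_smul_eq_iff hne).1 this).1

theorem Irr.ld_tt (h : Irr D) (x : Pt D) : TT (LD x) where
  sq := by
    rintro _ ⟨y, hy, rfl⟩
    rw [← QuotientGroup.mk_mul, ← QuotientGroup.mk_one]
    exact congrArg _ (Subtype.ext y.sq)
  ne := by
    rintro _ ⟨y, hy, rfl⟩ e
    obtain ⟨w, hw, n⟩ := h.noncen hy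
    exact n (mem_center_HH.1 ((QuotientGroup.eq_one_iff _).1 e) w hw)
  three := by
    rintro _ ⟨y, hy, rfl⟩ _ ⟨z, hz, rfl⟩
    simp only [← QuotientGroup.mk_mul]
    exact (TT.three _ y.mem _ z.mem).imp (fun e => congrArg _ (Subtype.ext e))
      fun e => congrArg _ (Subtype.ext e)
  conj := by
    rintro g _ ⟨y, hy, rfl⟩
    obtain ⟨g, rfl⟩ := QuotientGroup.mk_surjective g
    exact ⟨g.1 • y, Dx_smul (HH_fix g.2) hy, rfl⟩

theorem exists_ctx (h : Irr D) (np : ¬ Pol D) (ns : ¬ Nonempty (G ≃* Equiv.Perm (Fin 5))) :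
    ∃ (H : Type u) (_ : Group H) (_ : Finite H) (E : Set H) (_ : TT E),
      Ctx D E ∧ Nat.card H < Nat.card G := by
  obtain ⟨x⟩ := h.ne
  haveI := h.ld_tt x
  obtain ⟨a, ha⟩ := h.toPrim.exists_nc' h.cen x
  choose φ hφ eφ using fun p : Pt (LD x) => p.mem
  have emb : Emb x φ := by
    refine ⟨fun p q e => Pt.ext (by rw [eφ p, eφ q]; simp only [e]), fun y => ⟨fun hy => ?_, ?_⟩,
      fun p q => ?_⟩
    · exact ⟨⟨_, y, hy, rfl⟩, (h.ld_inj hy (hφ _) (eφ ⟨_, y, hy, rfl⟩)).symm⟩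
    · rintro ⟨p, rfl⟩; exact hφ p
    · refine h.ld_inj (hφ _) (Dx_st (hφ p) (hφ q)) ?_
      rw [← eφ, st_t, eφ p, eφ q, ← QuotientGroup.mk_mul, ← QuotientGroup.mk_mul]
      exact congrArg _ (Subtype.ext (st_t _ _).symm)
  have cl : Cl (LD x) := by
    refine ⟨?_, fun p q => ?_⟩
    · rw [eq_top_iff]
      rintro q -
      obtain ⟨⟨g, hg⟩, rfl⟩ := QuotientGroup.mk_surjective q
      induction hg using closure_induction with
      | mem d hd =>
        obtain ⟨y, hy, rfl⟩ := hd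
        exact subset_closure ⟨y, hy, rfl⟩
      | one => exact one_mem _
      | mul a b ha' hb' ha hb => exact mul_mem ha hb
      | inv a ha' ha => exact inv_mem ha
    · obtain ⟨g, hg, e⟩ := h.toPrim.trD (hφ p) (hφ q)
      obtain ⟨k, hk⟩ := emb.down (HH_le_H1 x hg)
      exact ⟨k, emb.inj (by rw [hk, e])⟩
  have hF : fittingSubgroup (HH x) ≤ center (HH x) := Core.fitting_le_iff.2 fun p hp => by
    by_contra hn
    by_cases h2 : p = 2
    · subst h2
      exact np (h.toPrim.pol_of _ hn (Core.pCore_isPGroup 2))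
    · obtain ⟨n, hn'⟩ := (Core.pCore_isPGroup (G := HH x) p).exists_card_eq
      exact ns (h.toPrim.odd_S5 h.cen _ hn (by
        rw [hn']; exact Nat.Coprime.pow_left _ ((Nat.coprime_primes hp.out Nat.prime_two).2 h2)))
  have sol : ∀ N : Subgroup (HH x ⧸ center (HH x)), N.Normal → Group.IsSolvable N → N = ⊥ := by
    intro N hN hs
    have hc : Group.IsSolvable (center (HH x)) :=
      Group.isSolvable_of_comm (fun a b => Subtype.ext (Subgroup.mem_center_iff.1 b.2 a))
    have := (Core.le_fitting_of_solvable_of_le_centralizer (Core.isSolvable_comap_mk' hc hs)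
      (fun g _ k hk => (Subgroup.mem_center_iff.1 (hF hk) _).symm)).trans hF
    rw [eq_bot_iff]
    intro q hq
    obtain ⟨g, rfl⟩ := QuotientGroup.mk_surjective q
    exact (QuotientGroup.eq_one_iff _).2 (this hq)
  obtain ⟨y, y1, y2, -⟩ := h.toPrim.sep (ne_of_nc ha)
  refine ⟨_, inferInstance, inferInstance, LD x, inferInstance, ⟨h, np, ⟨⟨cl, perf_of_conn cl
    fun P hP p q hp => ?_, fun N h1 h2 => (sol N h1 h2).le.trans bot_le⟩, center_bot sol,
    ⟨⟨_, y, ⟨y1, y2⟩, rfl⟩⟩⟩, fun x' => ?_⟩, ?_⟩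
  · obtain ⟨r, h1, h2⟩ := loc_conn h np ns x (fun y => ∃ r, φ r = y ∧ P r) (by
      rintro _ z hz ⟨r, rfl, hr⟩ c
      obtain ⟨s, rfl⟩ := (emb.rng z).1 hz
      exact ⟨s, rfl, hP r s hr (emb.cm.1 c)⟩) (hφ p) (hφ q) ⟨p, rfl, hp⟩
    exact emb.inj h1 ▸ h2
  · obtain ⟨g, rfl⟩ := h.tr x x'
    exact ⟨_, emb.smul g⟩
  · refine lt_of_le_of_lt (Nat.card_le_card_of_surjective _ QuotientGroup.mk_surjective) ?_
    refine lt_of_le_of_ne (card_le_card_group _) fun e => ha ?_
    exact (show Cm a x from HH_fix (eq_top_of_card_eq _ e ▸ mem_top a.t)).symm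

theorem three_cases {K : Type*} [Group K] [Finite K] (h9 : ¬ 9 ∣ Nat.card K) {s t : K}
    (hs : s ^ 3 = 1) (ht : t ^ 3 = 1) (hc : Commute s t) (h1 : s ≠ 1) :
    t = 1 ∨ t = s ∨ t = s⁻¹ := by
  classical
  haveI : Fact (Nat.Prime 3) := ⟨Nat.prime_three⟩
  have o1 := orderOf_eq_prime hs h1
  have hm : t ∈ zpowers s := by
    by_contra hn
    have h2 : t ≠ 1 := fun e => hn (e ▸ one_mem _)
    have o2 := orderOf_eq_prime ht h2
    have hd : Disjoint (zpowers s) (zpowers t) := by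
      rw [disjoint_iff]
      haveI : Fact (Nat.card (zpowers t)).Prime := ⟨by rw [Nat.card_zpowers, o2]; norm_num⟩
      rcases (zpowers s).subgroupOf (zpowers t) |>.eq_bot_or_eq_top_of_prime_card with e | e
      · rwa [subgroupOf_eq_bot, disjoint_iff] at e
      · exact absurd (subgroupOf_eq_top.1 e (mem_zpowers t)) hn
    have hcm : ∀ (a : zpowers s) (b : zpowers t), Commute (a : K) (b : K) := by
      rintro ⟨_, i, rfl⟩ ⟨_, j, rfl⟩; exact hc.zpow_zpow i j
    have := card_dvd_of_injective (MonoidHom.noncommCoprod (zpowers s).subtype (zpowers t).subtype hcm)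
      ((MonoidHom.noncommCoprod_injective _ _ _).2 ⟨subtype_injective _, subtype_injective _, by
        rwa [range_subtype, range_subtype]⟩)
    rw [Nat.card_prod, Nat.card_zpowers, Nat.card_zpowers, o1, o2] at this
    exact h9 this
  rw [mem_zpowers_iff_mem_range_orderOf, o1] at hm
  obtain ⟨i, hi, rfl⟩ := Finset.mem_image.1 hm
  rw [Finset.mem_range] at hi
  interval_cases i
  · simp
  · simp
  · exact Or.inr (Or.inr (by rw [eq_inv_iff_mul_eq_one, ← pow_succ, hs]))

omit [Finite G] in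
theorem tri_comm {x a b : Pt D} (h1 : ¬ Cm x a) (h2 : ¬ Cm x b) (h3 : ¬ Cm a b) :
    (b ⋆ x).t * a.t * ((x ⋆ a).t * b.t) = x.t * (a ⋆ b).t ∧
      (x ⋆ a).t * b.t * ((b ⋆ x).t * a.t) = x.t * (a ⋆ b).t := by
  have e1 := congrArg Pt.t (st_comm h1)
  have e2 := congrArg Pt.t (st_comm h2)
  rw [st_t, st_t] at e1 e2
  constructor
  · rw [st_t x a, e1, st_t b x, ← e2, st_t]
    calc x.t * b.t * x.t * a.t * (a.t * x.t * a.t * b.t)
        = x.t * b.t * (x.t * (a.t * (a.t * (x.t * (a.t * b.t))))) := by group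
      _ = x.t * (b.t * a.t * b.t) := by rw [a.sq', x.sq']; group
      _ = _ := by rw [← st_t, ← st_t, st_comm h3]
  · rw [st_t x a, st_t b x, ← e2, st_t]
    calc x.t * a.t * x.t * b.t * (x.t * b.t * x.t * a.t)
        = x.t * a.t * (x.t * b.t * x.t) * b.t * x.t * a.t := by group
      _ = x.t * a.t * (b.t * x.t * (b.t * (b.t * (x.t * (1 : G))))) * a.t := by rw [e2]; group
      _ = _ := by rw [b.sq', mul_assoc b.t, x.sq']; group

theorem noAG_of_card (h9 : ¬ 9 ∣ Nat.card G) : NoAG D := by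
  intro x a b h1
  by_contra hn
  push Not at hn
  obtain ⟨h2, h3, h4⟩ := hn
  have h5 : ¬ Cm (b ⋆ x) a := by rwa [← st_comm (nc_symm h2), ← cm_st_iff]
  obtain ⟨e1, e2⟩ := tri_comm h1 (nc_symm h2) (nc_symm h3)
  have n1 : ∀ {u v : Pt D}, ¬ Cm u v → u.t * v.t ≠ 1 := fun {u v} h e =>
    ne_of_nc h (Pt.ext (by rw [eq_inv_of_mul_eq_one_left e, v.inv]))
  rcases three_cases h9 (cube_eq_one (nc_symm h4)) (cube_eq_one h5) (e2.trans e1.symm)
    (n1 (nc_symm h4)) with e | e | e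
  · exact n1 h5 e
  · rw [← st_comm (nc_symm h2), st_t, st_t] at e
    have e3 : Commute (x.t * a.t) (x.t * b.t) := by
      show _ = _
      rw [← mul_assoc, ← mul_assoc, e]
    rcases three_cases h9 (cube_eq_one h1) (cube_eq_one (nc_symm h2)) e3 (n1 h1) with e | e | e
    · exact n1 (nc_symm h2) e
    · exact ne_of_nc h3 (Pt.ext (mul_left_cancel e))
    · refine ne_of_nc h4 (Pt.ext ?_)
      rw [st_t, mul_assoc, ← a.inv, ← x.inv, ← mul_inv_rev, ← e, x.inv, x.sq']
  · rw [e, inv_mul_cancel] at e1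
    have : x = a ⋆ b := Pt.ext (by rw [eq_inv_of_mul_eq_one_left e1.symm, Pt.inv])
    exact h4 (by rw [this, st_st_fst (nc_symm h3)]; exact Cm.refl b)

end Cfsg.Agent.Fs
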