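import Cfsg.Agent.Fs.O3b

/-! The inductive step for orthogonal spaces over the field of order 3. -/
set_option autoImplicit false

namespace Cfsg.Agent.Fs

open Cfsg.Agent.Fis Cfsg.Agent.Class Module

local notation "K" => ZMod 3

variable {G : Type*} [Group G] {D : Set G} [TT D]
variable {V : Type*} [AddCommGroup V] [Module K V] {f : OS K V}

namespace O3

theorem omodel (h4 : P4 D) {Φ : Pt D → V} (nd : f.Nondeg) (q : ∀ a, f.Q (Φ a) = 1)
    (cm : ∀ a b, a ≠ b → (f.B (Φ a) (Φ b) = 0 ↔ Cm a b))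
    (inj : ∀ a b, Φ a = Φ b ∨ Φ a = - Φ b → a = b)
    (surj : ∀ v, f.Q v = 1 → ∃ a, v = Φ a ∨ v = - Φ a) : OModel f Φ := by
  refine ⟨nd, q, cm, inj, surj, fun a b => ?_⟩
  by_cases e : a = b
  · subst e
    rw [st_self, Bpt (q a)]
    exact Or.inr (by linear_combination (norm := module) h3 • Φ a)
  by_cases c : Cm a b
  · simp [(cm a b e).2 c, c.eq]
  have n : f.B (Φ a) (Φ b) ≠ 0 := fun t => c ((cm a b e).1 t)
  obtain ⟨z, hz⟩ := surj (Φ b - f.B (Φ a) (Φ b) • Φ a) (by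
    rw [FS.orth_Q_sub, f.orth_Q_smul, q, q, map_smul, Bs (Φ b)]; simp)
  have k : ∀ y, f.B y (Φ z) = 0 ↔ f.B y (Φ b - f.B (Φ a) (Φ b) • Φ a) = 0 := fun y => by
    rcases hz with t | t <;> simp [t]
  have az : a ≠ z := fun t => by
    subst t
    apply e
    apply inj
    rcases kpm n with s | s <;> rw [s] at hz <;> rcases hz with t | t
    · exact Or.inr (by linear_combination (norm := module) t + h3 • Φ a)
    · exact (pt_ne (q b) (by linear_combination (norm := module) t)).elim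
    · exact (pt_ne (q b) (by linear_combination (norm := module) t)).elim
    · exact Or.inl (by linear_combination (norm := module) (-1 : K) • t + h3 • Φ a)
  rcases h4 a b z c (by
      rw [← cm a z az, k]; simp [Bpt (q a)]
      intro t; apply n; linear_combination (-1 : K) * t + f.B (Φ a) (Φ b) * h3)
    (fun y hy => by
      by_cases t : y = z
      · rw [t]; exact Cm.refl _
      rw [← cm y z t, k]
      simp [(cm y a fun s => c (s ▸ hy.2)).2 hy.1, (cm y b fun s => c (s ▸ hy.1.symm)).2 hy.2])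
    with rfl | rfl
  · exfalso
    rcases hz with t | t
    · exact pt_ne (q a) (by simpa [n] using t)
    · apply e; apply inj
      rcases kpm n with s | s <;> rw [s] at t
      · exact Or.inr (by linear_combination (norm := module) (-1 : K) • t + h3 • Φ z)
      · exact Or.inl (by linear_combination (norm := module) t + (-h3) • Φ z)
  · exact hz

structure Cx (f : OS K V) (x : Pt D) (ρ : V → Pt D) : Prop where
  hf : f.Nondeg
  hn : 5 ≤ finrank K V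
  hc : ∀ x : Pt D, ∃ ρ, Ch f x ρ
  h : Ch f x ρ
  dd : ∀ a b : Pt D, ∃ w, w ∈ DD a b

structure Wa (f : OS K V) (x : Pt D) (ρ : V → Pt D) (a : Pt D) (w : V) : Prop where
  n : ¬ Cm x a
  q : f.Q w = 0
  ne : w ≠ 0
  s : ∀ q, f.Q q = 1 → (Cm (ρ q) a ↔ f.B w q = 0)

def R (f : OS K V) (a : Pt D) (w : V) (b : Pt D) (u : V) : Prop := Cm a b ↔ f.B w u = 1

variable {x a b d e : Pt D} {ρ : V → Pt D} {w u y z p : V}

theorem R.comm : R f a w b u ↔ R f b u a w := by rw [R, R, cm_comm, Bs]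

theorem R.neg (n : f.B w u ≠ 0) : R f a w b (-u) ↔ ¬ R f a w b u := by
  rw [R, R, map_neg]
  rcases kpm n with t | t <;> rw [t]
  · simp only [iff_true, show (-1 : K) ≠ 1 by decide, iff_false]
  · simp only [neg_neg, iff_true, show (-1 : K) ≠ 1 by decide, iff_false, not_not]

theorem Wa.neg (h : Wa f x ρ a w) : Wa f x ρ a (-w) :=
  ⟨h.n, by rw [f.Q_neg, h.q], neg_ne_zero.2 h.ne, fun q hq => by simp [h.s q hq]⟩

theorem Wa.nrm (h : Wa f x ρ a w) {c : K} (n : c ≠ 0) : Wa f x ρ a (c • w) := by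
  rcases kpm n with rfl | rfl
  · rwa [one_smul]
  · rw [neg_smul, one_smul]; exact h.neg

namespace Cx
variable [FiniteDimensional K V] (c : Cx f x ρ)
include c

theorem p4 : P4 D := fun x a b xa xb hs => by
  obtain ⟨e, h1, h2⟩ := c.dd x a
  exact two c.hf c.hn c.hc h1 h2 (hs e ⟨h1, h2⟩) xa xb fun y _ _ y1 y2 => hs y ⟨y1, y2⟩

omit [FiniteDimensional K V] in
theorem pt (n : ¬ Cm x a) : ∃ e, f.Q e = 1 ∧ Cm (ρ e) a := by
  obtain ⟨e, h1, h2⟩ := c.dd x a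
  obtain ⟨e, he, rfl⟩ := c.h.ex (y := e) (fun t => n (t ▸ h2)) h1.symm
  exact ⟨e, he, h2⟩

theorem ex (n : ¬ Cm x a) : ∃ w, Wa f x ρ a w := by
  obtain ⟨e, he, h2⟩ := c.pt n
  obtain ⟨w, w1, w2, w3⟩ := s2 c.hf c.hn c.hc c.h n he h2
  exact ⟨w, n, w1, w2, w3⟩

omit [FiniteDimensional K V] in
theorem xst (h : Wa f x ρ a w) : Wa f x ρ (x ⋆ a) w :=
  ⟨nc_st_self h.n, h.q, h.ne, fun q hq => by rw [c.h.cm_xst hq, h.s q hq]⟩

omit [FiniteDimensional K V] in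
theorem rf (h : Wa f x ρ a w) (hp : f.Q p = 1) : Wa f x ρ (ρ p ⋆ a) (w - f.B p w • p) := by
  refine ⟨fun t => h.n ?_, ?_, fun t => h.ne ?_, fun q hq => ?_⟩
  · rwa [cm_st_iff, (c.h.cmx hp).eq'] at t
  · rw [FS.orth_Q_sub, f.orth_Q_smul, hp, h.q, map_smul, Bs w]; simp
  · have := congrArg (f.B p) t
    simp only [map_sub, map_smul, Bpt hp, smul_eq_mul, map_zero] at this
    have : f.B p w = 0 := by linear_combination (-1 : K) * this + f.B p w * h3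
    simpa [this] using t
  · rw [cm_st_iff, c.h.st _ _ hp hq, h.s _ (by
      rw [FS.orth_Q_sub, f.orth_Q_smul, hp, hq, map_smul, Bs q]; simp)]
    simp [Bs w p, mul_comm]

theorem uq (h : Wa f x ρ a w) (h' : Wa f x ρ a u) : u = w ∨ u = -w := by
  obtain ⟨e, he, h2⟩ := c.pt h.n
  exact uniq c.hf c.hn he h.q h.ne (by rw [Bs]; exact (h.s e he).1 h2)
    (fun p p1 _ p3 => by rw [Bs]; exact (h'.s p p1).1 ((h.s p p1).2 p3)) h'.q h'.ne
    (by rw [Bs]; exact (h'.s e he).1 h2)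

theorem pair (h : Wa f x ρ a w) (h' : Wa f x ρ b w) : b = a ∨ b = x ⋆ a :=
  c.p4 x a b h.n h'.n fun y hy => by
    obtain ⟨v, hv, rfl⟩ := c.h.ex (y := y) (fun t => h.n (t ▸ hy.2)) hy.1.symm
    exact (h'.s v hv).2 ((h.s v hv).1 hy.2)

omit [FiniteDimensional K V] in
theorem mv (h : Wa f x ρ a w) (hu : f.Q u = 0) (e : f.B w u = 1) :
    f.Q (w + u) = 1 ∧ ¬ Cm (ρ (w + u)) a ∧ Wa f x ρ (ρ (w + u) ⋆ a) u := by
  have q : f.Q (w + u) = 1 := by rw [f.orth_Q_add, h.q, hu, e]; simp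
  refine ⟨q, by rw [h.s _ q]; simp [B0 h.q, e], ?_⟩
  simpa [B0 h.q, Bs u w, e] using (c.rf h q).neg

omit c [FiniteDimensional K V] in
theorem nrm1 (n : f.B w u ≠ 0) : f.B w (f.B w u • u) = 1 := by rw [map_smul, smul_eq_mul, ksq n]

theorem surj (h : Wa f x ρ a w) (hu : f.Q u = 0) (u0 : u ≠ 0) : ∃ b, Wa f x ρ b u := by
  have k : ∀ a w u, Wa f x ρ a w → f.Q u = 0 → f.B w u ≠ 0 → ∃ b, Wa f x ρ b u :=
    fun a w u h hu n => by
      have := ((c.mv h (hyp_of h.q hu n).Q2 (nrm1 n)).2.2).nrm n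
      exact ⟨_, by rwa [smul_smul, ksq n, one_smul] at this⟩
  obtain ⟨y, y1, y2, y3⟩ := co2 c.hf c.hn h.q h.ne hu u0
  obtain ⟨b, hb⟩ := k a w y h y1 y2
  exact k b y u hb hu (by rwa [Bs])

theorem opp (h : Wa f x ρ a w) (h' : Wa f x ρ b u) (e : f.B w u = 1) :
    (¬ Cm a b ∧ b = ρ (w + u) ⋆ a ∧ Cm a (x ⋆ b)) ∨
      (Cm a b ∧ b = x ⋆ ρ (w + u) ⋆ a ∧ ¬ Cm a (x ⋆ b)) := by
  obtain ⟨q, n, m⟩ := c.mv h h'.q e
  have k1 := s4_cm (nc_symm h.n) (nc_symm n) (c.h.cmx q)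
  have k2 := nc_st_self' n
  rcases c.pair m h' with rfl | rfl
  · exact Or.inl ⟨k2, rfl, k1⟩
  · exact Or.inr ⟨k1, rfl, by rwa [st_st]⟩

theorem flip (h : Wa f x ρ a w) (h' : Wa f x ρ b u) (n : f.B w u ≠ 0) :
    R f a w (x ⋆ b) (-u) ↔ R f a w b u := by
  rw [R.neg n, R, R]
  rcases c.opp h (h'.nrm n) (nrm1 n) with t | t <;> simp [t.1, t.2.2]

theorem cm_opp (h : Wa f x ρ a w) (h' : Wa f x ρ b u) (ab : a ≠ b) (cm : Cm a b) :
    f.B w u ≠ 0 := by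
  have k := s4_cm h.n h'.n cm
  obtain ⟨p, hp, e⟩ := c.h.ex (y := a ⋆ b ⋆ x) (fun t => ab (st_left_inj (nc_symm h.n)
    (by rw [st_eq_iff] at t; exact t.symm))) k
  have s := swap2 h.n h'.n cm
  rw [← e] at s
  have n : f.B w p ≠ 0 := fun t => nc_st_self' h.n (by rwa [← s, ((h.s p hp).2 t).eq] at cm)
  have m := c.xst (c.rf h hp)
  rw [s] at m
  rcases c.uq m h' with rfl | rfl <;> simp [B0 h.q, Bs p w, n]

theorem tri0 (h1 : Wa f x ρ a w) (h2 : Wa f x ρ b u) (h3' : Wa f x ρ d y) (e1 : f.B w u = 1)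
    (e2 : f.B w y = 1) (c1 : Cm a b) (c2 : Cm a d) (n : f.B u y ≠ 0) : R f b u d y := by
  obtain ⟨q1, n1, -⟩ := c.mv h1 h2.q e1
  obtain ⟨q2, n2, -⟩ := c.mv h1 h3'.q e2
  obtain ⟨-, rfl, -⟩ := (c.opp h1 h2 e1).resolve_left fun t => t.1 c1
  obtain ⟨-, rfl, -⟩ := (c.opp h1 h3' e2).resolve_left fun t => t.1 c2
  rw [R, cm_st, st_comm n1, st_comm n2, cm_st, c.h.cm _ _ q1 q2 fun t => ?_]
  · simp only [map_add, LinearMap.add_apply, B0 h1.q, e1, e2, Bs u w]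
    generalize f.B u y = s; revert s; decide
  · rcases c.h.inj _ _ q1 q2 t with t | t
    · exact n (by rw [add_left_cancel t, B0 h3'.q])
    · have := congrArg (f.B w) t
      simp [B0 h1.q, e1, e2] at this
      exact absurd this (by decide)

theorem tri1 (h1 : Wa f x ρ a w) (h2 : Wa f x ρ b u) (h3' : Wa f x ρ d y) (n1 : f.B w u ≠ 0)
    (n2 : f.B w y ≠ 0) (n3 : f.B u y ≠ 0) (r1 : R f a w b u) (r2 : R f a w d y) :
    R f b u d y := by
  have k : ∀ b u d y, Wa f x ρ b u → Wa f x ρ d y → f.B w u = 1 → f.B w y ≠ 0 → f.B u y ≠ 0 →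
      R f a w b u → R f a w d y → R f b u d y := fun b u d y h2 h3' e1 n2 n3 r1 r2 => by
    rcases kpm n2 with t | t
    · exact c.tri0 h1 h2 h3' e1 t (r1.2 e1) (r2.2 t) n3
    · have t' : f.B w (-y) = 1 := by simp [t]
      rw [← c.flip h2 h3' n3]
      exact c.tri0 h1 h2 (c.xst h3').neg e1 t' (r1.2 e1) (((c.flip h1 h3' n2).2 r2).2 t')
        (by simpa using n3)
  rcases kpm n1 with t | t
  · exact k b u d y h2 h3' t n2 n3 r1 r2
  · rw [R.comm, ← c.flip h3' h2 (by rwa [Bs]), R.comm]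
    exact k _ _ d y (c.xst h2).neg h3' (by simp [t]) n2 (by simpa using n3)
      ((c.flip h1 h2 n1).2 r1) r2

theorem tri (h1 : Wa f x ρ a w) (h2 : Wa f x ρ b u) (h3' : Wa f x ρ d y) (n1 : f.B w u ≠ 0)
    (n2 : f.B w y ≠ 0) (n3 : f.B u y ≠ 0) : R f b u d y ↔ (R f a w b u ↔ R f a w d y) := by
  have n3' : f.B y u ≠ 0 := by rwa [Bs]
  have t1 := c.tri1 h1 h2 h3' n1 n2 n3
  have t2 := c.tri1 h1 h2 h3'.neg n1 (by simpa using n2) (by simpa using n3)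
  have t3 := c.tri1 h1 h3' h2.neg n2 (by simpa using n1) (by simpa using n3')
  have t4 := c.tri1 h1 h2.neg h3'.neg (by simpa using n1) (by simpa using n2) (by simpa using n3)
  rw [R.neg n2, R.neg n3] at t2
  rw [R.neg n1, R.neg n3', R.comm (a := d)] at t3
  rw [R.neg n1, R.neg n2, R.neg (by simpa using n3), R.comm (a := b), R.neg n3',
    R.comm (a := d)] at t4
  tauto

theorem four (h1 : Wa f x ρ a w) (h2 : Wa f x ρ b u) (h3' : Wa f x ρ d y) (h4 : Wa f x ρ e z)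
    (wy : f.B w y ≠ 0) (uy : f.B u y ≠ 0) (wz : f.B w z ≠ 0) (uz : f.B u z ≠ 0) :
    (R f a w d y ↔ R f b u d y) ↔ (R f a w e z ↔ R f b u e z) := by
  have k : ∀ d y e z, Wa f x ρ d y → Wa f x ρ e z → f.B w y ≠ 0 → f.B u y ≠ 0 → f.B w z ≠ 0 →
      f.B u z ≠ 0 → f.B y z ≠ 0 → ((R f a w d y ↔ R f b u d y) ↔ (R f a w e z ↔ R f b u e z)) :=
    fun d y e z h3' h4 wy uy wz uz n => by
      have t1 := c.tri h1 h3' h4 wy wz n
      have t2 := c.tri h2 h3' h4 uy uz n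
      tauto
  by_cases n : f.B w u = 0
  swap
  · have t1 := c.tri h1 h2 h3' n wy uy
    have t2 := c.tri h1 h2 h4 n wz uz
    tauto
  by_cases m : f.B y z = 0
  swap
  · exact k d y e z h3' h4 wy uy wz uz m
  obtain ⟨t, t0, t1, t2, t3, t4⟩ := co4 c.hf c.hn h1.q h2.q h3'.q n m wy uy wz
  obtain ⟨g, hg⟩ := c.surj h1 t0 (fun s => t1 (by simp [s]))
  exact (k d y g t h3' hg wy uy t1 t2 t3).trans (k e z g t h4 hg wz uz t1 t2 t4).symm

theorem orient (n0 : ¬ Cm x a) : ∃ σ : Pt D → V, (∀ b, ¬ Cm x b → Wa f x ρ b (σ b)) ∧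
    (∀ b d, ¬ Cm x b → ¬ Cm x d → b ≠ d → (Cm b d ↔ f.B (σ b) (σ d) = 1)) ∧
    (∀ b d, ¬ Cm x b → ¬ Cm x d → σ b = σ d → b = d) ∧
    ∀ u, f.Q u = 0 → u ≠ 0 → ∃ b, ¬ Cm x b ∧ σ b = u := by
  obtain ⟨w, h0⟩ := c.ex n0
  let Gd : Pt D → V → Prop := fun b u => Wa f x ρ b u ∧
    ∀ d y, Wa f x ρ d y → f.B w y ≠ 0 → f.B u y ≠ 0 → (R f a w d y ↔ R f b u d y)
  have com : ∀ b u, Wa f x ρ b u → ∃ d y, Wa f x ρ d y ∧ f.B w y ≠ 0 ∧ f.B u y ≠ 0 :=
    fun b u h => by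
      obtain ⟨y, y1, y2, y3⟩ := co2 c.hf c.hn h0.q h0.ne h.q h.ne
      obtain ⟨d, hd⟩ := c.surj h0 y1 (fun s => y2 (by simp [s]))
      exact ⟨d, y, hd, y2, y3⟩
  have ng : ∀ (b : Pt D) u (d : Pt D) y, f.B u y ≠ 0 → (R f b (-u) d y ↔ ¬ R f b u d y) := fun b u d y n => by
    rw [R.comm, R.neg (by rwa [Bs]), R.comm]
  have g1 : ∀ b u, Wa f x ρ b u → Gd b u ∨ Gd b (-u) := fun b u h => by
    obtain ⟨d, y, hd, y2, y3⟩ := com b u h
    by_cases t : R f a w d y ↔ R f b u d y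
    · exact Or.inl ⟨h, fun e z he z1 z2 => (c.four h0 h hd he y2 y3 z1 z2).1 t⟩
    · refine Or.inr ⟨h.neg, fun e z he z1 z2 =>
        (c.four h0 h.neg hd he y2 (by simpa using y3) z1 z2).1 ?_⟩
      rw [ng _ _ _ _ y3]; tauto
  have g2 : ∀ b u, Gd b u → ¬ Gd b (-u) := fun b u h h' => by
    obtain ⟨d, y, hd, y2, y3⟩ := com b u h.1
    have t1 := h.2 d y hd y2 y3
    have t2 := h'.2 d y hd y2 (by simpa using y3)
    rw [ng _ _ _ _ y3] at t2; tauto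
  have g3 : ∀ b u, Gd b u → Gd (x ⋆ b) (-u) := fun b u h => ⟨(c.xst h.1).neg, fun d y hd y2 y3 => by
    have y3 : f.B u y ≠ 0 := by simpa using y3
    rw [h.2 d y hd y2 y3, R.comm (a := x ⋆ b), c.flip hd h.1 (by rwa [Bs]), R.comm]⟩
  have g4 : ∀ b u d y, Gd b u → Gd d y → f.B u y ≠ 0 → R f b u d y := fun b u d y h h' n => by
    obtain ⟨z, z0, z1, z2, z3⟩ := co3 c.hf c.hn h0.q h0.ne h.1.q h'.1.q n
    obtain ⟨e, he⟩ := c.surj h0 z0 (fun s => z1 (by simp [s]))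
    rw [c.tri he h.1 h'.1 (by rwa [Bs]) (by rwa [Bs]) n, R.comm (a := e), R.comm (a := e),
      ← h.2 e z he z1 z2, ← h'.2 e z he z1 z3]
  have g5 : ∀ b, ∃ u, ¬ Cm x b → Gd b u := fun b => by
    by_cases n : Cm x b
    · exact ⟨0, fun t => (t n).elim⟩
    obtain ⟨u, h⟩ := c.ex n
    rcases g1 b u h with t | t
    · exact ⟨_, fun _ => t⟩
    · exact ⟨_, fun _ => t⟩
  choose σ hσ using g5
  have g6 : ∀ b u, Gd b u → σ b = u := fun b u h => by
    rcases c.uq h.1 (hσ b h.1.n).1 with t | t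
    · exact t
    · exact (g2 b u h (t ▸ hσ b h.1.n)).elim
  refine ⟨σ, fun b n => (hσ b n).1, fun b d n1 n2 bd => ?_, fun b d n1 n2 e => ?_, fun u u1 u2 => ?_⟩
  · by_cases n : f.B (σ b) (σ d) = 0
    · rw [n]
      exact iff_of_false (fun t => c.cm_opp (hσ b n1).1 (hσ d n2).1 bd t n) (by decide)
    · exact g4 _ _ _ _ (hσ b n1) (hσ d n2) n
  · rcases c.pair (hσ b n1).1 (e ▸ (hσ d n2).1) with t | t
    · exact t.symm
    · rw [t, g6 _ _ (g3 _ _ (hσ b n1))] at e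
      exact (ne_neg (hσ b n1).1.ne e).elim
  · obtain ⟨b, hb⟩ := c.surj h0 u1 u2
    rcases g1 b u hb with t | t
    · exact ⟨b, hb.n, g6 _ _ t⟩
    · exact ⟨x ⋆ b, nc_st_self hb.n, by simpa using g6 _ _ (g3 _ _ t)⟩

end Cx

/-- orthogonal sum with a vector of norm one -/
def ext (f : OS K V) : OS K (K × V) :=
  FS.mkOrth (fun z => z.1 * z.1 + f.Q z.2)
    (LinearMap.mk₂ K (fun z z' => 2 * (z.1 * z'.1) + f.B z.2 z'.2)
      (fun _ _ _ => by simp; ring) (fun _ _ _ => by simp; ring)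
      (fun _ _ _ => by simp; ring) (fun _ _ _ => by simp; ring))
    (fun _ _ => by simp [f.orth_Q_add]; ring) (fun _ _ => by simp [f.orth_Q_smul]; ring)

@[simp] theorem ext_Q (s : K) (v : V) : (ext f).Q (s, v) = s * s + f.Q v := rfl

@[simp] theorem ext_B (s t : K) (v u : V) : (ext f).B (s, v) (t, u) = 2 * (s * t) + f.B v u := rfl

theorem ext_nd [FiniteDimensional K V] (hf : f.Nondeg) : (ext f).Nondeg :=
  FS.nondeg_of_sep fun z hz => by
    obtain ⟨s, v⟩ := z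
    have h1 := hz (1, 0)
    have h2 : v = 0 := hf.eq_zero fun y => by simpa using hz (0, y)
    simp only [ext_B, mul_one, map_zero, add_zero] at h1
    have : s = 0 := by linear_combination 2 * h1 - s * h3
    simp [this, h2]

theorem Cx.ot [FiniteDimensional K V] (c : Cx f x ρ) (n0 : ¬ Cm x a) :
    OT D (finrank K V + 1) := by
  classical
  obtain ⟨σ, s1, s2, s3, s4⟩ := c.orient n0
  have : ∀ y : Pt D, ∃ z : K × V, (y = x ∧ z = (1, 0)) ∨ (∃ v, f.Q v = 1 ∧ ρ v = y ∧ z = (0, v)) ∨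
      (¬ Cm x y ∧ z = (1, σ y)) := fun y => by
    by_cases e : y = x
    · exact ⟨_, Or.inl ⟨e, rfl⟩⟩
    by_cases t : Cm x y
    · obtain ⟨v, hv, e⟩ := c.h.ex e t
      exact ⟨_, Or.inr (Or.inl ⟨v, hv, e, rfl⟩)⟩
    · exact ⟨_, Or.inr (Or.inr ⟨t, rfl⟩)⟩
  choose Φ hΦ using this
  have k1 : (1 : K) ≠ -1 := by decide
  have k2 : (2 : K) ≠ 0 := by decide
  refine (omodel (f := ext f) (Φ := Φ) c.p4 (ext_nd c.hf) (fun a => ?_) (fun a b ab => ?_)
    (fun a b e => ?_) (fun z hz => ?_)).ot (by simp [add_comm])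
  · rcases hΦ a with ⟨-, e⟩ | ⟨v, hv, -, e⟩ | ⟨n, e⟩ <;> rw [e]
    · simp
    · simp [hv]
    · simp [(s1 a n).q]
  · rcases hΦ a with ⟨rfl, e⟩ | ⟨v, hv, rfl, e⟩ | ⟨n, e⟩ <;>
      rcases hΦ b with ⟨rfl, e'⟩ | ⟨v', hv', rfl, e'⟩ | ⟨n', e'⟩ <;> rw [e]
    · exact (ab rfl).elim
    · simp [e', c.h.cmx hv']
    · simp [e', n', k2]
    · simp [e', (c.h.cmx hv).symm]
    · simp [e', c.h.cm _ _ hv hv' ab]
    · simp [e', (s1 b n').s v hv, Bs v]
    · simp [e', nc_symm n, k2]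
    · simp [e', cm_comm (a := a), (s1 a n).s v' hv']
    · rw [e', s2 a b n n' ab, ext_B]
      generalize f.B (σ a) (σ b) = s; revert s; decide
  · rcases hΦ a with ⟨rfl, e1⟩ | ⟨v, hv, rfl, e1⟩ | ⟨n, e1⟩ <;>
      rcases hΦ b with ⟨rfl, e'⟩ | ⟨v', hv', rfl, e'⟩ | ⟨n', e'⟩
    · rfl
    all_goals rw [e1] at e
    · simp [e'] at e
    · simp [e', k1, (s1 b n').ne.symm] at e
    · simp [e'] at e
    · simp only [e', Prod.neg_mk, neg_zero, Prod.mk.injEq, true_and] at e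
      rcases e with rfl | rfl
      · rfl
      · exact c.h.neg _
    · simp [e'] at e
    · simp [e', k1, (s1 a n).ne] at e
    · simp [e'] at e
    · exact s3 a b n n' (by simpa [e', k1] using e)
  · obtain ⟨s, v⟩ := z
    have t0 : ∀ v, f.Q v = 0 → ∃ a, Φ a = (1, v) := fun v hv => by
      by_cases v0 : v = 0
      · rcases hΦ x with ⟨-, e⟩ | ⟨v, hv, e, -⟩ | ⟨n, -⟩
        · exact ⟨x, by rw [e, v0]⟩
        · exact (c.h.nex hv e).elim
        · exact (n (Cm.refl _)).elim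
      obtain ⟨b, n, rfl⟩ := s4 v hv v0
      rcases hΦ b with ⟨rfl, -⟩ | ⟨v, hv', rfl, -⟩ | ⟨-, e⟩
      · exact (n (Cm.refl _)).elim
      · exact (n (c.h.cmx hv')).elim
      · exact ⟨b, e⟩
    rcases k3 s with rfl | rfl | rfl
    · have hv : f.Q v = 1 := by simpa using hz
      rcases hΦ (ρ v) with ⟨e, -⟩ | ⟨u, hu, e, e'⟩ | ⟨n, -⟩
      · exact (c.h.nex hv e).elim
      · refine ⟨ρ v, ?_⟩
        rw [e']
        rcases c.h.inj _ _ hu hv e with rfl | rfl <;> simp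
      · exact (n (c.h.cmx hv)).elim
    · obtain ⟨a, e⟩ := t0 v (by simpa using hz)
      exact ⟨a, Or.inl e.symm⟩
    · obtain ⟨a, e⟩ := t0 (-v) (by simpa [f.Q_neg] using hz)
      exact ⟨a, Or.inr (by simp [e])⟩

end O3

theorem Ctx.ot [Finite G] {H : Type*} [Group H] [Finite H] {E : Set H} [TT E] (c : Ctx D E) {n : ℕ}
    (h : OT E n) (hn : 5 ≤ n) : OT D (n + 1) := by
  obtain ⟨f, Φ, hM⟩ := h
  obtain ⟨a0⟩ := c.loc.ne
  have hc : ∀ x : Pt D, ∃ ρ, O3.Ch f x ρ := fun x => by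
    obtain ⟨φ, l⟩ := c.emb x
    exact O3.exists_ch hM a0 l
  obtain ⟨x⟩ := c.irr.ne
  obtain ⟨a, ha⟩ := c.irr.toPrim.exists_nc' c.irr.cen x
  obtain ⟨ρ, h⟩ := hc x
  have := O3.Cx.ot (a := a) ⟨hM.nd, by simpa using hn, hc, h, c.irr.exists_DD⟩ ha
  simpa using this

end Cfsg.Agent.Fs
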