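import Cfsg.Agent.Fs.O3a

/-! Recognition of simple groups of orthogonal type over the field of order 3. -/
set_option autoImplicit false

namespace Cfsg.Agent.Fs

open Cfsg.Agent.Fis Cfsg.Agent.Class Subgroup Module
open scoped commutatorElement

variable {G : Type*} [Group G] {D : Set G} [TT D]

theorem OModel.exists_pt {V : Type*} [AddCommGroup V] [Module (ZMod 3) V] {f : OS (ZMod 3) V}
    {Φ : Pt D → V} (hM : OModel f Φ) (a0 : Pt D) :
    ∃ P : V → Pt D, ∀ v a, v = Φ a ∨ v = -Φ a → P v = a := by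
  classical
  refine ⟨fun v => if h : ∃ a, v = Φ a ∨ v = -Φ a then h.choose else a0, fun v a h => ?_⟩
  have e : ∃ a, v = Φ a ∨ v = -Φ a := ⟨a, h⟩
  simp only [dif_pos e]
  apply hM.inj
  rcases e.choose_spec with h1 | h1 <;> rcases h with h | h
  · exact Or.inl (h1.symm.trans h)
  · exact Or.inr (h1.symm.trans h)
  · exact Or.inr (neg_eq_iff_eq_neg.1 (h1.symm.trans h))
  · exact Or.inl (neg_injective (h1.symm.trans h))

theorem OT.iso [Finite G] [IsSimpleGroup G] (hna : ∃ x y : G, x * y ≠ y * x) (h : Irr D) {n : ℕ}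
    (ho : OT D n) (hn : 5 ≤ n) :
    ∃ m : ℕ, Nonempty (G ≃* Cfsg.POmega (ZMod 3) (Cfsg.quadFormOdd m (ZMod 3))) := by
  obtain ⟨f, Φ, hM⟩ := ho
  obtain ⟨a0⟩ := h.ne
  obtain ⟨ρ, hρ⟩ := hM.exists_pt a0
  have hd : finrank (ZMod 3) (Fin n → ZMod 3) = n := by simp
  have h2 : (2 : ZMod 3) ≠ 0 := by decide
  let S : Set f.Isom := {g | ∃ v t, t ≠ 0 ∧ f.Q v = 1 * t ^ 2 ∧ g = f.rf v}
  have hS : ∀ g, g ∈ S ↔ ∃ a, g = f.rf (Φ a) := fun g => by
    constructor
    · rintro ⟨v, t, h1, h2, rfl⟩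
      obtain ⟨a, rfl | rfl⟩ := hM.surj v (by rw [h2, one_mul, pow_two, O3.ksq h1])
      · exact ⟨a, rfl⟩
      · exact ⟨a, FS.rf_neg _⟩
    · rintro ⟨a, rfl⟩
      exact ⟨_, 1, one_ne_zero, by simp [hM.q], rfl⟩
  have hΩ : commutator f.Isom ≤ closure S := commutator_le_of_index_two
    (FS.index_closure_class hM.nd h2 (Or.inr (Or.inl (by omega))) one_ne_zero)
  have hP : ∀ (σ : closure S) (v : Fin n → ZMod 3), f.Q v = 1 → f.Q (σ • v) = 1 :=
    fun σ v hv => (FS.Isom_Q σ.1.2 v).trans hv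
  have key : ∀ (σ : closure S) a, σ.1 = f.rf (Φ a) → (σ, a.t) ∈ Gam _ hP ρ := by
    intro σ a hσ v hv
    have e : ∀ b, (f.rf (Φ a)).1 (Φ b) = Φ (a ⋆ b) ∨ (f.rf (Φ a)).1 (Φ b) = -Φ (a ⋆ b) := fun b => by
      rw [FS.rf_apply, hM.q, inv_one, one_mul]; exact hM.st a b
    show ρ (σ.1.1 v) = a ⋆ ρ v
    obtain ⟨b, hb⟩ := hM.surj v hv
    rw [hρ v b hb, hσ]
    apply hρ
    rcases hb with rfl | rfl
    · exact e b
    · rw [map_neg]; exact (e b).symm.imp (fun t => by rw [t, neg_neg]) fun t => by rw [t]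
  obtain ⟨ψ, h1, h3⟩ := hom_of_Gam (hP := hP) (ρ := ρ) h.toPrim.toCl h.cen
    (Gam_fst (closure_sub_of_le subset_closure le_rfl) (by
      intro σ hσ
      obtain ⟨a, ha⟩ := (hS _).1 hσ
      exact ⟨_, key σ a ha⟩))
    (fun x => ⟨⟨_, subset_closure ((hS _).2 ⟨x, rfl⟩)⟩, key _ x rfl⟩)
    (fun x => ⟨Φ x, hM.q x, hρ _ _ (Or.inl rfl)⟩)
  have hk : ∀ σ : closure S, ψ σ = 1 → σ.1 = 1 ∨ σ.1 = f.neg1 := fun σ hσ => by
    refine FS.eq_or_of_comm hM.nd (by omega) fun x hx => ?_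
    have : closure S ≤ centralizer {σ.1} := by
      rw [closure_le]
      intro g hg
      obtain ⟨a, rfl⟩ := (hS _).1 hg
      have t := (h3 σ 1).2 hσ _ (hM.q a)
      obtain ⟨b, hb⟩ := hM.surj _ (hP σ _ (hM.q a))
      rw [one_smul, hρ _ _ hb, hρ _ _ (Or.inl rfl)] at t
      subst t
      rw [SetLike.mem_coe, mem_centralizer_singleton_iff, eq_comm, ← mul_inv_eq_iff_eq_mul,
        FS.conj_rf]
      rcases hb with e | e
      · exact congrArg f.rf e
      · exact (congrArg f.rf e).trans (FS.rf_neg _)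
    exact mem_centralizer_singleton_iff.1 (this (hΩ hx))
  let ψ' := ψ.comp (inclusion hΩ)
  have s' : Function.Surjective ψ' := by
    have hc : commutator G = ⊤ := by
      refine (IsSimpleGroup.eq_bot_or_eq_top_of_normal _ inferInstance).resolve_left fun t => ?_
      obtain ⟨x, y, n⟩ := hna
      have : ⁅x, y⁆ ∈ commutator G := commutator_mem_commutator (mem_top x) (mem_top y)
      rw [t, mem_bot, commutatorElement_eq_one_iff_mul_comm] at this
      exact n this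
    rw [← MonoidHom.range_eq_top, eq_top_iff, ← hc, _root_.commutator_def, commutator_le]
    intro x _ y _
    obtain ⟨x, rfl⟩ := h1 x
    obtain ⟨y, rfl⟩ := h1 y
    exact ⟨⟨⁅x.1, y.1⁆, commutator_mem_commutator (mem_top _) (mem_top _)⟩,
      (map_commutatorElement ψ x y)⟩
  have k' : ψ'.ker = center (commutator f.Isom) := by
    refine le_antisymm (fun σ hσ => mem_center_iff.2 fun g => Subtype.ext ?_) fun σ hσ => ?_
    · rcases hk _ hσ with t | t
      · have t : σ.1 = 1 := t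
        simp [t]
      · have t : σ.1 = f.neg1 := t
        simp [t, FS.neg1_comm]
    · rw [MonoidHom.mem_ker, ← mem_bot, ← h.cen, mem_center_iff]
      intro g
      obtain ⟨g, rfl⟩ := s' g
      rw [← map_mul, ← map_mul, mem_center_iff.1 hσ g]
  have od : Odd n := by
    obtain ⟨ω, hω⟩ := s' a0.t
    have t := (h3 _ _).1 (key ⟨_, subset_closure ((hS _).2 ⟨a0, rfl⟩)⟩ a0 rfl)
    have := hk ((inclusion hΩ ω)⁻¹ * ⟨_, subset_closure ((hS _).2 ⟨a0, rfl⟩)⟩)
      (by rw [map_mul, map_inv, t, ← hω]; exact inv_mul_cancel _)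
    have d1 : ω.1.1.det = 1 := FS.mem_SOs.1 (FS.commutator_le_SOs ω.2)
    have d2 := FS.det_rf (f := f) (v := Φ a0) (by rw [hM.q]; exact one_ne_zero)
    have d3 : (ω.1⁻¹ * f.rf (Φ a0)).1.det = -1 := by
      rw [coe_mul, coe_inv, map_mul, map_inv, d1, d2]; simp
    rcases this with e | e
    · have e : ω.1⁻¹ * f.rf (Φ a0) = 1 := e
      rw [e, coe_one, map_one] at d3
      exact (FS.units_neg_one_ne h2 d3.symm).elim
    · have e : ω.1⁻¹ * f.rf (Φ a0) = f.neg1 := e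
      have e2 : f.neg1.1 = scal _ (-1) := LinearEquiv.ext fun x => by simp [scal_apply]
      rw [e, e2, det_scal, hd] at d3
      by_contra c
      rw [(Nat.not_odd_iff_even.1 c).neg_one_pow] at d3
      exact FS.units_neg_one_ne h2 d3.symm
  obtain ⟨m, hm⟩ := od
  obtain ⟨e⟩ := FS.nonempty_isom_of_odd h2 hM.nd (oddOS_nondeg (F := ZMod 3) m h2)
    (by rw [hd, oddOS_finrank, hm]) (by rw [oddOS_finrank]; exact ⟨m, rfl⟩)
  exact ⟨m, ⟨(((pomegaEquiv (oddOS (ZMod 3) m)).trans (quotCenterCongr (commCongr e))).trans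
    ((QuotientGroup.quotientMulEquivOfEq k'.symm).trans
      (QuotientGroup.quotientKerEquivOfSurjective ψ' s'))).symm⟩⟩

end Cfsg.Agent.Fs
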