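import Cfsg.Agent.Fs.CL

/-!
A perfect group of symplectic type is of polar type.
-/
set_option autoImplicit false

namespace Cfsg.Agent.Fs

open Cfsg.Agent.Fis Subgroup

variable {G : Type*} [Group G] {D : Set G} [TT D] {H : Type*} [Group H] {E : Set H} [TT E]

open Classical in
/-- the form -/
noncomputable def bt (u v : Pt D) : ZMod 2 := if Cm u v then 0 else 1

theorem bt_cm {u v : Pt D} (h : Cm u v) : bt u v = 0 := if_pos h
theorem bt_nc {u v : Pt D} (h : ¬ Cm u v) : bt u v = 1 := if_neg h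
theorem bt_eq_zero {u v : Pt D} : bt u v = 0 ↔ Cm u v :=
  ⟨fun h => by_contra fun n => by rw [bt_nc n] at h; exact one_ne_zero h, bt_cm⟩
theorem bt_comm (u v : Pt D) : bt u v = bt v u := by
  by_cases h : Cm u v
  · rw [bt_cm h, bt_cm h.symm]
  · rw [bt_nc h, bt_nc (nc_symm h)]
theorem bt_sq (u v : Pt D) : bt u v * bt u v = bt u v := by
  by_cases h : Cm u v
  · rw [bt_cm h, mul_zero]
  · rw [bt_nc h, mul_one]

theorem NoAG.bt_st (hA : NoAG D) (u s v : Pt D) : bt u (s ⋆ v) = bt u v + bt s v * bt u s := by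
  by_cases h1 : Cm s v
  · rw [h1.eq, bt_cm h1, zero_mul, add_zero]
  rw [bt_nc h1, one_mul]
  by_cases h2 : Cm u s <;> by_cases h3 : Cm u v
  · rw [bt_cm h2, bt_cm h3, bt_cm (h2.st_right h3), add_zero]
  · rw [bt_cm h2, bt_nc h3, bt_nc (nc_st_right h2 h3), add_zero]
  · rw [bt_nc h2, bt_cm h3, bt_nc (nc_st_left h1 h2 h3), zero_add]
  · rw [bt_nc h2, bt_nc h3, bt_cm (((hA s v u h1).resolve_left h2).resolve_left h3)]; rfl

theorem NoAG.bt_prod (hA : NoAG D) (y : Pt D) (l : List (Pt D)) (hl : ∀ a ∈ l, ∀ b ∈ l, Cm a b)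
    (u : Pt D) : bt u ((l.map Pt.t).prod • y) = bt u y + (l.map fun p => bt p y * bt u p).sum := by
  induction l generalizing u with
  | nil => simp
  | cons a l ih =>
    have ih := ih fun a ha b hb => hl a (by simp [ha]) b (by simp [hb])
    rw [List.map_cons, List.prod_cons, mul_smul, ← st_def, hA.bt_st, ih, ih, List.map_cons,
      List.sum_cons, List.sum_eq_zero (l := l.map fun p => bt p y * bt a p) (by
        intro z hz
        obtain ⟨p, hp, rfl⟩ := List.mem_map.1 hz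
        rw [bt_cm (hl a (by simp) p (by simp [hp])), mul_zero])]
    ring

theorem Ctx.tr3 [Finite G] [Finite H] (c : Ctx D E) {x e f x' e' f' : Pt D} (h1 : e ∈ Dx x)
    (h2 : f ∈ Dx x) (h3 : f ∈ Dx e) (h1' : e' ∈ Dx x') (h2' : f' ∈ Dx x') (h3' : f' ∈ Dx e') :
    ∃ g : G, g • x = x' ∧ g • e = e' ∧ g • f = f' := by
  obtain ⟨g, rfl, rfl⟩ := c.irr.toPrim.tr2 h1 h1'
  obtain ⟨φ, l⟩ := c.emb (g • x)
  obtain ⟨p, hp⟩ := (l.rng _).1 h1'
  obtain ⟨q, hq⟩ := (l.rng (g • f)).1 ⟨fun t => h2.1 (MulAction.injective g t), h2.2.smul g⟩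
  obtain ⟨r, rfl⟩ := (l.rng _).1 h2'
  obtain ⟨k, hk, e1⟩ := c.loc.toPrim.trD (x := p) (y := q) (z := r)
    ⟨fun t => h3.1 (MulAction.injective g (show g • f = g • e by rw [← hp, ← hq, t])),
      l.cm.1 (by rw [hp, hq]; exact h3.2.smul g)⟩
    ⟨fun t => h3'.1 (by rw [← hp, t]), l.cm.1 (hp ▸ h3'.2)⟩
  obtain ⟨j, hj, e2⟩ := l.lift c.loc.toCl k
  exact ⟨j * g, by rw [mul_smul, HH_fix hj], by rw [mul_smul, ← hp, ← e2, HH_fix hk],
    by rw [mul_smul, ← hq, ← e2, e1]⟩

theorem not_sgn (hp : commutator G = ⊤) (x : Pt D) : ¬ Sgn D := by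
  rintro ⟨χ, h⟩
  have : x.t ∈ χ.ker := Abelianization.commutator_subset_ker χ (hp ▸ mem_top _)
  rw [MonoidHom.mem_ker, h _ x.mem] at this
  exact absurd this (by decide)

omit [TT D] in
theorem not_S5 (hp : commutator G = ⊤) : ¬ Nonempty (G ≃* Equiv.Perm (Fin 5)) := by
  rintro ⟨e⟩
  have : e.symm (Equiv.swap 0 1) ∈ (Equiv.Perm.sign.comp e.toMonoidHom).ker :=
    Abelianization.commutator_subset_ker _ (hp ▸ mem_top _)
  simp at this

theorem pol_of_perfect [Finite G] (hp : commutator G = ⊤) (h : Irr D) (hA : NoAG D) : Pol D := by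
  classical
  by_contra np
  obtain ⟨H, _, _, E, _, c, -⟩ := exists_ctx h np (not_S5 hp)
  obtain ⟨l, h1, h2, h3, h4⟩ := odd_rel h.gen hA (not_sgn hp h.ne.some)
  by_cases hT : ∃ x e f a : Pt D, e ∈ Dx x ∧ f ∈ Dx x ∧ f ∈ Dx e ∧ ¬ Cm x a ∧ ¬ Cm e a ∧ ¬ Cm f a
  · obtain ⟨x, e, f, a, t1, t2, t3, t4, t5, t6⟩ := hT
    have red : ∀ x' e' f' : Pt D, e' ∈ Dx x' → f' ∈ Dx x' → f' ∈ Dx e' →
        ∃ r : Pt D, ∀ y, bt r y = bt x' y + bt e' y + bt f' y := fun x' e' f' s1 s2 s3 => by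
      obtain ⟨g, rfl, rfl, rfl⟩ := c.tr3 t1 t2 t3 s1 s2 s3
      have u1 : ∀ y, bt y (x ⋆ a) = bt y a + bt y x := fun y => by
        rw [hA.bt_st, bt_nc t4, one_mul]
      have u2 : ∀ y, bt y (e ⋆ f ⋆ a) = bt y a + bt y f + bt y e := fun y => by
        rw [hA.bt_st, hA.bt_st, hA.bt_st, bt_nc t5, bt_nc t6, bt_cm t3.2]; ring
      have u3 : bt (x ⋆ a) (e ⋆ f ⋆ a) = 1 := by
        rw [u2, bt_comm, u1, bt_comm, bt_comm (x ⋆ a), u1, bt_comm (x ⋆ a), u1, bt_cm (Cm.refl a),
          bt_nc (nc_symm t4), bt_nc t5, bt_nc t6, bt_cm t1.2.symm, bt_cm t2.2.symm]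
        decide
      refine ⟨g • ((x ⋆ a) ⋆ e ⋆ f ⋆ a), fun y => ?_⟩
      obtain ⟨y, rfl⟩ : ∃ y', y = g • y' := ⟨g⁻¹ • y, by simp⟩
      have sm : ∀ u v : Pt D, bt (g • u) (g • v) = bt u v := fun u v => by simp only [bt, cm_smul]
      rw [sm, sm, sm, sm, bt_comm, hA.bt_st, u3, u2, u1, bt_comm x, bt_comm e, bt_comm f]
      have : bt y a + bt y a = 0 := CharTwo.add_self_eq_zero _
      linear_combination this
    have key : ∀ n, ∀ l : List (Pt D), l.length = 2 * n + 1 → (∀ a ∈ l, ∀ b ∈ l, Cm a b) →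
        ¬ ∀ y, (l.map fun p => bt p y).sum = 0 := fun n => by
      induction n with
      | zero =>
        intro l e _ hz
        obtain ⟨p, rfl⟩ := List.length_eq_one_iff.1 e
        obtain ⟨b, hb⟩ := h.toPrim.exists_nc' h.cen p
        exact hb (bt_eq_zero.1 (by simpa using hz b))
      | succ n ih =>
        intro l e hc hz
        match l, e, hc, hz with
        | p :: q :: r :: l, e, hc, hz =>
          have e' : l.length = 2 * n := by simp at e; omega
          have : ∃ s : Pt D, ∀ y, bt s y = bt p y + bt q y + bt r y := by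
            by_cases h1 : q = p
            · exact ⟨r, fun y => by rw [h1, CharTwo.add_self_eq_zero, zero_add]⟩
            by_cases h2 : r = p
            · exact ⟨q, fun y => by rw [h2, add_right_comm, CharTwo.add_self_eq_zero, zero_add]⟩
            by_cases h3 : r = q
            · exact ⟨p, fun y => by rw [h3, add_assoc, CharTwo.add_self_eq_zero, add_zero]⟩
            exact red p q r ⟨h1, hc _ (by simp) _ (by simp)⟩ ⟨h2, hc _ (by simp) _ (by simp)⟩
              ⟨h3, hc _ (by simp) _ (by simp)⟩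
          obtain ⟨s, hs⟩ := this
          have cs : ∀ b ∈ l, Cm s b := fun b hb => bt_eq_zero.1 (by
            rw [hs, bt_cm (hc p (by simp) b (by simp [hb])), bt_cm (hc q (by simp) b (by simp [hb])),
              bt_cm (hc r (by simp) b (by simp [hb]))]; rfl)
          refine ih (s :: l) (by simp [e']) (fun a ha b hb => ?_) fun y => ?_
          · rcases List.mem_cons.1 ha with rfl | ha' <;> rcases List.mem_cons.1 hb with rfl | hb'
            exacts [Cm.refl _, cs _ hb', (cs _ ha').symm, hc a (by simp [ha']) b (by simp [hb'])]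
          · have := hz y
            simp only [List.map_cons, List.sum_cons] at this ⊢
            rw [hs, ← this]; ring
        | [], e, _, _ => simp at e
        | [_], e, _, _ => simp at e
        | [_, _], e, _, _ => simp at e
    obtain ⟨n, hn⟩ := h3
    refine key n l hn h2 fun y => ?_
    have := hA.bt_prod y l h2 y
    rw [h4, one_smul, left_eq_add] at this
    rw [← this]
    exact congrArg _ (List.map_congr_left fun p _ => by rw [bt_comm y, bt_sq])
  · obtain ⟨p, hp⟩ := List.exists_mem_of_length_pos h3.pos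
    obtain ⟨y, hy⟩ := h.toPrim.exists_nc' h.cen p
    obtain ⟨k1, -, -, k2⟩ := Fx.klem_pt y l (List.pairwise_of_forall_mem_list h2)
      (by rw [h4, one_smul])
    have k2 := k2 h1
    have m : ∀ z ∈ l.filter fun p => ¬ Cm p y, z ∈ l ∧ ¬ Cm z y := fun z hz => by simpa using hz
    have nd := h1.filter fun p => ¬ Cm p y
    have k0 : (l.filter fun p => ¬ Cm p y).length ≠ 0 := fun t => by
      have : p ∈ l.filter fun p => ¬ Cm p y := by simpa using ⟨hp, hy⟩
      rw [List.length_eq_zero_iff.1 t] at this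
      simp at this
    generalize l.filter (fun p => ¬ Cm p y) = m' at *
    match m', k0, k1, k2, m, nd with
    | a :: b :: d :: _, _, _, _, m, nd =>
      simp only [List.nodup_cons, List.mem_cons, not_or] at nd
      have ma := m a (by simp)
      have mb := m b (by simp)
      have md := m d (by simp)
      exact hT ⟨a, b, d, y, ⟨Ne.symm nd.1.1, h2 _ ma.1 _ mb.1⟩, ⟨Ne.symm nd.1.2.1, h2 _ ma.1 _ md.1⟩,
        ⟨Ne.symm nd.2.1.1, h2 _ mb.1 _ md.1⟩, ma.2, mb.2, md.2⟩
    | [], k0, _, _, _, _ => exact k0 rfl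
    | [_], _, k1, _, _, _ => exact k1 rfl
    | [_, _], _, _, k2, _, _ => exact k2 rfl

end Cfsg.Agent.Fs
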