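import Cfsg.Agent.Fs.SymT
import Cfsg.Agent.Fs.SymS

/-!
Classes which are locally of symplectic type.
-/
set_option autoImplicit false

namespace Cfsg.Agent.Fs

open Cfsg.Agent.Fis Cfsg.Agent.Class Subgroup Module

variable {G : Type*} [Group G] {D : Set G} [TT D] {H : Type*} [Group H] {E : Set H} [TT E]

theorem ot_of_ut4 [Finite H] (h : UT E 4) : OT E 5 := by
  obtain ⟨h5, h4', f, Φ, M⟩ := h
  obtain ⟨ι, hι⟩ := FS.herm_isIso uf4 M.nd (uFS_nondeg uf4 (n := 4)) rfl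
  have hB : ∀ x y, f.B (ι (v4 x)) (ι (v4 y)) = k4 (h4 x y) := fun x y => (hι.1 _ _).trans (v4_B x y)
  have k0 : ∀ a, k4 a = 0 ↔ a = 0 := by decide +kernel
  have Tq := tab45_q
  have Ta := tab45_all
  simp only [List.all_eq_true, List.any_eq_true, Bool.or_eq_true, Bool.and_eq_true, beq_iff_eq,
    bne_iff_ne] at Tq Ta
  have v0 : v4 0 = 0 := by ext1 i; fin_cases i <;> rfl
  have k23 : k4 2 ≠ 0 ∧ k4 3 ≠ 0 := by decide +kernel
  have ne : ∀ p, Φ p ≠ 0 := fun p => by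
    obtain ⟨a, ha⟩ := h5.toPrim.exists_nc' h5.cen p
    exact M.ne_zero h5.toCl (ne_of_nc ha) p
  refine tab45_ok.ot one_ne_zero (fun p a => ∃ c : K4, c ≠ 0 ∧ Φ p = c • ι (v4 a)) (fun p => ?_)
    (fun t ht => ?_) ?_ ?_ ?_ (Or.inl h4')
  · obtain ⟨x, hx⟩ := v4_surj (ι.symm (Φ p))
    have e : Φ p = ι (v4 x) := by rw [hx, ι.apply_symm_apply]
    rcases Ta x with (t | t) | ⟨t, ht, t'⟩
    · exact (ne p (by rw [e, t, v0, map_zero])).elim
    · exact (t ((k0 _).1 (by rw [← hB, ← e]; exact (M.cm p p).2 (Cm.refl p)))).elim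
    · refine ⟨t, ht, ?_⟩
      rcases t' with (rfl | rfl) | rfl
      · exact ⟨1, one_ne_zero, by rw [one_smul, e]⟩
      · exact ⟨_, k23.1, by rw [e, v4_smul, map_smul]⟩
      · exact ⟨_, k23.2, by rw [e, v4_smul, map_smul]⟩
  · obtain ⟨p, c, c0, e⟩ := M.surj (ι (v4 t.1))
      (fun s => (Tq t ht).1 (v4_inj (v0 ▸ ι.injective (s.trans (map_zero ι).symm))))
      (by rw [hB, (Tq t ht).2]; rfl)
    exact ⟨p, c⁻¹, inv_ne_zero c0, by rw [e, inv_smul_smul₀ c0]⟩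
  · rintro p q a ⟨c, c0, e⟩ ⟨d, d0, e'⟩
    exact M.inj h5.toPrim (c := c * d⁻¹) (by rw [e, e', smul_smul, inv_mul_cancel_right₀ d0])
  · rintro p a b ⟨c, c0, e⟩ ⟨d, d0, e'⟩
    obtain ⟨k, hk⟩ := k4_surj (c⁻¹ * d)
    have : a = s4' k b := v4_inj (ι.injective (by
      rw [v4_smul, map_smul, hk, mul_smul, ← e', e, inv_smul_smul₀ c0]))
    have k1 : k ≠ 0 := fun t => mul_ne_zero (inv_ne_zero c0) d0 (hk ▸ (k0 _).2 t)
    rw [this]
    exact (by decide +kernel : ∀ (k : Fin 4) (b : N4), k ≠ 0 →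
      (s4' k b == b || s4' k b == s4' 2 b || s4' k b == s4' 3 b) = true) k b k1
  · rintro p q a b ⟨c, c0, e⟩ ⟨d, d0, e'⟩
    rw [← M.cm, e, e', B_sm, FS.B_smul_right, hB, beq_iff_eq, ← k0]
    simp [c0, d0]

section model
variable {U : Type*} [AddCommGroup U] [Module (ZMod 2) U]

theorem two_add (x : U) : x + x = 0 := by rw [← two_smul (ZMod 2) x]; exact zero_smul _ x

structure SpM (B : U →ₗ[ZMod 2] U →ₗ[ZMod 2] ZMod 2) (Φ : Pt E → U) : Prop where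
  sy : ∀ x y, B x y = B y x
  al : ∀ x, B x x = 0
  bt : ∀ a b, B (Φ a) (Φ b) = bt a b
  nd : ∀ x, (∀ a, B x (Φ a) = 0) → x = 0
  st : ∀ a b, Φ (a ⋆ b) = Φ b + Fs.bt a b • Φ a
  inj : Function.Injective Φ
  ne : ∀ a, Φ a ≠ 0

theorem exists_spm [Finite H] (h : Irr E) (hE : NoAG E) :
    ∃ (U : Submodule (ZMod 2) (Pt E → ZMod 2)) (B : U →ₗ[ZMod 2] U →ₗ[ZMod 2] ZMod 2)
      (Φ : Pt E → U), SpM B Φ := by
  obtain ⟨U, f, v, h1, h2, h4⟩ := gram_sp (F := ZMod 2) (fun a b : Pt E => bt a b)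
    (fun a b => by rw [ZMod.neg_eq_self_mod_two, bt_comm]) fun a => bt_cm (Cm.refl a)
  have sy : ∀ x y, f.B x y = f.B y x := fun x y => (f.symm y x).trans (by
    show -1 * f.B y x = _
    rw [neg_one_mul, ZMod.neg_eq_self_mod_two])
  refine ⟨U, f.B, v, sy, fun x => ?_, h2, fun x hx => eq_of_test h1 h4 fun a => ?_,
    fun a b => eq_of_test h1 h4 fun z => ?_, fun a b e => by_contra fun n => ?_, fun a e => ?_⟩
  · exact (f.B_self x 0 ((map_zero _).trans (f.sp_Q x).symm)).trans (by simp)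
  · rw [sy, map_zero]; exact hx a
  · rw [map_add, map_smul, h2, h2, h2, hE.bt_st]; rfl
  · obtain ⟨x, -, h5, h6⟩ := h.toPrim.sep n
    exact h6 (bt_eq_zero.1 (by rw [← h2, ← e, h2, bt_cm h5]))
  · obtain ⟨b, hb⟩ := h.toPrim.exists_nc' h.cen a
    exact hb (bt_eq_zero.1 (by rw [← h2, e, map_zero]; rfl))

def rf4 (g k : V4) : V4 := k + G4 g k • g
def bs4 (c : ZMod 2) : V4 := if c = 1 then (0, 1, 0, 0) else (1, 0, 1, 0)
def bas4 : List V4 := [(1, 0, 0, 0), (0, 1, 0, 0), (0, 0, 1, 0), (0, 0, 0, 1)]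
def prs4 : List V4 := [(1, 0, 0, 0), (0, 1, 0, 0), (0, 0, 1, 0), (0, 0, 0, 1), (1, 1, 0, 0),
  (0, 1, 1, 0), (0, 0, 1, 1), (1, 1, 1, 0), (0, 1, 1, 1), (1, 1, 1, 1)]

theorem z2 : ∀ c : ZMod 2, c = 0 ∨ c = 1 := by decide
theorem prs4_q : ∀ k, Q4 k = 1 ↔ k ∈ prs4 := by decide +kernel
theorem rf4_rf4 : ∀ g k, rf4 g (rf4 g k) = k := by decide +kernel
theorem orb4 : ∀ k, k = 0 ∨ (prs4.any fun g => prs4.any fun h =>
    k == rf4 g (rf4 h (bs4 (Q4 k)))) = true := by decide +kernel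
theorem gen4 : (prs4.all fun k => bas4.any fun a => bas4.any fun b => bas4.any fun c =>
    bas4.any fun d => k == rf4 a (rf4 b (rf4 c d))) = true := by decide +kernel
theorem p4_4 : ∀ x a b : V4, (G4 x a == 0 || G4 x b == 0 || b == a || b == a + x ||
    ((1, 0, 1, 0) :: (0, 1, 0, 1) :: (1, 1, 0, 1) :: (1, 0, 1, 1) :: (1, 0, 0, 1) :: prs4).any fun y =>
      G4 x y == 0 && G4 a y == 0 && G4 b y == 1 &&
      (Q4 y == 1 || Q4 x == 0 || Q4 a == 0 || Q4 b == 0)) = true := by decide +kernel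
def bad4 (k : V4) : Bool := k == (1, 0, 0, 0) || k == (0, 1, 0, 0) || k == (1, 1, 0, 0) ||
  (G4 k (1, 0, 0, 0) == 0 && G4 k (0, 1, 0, 0) == 0)
def end4 (f p : V4) (k : V4) : Bool := bad4 k || bad4 (rf4 (0, 0, 1, 0) k) || bad4 (rf4 f k) ||
  rf4 (0, 0, 0, 1) (rf4 p k) == k || rf4 (0, 0, 0, 1) (rf4 p k) == (0, 0, 1, 0) ||
  rf4 (0, 0, 0, 1) (rf4 p k) == f
theorem end4a : ∀ k, end4 (0, 1, 1, 1) (0, 1, 0, 0) k = true := by decide +kernel
theorem end4b : ∀ k, end4 (1, 1, 1, 1) (1, 1, 0, 0) k = true := by decide +kernel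
theorem G6_nd : ∀ a : V6, (tab36.all fun b => G6 a b.1 == 0) = true → a = 0 := by decide +kernel

variable {B : U →ₗ[ZMod 2] U →ₗ[ZMod 2] ZMod 2} {Φ : Pt E → U}

/-- a path of four points -/
structure Fr (B : U →ₗ[ZMod 2] U →ₗ[ZMod 2] ZMod 2) (Φ : Pt E → U) (u v e w : Pt E) : Prop
    extends SpM B Φ where
  uv : ¬ Cm u v
  ve : ¬ Cm v e
  ew : ¬ Cm e w
  ue : Cm u e
  uw : Cm u w
  vw : Cm v w
  cl : ∀ p q, Cm p u → Cm p v → Cm p e → Cm q u → Cm q v → Cm q e → Cm p q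

def L4 (Φ : Pt E → U) (u v e w : Pt E) (k : V4) : U :=
  k.1 • Φ u + k.2.1 • Φ v + k.2.2.1 • Φ e + k.2.2.2 • Φ w

def PP (B : U →ₗ[ZMod 2] U →ₗ[ZMod 2] ZMod 2) (Φ : Pt E → U) (u v e w : Pt E) (k : V4) (z : U) :
    Prop := (∀ l, B (L4 Φ u v e w l) z = 0) ∧ ∃ p, Φ p = L4 Φ u v e w k + z

variable {u v e w : Pt E}

theorem L4_add (k l : V4) : L4 Φ u v e w (k + l) = L4 Φ u v e w k + L4 Φ u v e w l := by
  simp only [L4, Prod.fst_add, Prod.snd_add, add_smul]; abel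
theorem L4_smul (c : ZMod 2) (l : V4) : L4 Φ u v e w (c • l) = c • L4 Φ u v e w l := by
  simp only [L4, Prod.smul_fst, Prod.smul_snd, smul_eq_mul, mul_smul, smul_add]
theorem L4_zero : L4 Φ u v e w 0 = 0 := by simp [L4]

namespace Fr
variable (F : Fr B Φ u v e w) {k l : V4} {z y : U}
include F

theorem BL (k l : V4) : B (L4 Φ u v e w k) (L4 Φ u v e w l) = G4 k l := by
  simp only [L4, G4, map_add, map_smul, LinearMap.add_apply, LinearMap.smul_apply, F.bt, smul_eq_mul,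
    bt_cm (Cm.refl _), bt_nc F.uv, bt_nc F.ve, bt_nc F.ew, bt_nc (nc_symm F.uv), bt_nc (nc_symm F.ve),
    bt_nc (nc_symm F.ew), bt_cm F.ue, bt_cm F.uw, bt_cm F.vw, bt_cm F.ue.symm, bt_cm F.uw.symm,
    bt_cm F.vw.symm]
  ring

theorem BB (h : ∀ l, B (L4 Φ u v e w l) z = 0) (h' : ∀ l, B (L4 Φ u v e w l) y = 0) (k l : V4) :
    B (L4 Φ u v e w k + z) (L4 Φ u v e w l + y) = G4 k l + B z y := by
  simp only [map_add, LinearMap.add_apply, F.BL, h', F.sy z (L4 Φ u v e w l), h, add_zero, zero_add]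

theorem dec (p : Pt E) : ∃ k z, PP B Φ u v e w k z ∧ Φ p = L4 Φ u v e w k + z := by
  let k : V4 := (bt v p + bt w p, bt u p, bt w p, bt e p + bt u p)
  have e1 : Φ p = L4 Φ u v e w k + (L4 Φ u v e w k + Φ p) := by rw [← add_assoc, two_add, zero_add]
  refine ⟨k, _, ⟨fun l => ?_, p, e1⟩, e1⟩
  rw [map_add, F.BL]
  simp only [L4, G4, k, map_add, map_smul, LinearMap.add_apply, LinearMap.smul_apply, F.bt,
    smul_eq_mul]
  generalize bt u p = a, bt v p = b, bt e p = c, bt w p = d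
  have : (2 : ZMod 2) = 0 := rfl
  linear_combination (l.1 * a + l.2.1 * b + l.2.1 * d + l.2.2.1 * c + l.2.2.1 * a + l.2.2.2 * d) * this

theorem rule (h : PP B Φ u v e w k z) (h' : PP B Φ u v e w l y) (n : G4 k l + B z y = 1) :
    PP B Φ u v e w (k + l) (z + y) := by
  obtain ⟨h1, p, hp⟩ := h
  obtain ⟨h2, q, hq⟩ := h'
  refine ⟨fun m => by rw [map_add, h1, h2, add_zero], p ⋆ q, ?_⟩
  rw [F.st, ← F.bt, hp, hq, F.BB h1 h2, n, one_smul, L4_add]; abel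

theorem rf (h : PP B Φ u v e w l 0) (h' : PP B Φ u v e w k z) : PP B Φ u v e w (rf4 l k) z := by
  rcases z2 (G4 l k) with t | t
  · rwa [rf4, t, zero_smul, add_zero]
  · have := F.rule h h' (by rw [t, map_zero, LinearMap.zero_apply, add_zero])
    rwa [rf4, t, one_smul, add_comm, ← zero_add z]

theorem pr (h : k ∈ prs4) : PP B Φ u v e w k 0 := by
  have b : ∀ k ∈ bas4, PP B Φ u v e w k 0 := fun k hk => ⟨fun _ => map_zero _, by
    simp only [bas4, List.mem_cons, List.not_mem_nil, or_false] at hk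
    rcases hk with rfl | rfl | rfl | rfl
    exacts [⟨u, by simp [L4]⟩, ⟨v, by simp [L4]⟩, ⟨e, by simp [L4]⟩, ⟨w, by simp [L4]⟩]⟩
  have := gen4
  simp only [List.all_eq_true, List.any_eq_true, beq_iff_eq] at this
  obtain ⟨a, ha, a', ha', c, hc, d, hd, rfl⟩ := this k h
  exact F.rf (b _ ha) (F.rf (b _ ha') (F.rf (b _ hc) (b _ hd)))

theorem eqv (h1 : k ≠ 0) (h2 : l ≠ 0) (h3 : Q4 k = Q4 l) (h : PP B Φ u v e w k z) :
    PP B Φ u v e w l z := by
  have a := (orb4 k).resolve_left h1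
  have b := (orb4 l).resolve_left h2
  simp only [List.any_eq_true, beq_iff_eq] at a b
  obtain ⟨g, hg, g', hg', a⟩ := a
  obtain ⟨f, hf, f', hf', b⟩ := b
  have := F.rf (F.pr hg') (F.rf (F.pr hg) h)
  rw [a, rf4_rf4, rf4_rf4, h3] at this
  exact b ▸ F.rf (F.pr hf) (F.rf (F.pr hf') this)

theorem eqB (h3 : Q4 k = 1) (h4 : Q4 l = 1) (h : PP B Φ u v e w k z) : PP B Φ u v e w l z :=
  F.eqv (by rintro rfl; exact absurd h3 (by decide)) (by rintro rfl; exact absurd h4 (by decide))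
    (h3.trans h4.symm) h

theorem clq (h1 : k = 0 ∨ k = (1, 0, 1, 0)) (h2 : l = 0 ∨ l = (1, 0, 1, 0))
    (h : PP B Φ u v e w k z) (h' : PP B Φ u v e w l y) : B z y = 0 := by
  obtain ⟨a, p, hp⟩ := h
  obtain ⟨b, q, hq⟩ := h'
  have key : ∀ {k z p}, (k = 0 ∨ k = (1, 0, 1, 0)) → (∀ l, B (L4 Φ u v e w l) z = 0) →
      Φ p = L4 Φ u v e w k + z → Cm p u ∧ Cm p v ∧ Cm p e := fun {k z p} h1 a hp => by
    have t : ∀ l, B (L4 Φ u v e w l) (Φ p) = G4 l k := fun l => by rw [hp, map_add, a, F.BL, add_zero]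
    have t1 := t (1, 0, 0, 0)
    have t2 := t (0, 1, 0, 0)
    have t3 := t (0, 0, 1, 0)
    simp only [L4, one_smul, zero_smul, add_zero, zero_add, F.bt] at t1 t2 t3
    refine ⟨(bt_eq_zero.1 (t1.trans ?_)).symm, (bt_eq_zero.1 (t2.trans ?_)).symm,
      (bt_eq_zero.1 (t3.trans ?_)).symm⟩ <;> rcases h1 with rfl | rfl <;> rfl
  obtain ⟨a1, a2, a3⟩ := key h1 a hp
  obtain ⟨b1, b2, b3⟩ := key h2 b hq
  have := F.BB a b k l
  rw [← hp, ← hq, F.bt, bt_cm (F.cl p q a1 a2 a3 b1 b2 b3),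
    show G4 k l = 0 by rcases h1 with rfl | rfl <;> rcases h2 with rfl | rfl <;> rfl, zero_add] at this
  exact this.symm

theorem typ (h : PP B Φ u v e w k z) : PP B Φ u v e w (0, 1, 0, 0) z ∨
    ∃ l, (l = 0 ∨ l = (1, 0, 1, 0)) ∧ PP B Φ u v e w l z := by
  by_cases h0 : k = 0
  · exact Or.inr ⟨k, Or.inl h0, h⟩
  rcases z2 (Q4 k) with t | t
  · exact Or.inr ⟨_, Or.inr rfl, F.eqv h0 (by decide) t h⟩
  · exact Or.inl (F.eqB t rfl h)

/-- a partner of a nonzero vector orthogonal to the frame -/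
theorem partner (h : ∀ l, B (L4 Φ u v e w l) z = 0) (n : z ≠ 0) :
    ∃ k y, PP B Φ u v e w k y ∧ B z y = 1 := by
  by_contra! t
  refine n (F.nd z fun p => ?_)
  obtain ⟨k, y, h1, h2⟩ := F.dec p
  rw [h2, map_add, F.sy, h, zero_add]
  exact (z2 _).resolve_right (t k y h1)

theorem mix (h : PP B Φ u v e w (0, 1, 0, 0) z) (h2 : l = 0 ∨ l = (1, 0, 1, 0))
    (h' : PP B Φ u v e w l y) (n : B z y = 1) : PP B Φ u v e w (0, 1, 0, 0) (z + y) := by
  refine F.eqB ?_ rfl (F.rule (F.eqB (l := (1, 0, 0, 0)) rfl rfl h) h' ?_)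
  · rcases h2 with rfl | rfl <;> rfl
  · rw [n]; rcases h2 with rfl | rfl <;> rfl

theorem bbA (h : PP B Φ u v e w (0, 1, 0, 0) z) (h' : PP B Φ u v e w (0, 1, 0, 0) y)
    (n : B z y = 1) : PP B Φ u v e w 0 (z + y) := F.rule h h' (by rw [n]; rfl)

theorem bbC (h : PP B Φ u v e w (0, 1, 0, 0) z) (h' : PP B Φ u v e w (0, 1, 0, 0) y)
    (n : B z y = 1) : PP B Φ u v e w (1, 0, 1, 0) (z + y) :=
  F.rule (F.eqB (l := (1, 0, 0, 0)) rfl rfl h) (F.eqB (l := (0, 0, 1, 0)) rfl rfl h') (by rw [n]; rfl)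

theorem big {b b' : U} (h : PP B Φ u v e w (0, 1, 0, 0) b) (h' : PP B Φ u v e w (0, 1, 0, 0) b')
    (n : B b b' = 1) : OT E 5 := by
  have aA := F.bbA h h' n
  have aC := F.bbC h h' n
  have zC : ∀ z, PP B Φ u v e w (1, 0, 1, 0) z → z = b + b' := fun z hz => by
    have d := F.eqB (l := (0, 1, 0, 0)) rfl rfl (F.rule hz (F.eqv (k := (1, 0, 1, 0))
      (l := (1, 0, 1, 1)) (by decide) (by decide) rfl aC) (by rw [F.clq (Or.inr rfl) (Or.inr rfl) hz aC]; rfl))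
    have o : ∀ l y, (l = 0 ∨ l = (1, 0, 1, 0)) → PP B Φ u v e w l y → B (z + (b + b')) y = 0 :=
      fun l y h1 h2 => by
        rw [map_add, LinearMap.add_apply, F.clq (Or.inr rfl) h1 hz h2, F.clq (Or.inr rfl) h1 aC h2,
          add_zero]
    by_contra t
    obtain ⟨k, y, h1, h2⟩ := F.partner d.1 fun s => t (by
      rw [← add_zero z, ← two_add (b + b'), ← add_assoc, s, zero_add])
    rcases F.typ h1 with h3 | ⟨l, h3, h4⟩
    · have := o _ _ (Or.inl rfl) (F.bbA d h3 h2)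
      rw [map_add, F.al, h2] at this
      exact absurd this (by decide)
    · rw [o l y h3 h4] at h2; exact absurd h2 (by decide)
  have can : ∀ x y z : U, x + y = z + y → x = z := fun _ _ _ => add_right_cancel
  have zB : ∀ z, PP B Φ u v e w (0, 1, 0, 0) z → z = 0 ∨ z = b ∨ z = b' := fun z hz => by
    rcases z2 (B z b) with t | t
    · rcases z2 (B z b') with s | s
      · have d := F.eqB (l := (0, 1, 0, 0)) rfl rfl (F.rule hz (F.eqB (l := (1, 0, 0, 0)) rfl rfl h)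
          (by rw [t]; rfl))
        have := zC _ (F.bbC d h' (by rw [map_add, LinearMap.add_apply, s, n, zero_add]))
        exact Or.inl (can _ b _ ((can _ _ _ this).trans (zero_add b).symm))
      · exact Or.inr (Or.inl (can _ _ _ (zC _ (F.bbC hz h' s))))
    · exact Or.inr (Or.inr (can _ _ _ ((zC _ (F.bbC hz h t)).trans (add_comm _ _))))
  have zA : ∀ z, PP B Φ u v e w 0 z → z = b + b' := fun z hz => by
    obtain ⟨k, y, h1, h2⟩ := F.partner hz.1 (by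
      rintro rfl
      obtain ⟨-, p, hp⟩ := hz
      exact F.ne p (by rw [hp, L4_zero, add_zero]))
    rcases F.typ h1 with h3 | ⟨l, h3, h4⟩
    · have d := F.mix h3 (Or.inl rfl) hz (by rw [F.sy, h2])
      have e1 : z = y + (y + z) := by rw [← add_assoc, two_add, zero_add]
      have e2 : B y (y + z) = 1 := by rw [map_add, F.al, F.sy, h2, zero_add]
      rw [e1]
      exact zC _ (F.bbC h3 d e2)
    · rw [F.clq (Or.inl rfl) h3 hz h4] at h2; exact absurd h2 (by decide)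
  let L : V6 → U := fun a => L4 Φ u v e w a.1 + (a.2.1 • b + a.2.2 • b')
  have o : ∀ (a : V6) l, B (L4 Φ u v e w l) (a.2.1 • b + a.2.2 • b') = 0 := fun a l => by
    rw [map_add, map_smul, map_smul, h.1, h'.1, smul_zero, smul_zero, add_zero]
  have BL : ∀ a c, B (L a) (L c) = G6 a c := fun a c => by
    rw [F.BB (o a) (o c), G6]
    simp only [map_add, map_smul, LinearMap.add_apply, LinearMap.smul_apply, F.al, n, F.sy b' b,
      smul_eq_mul]
    ring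
  have La : ∀ a c, L (a + c) = L a + L c := fun a c => by
    simp only [L, Prod.fst_add, Prod.snd_add, L4_add, add_smul]; abel
  have Ls : ∀ (t : ZMod 2) c, L (t • c) = t • L c := fun t c => by
    simp only [L, Prod.smul_fst, Prod.smul_snd, L4_smul, smul_eq_mul, mul_smul, smul_add]
  have Tq := tab36_q
  have Ta := tab36_all
  have Ts := tab36_st
  simp only [List.all_eq_true, List.any_eq_true, Bool.or_eq_true, Bool.and_eq_true,
    beq_iff_eq] at Tq Ta Ts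
  refine tab36_ok.ot (by decide) (fun p a => Φ p = L a) (fun p => ?_) (fun t ht => ?_)
    (fun p q a h1 h2 => F.inj (h1.trans h2.symm)) (fun p a c h1 h2 => ?_) (fun p q a c h1 h2 => ?_)
    (Or.inr fun p q t ht s hs h1 h2 => ?_)
  · obtain ⟨k, z, h1, h2⟩ := F.dec p
    suffices ∃ m1 m2, Q6 (k, m1, m2) = 1 ∧ z = m1 • b + m2 • b' by
      obtain ⟨m1, m2, h3, rfl⟩ := this
      obtain ⟨t, ht, h4⟩ := Ta _ h3
      exact ⟨t, ht, h4 ▸ h2⟩
    rcases z2 (Q4 k) with t | t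
    · refine ⟨1, 1, by rw [Q6, t]; rfl, ?_⟩
      rw [one_smul, one_smul]
      by_cases h0 : k = 0
      · exact zA _ (h0 ▸ h1)
      · exact zC _ (F.eqv h0 (by decide) t h1)
    · rcases zB _ (F.eqB t rfl h1) with rfl | rfl | rfl
      exacts [⟨0, 0, by rw [Q6, t]; rfl, by simp⟩, ⟨1, 0, by rw [Q6, t]; rfl, by simp⟩,
        ⟨0, 1, by rw [Q6, t]; rfl, by simp⟩]
  · have hq := Tq t ht
    clear ht
    obtain ⟨⟨k, m1, m2⟩, t2⟩ := t
    suffices PP B Φ u v e w k (m1 • b + m2 • b') from this.2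
    have : Q4 k + m1 * m2 = 1 := hq
    rcases z2 m1 with rfl | rfl <;> rcases z2 m2 with rfl | rfl <;>
      simp only [zero_smul, one_smul, add_zero, zero_add, mul_zero, zero_mul, mul_one] at this ⊢
    · exact F.pr ((prs4_q k).1 this)
    · exact F.eqB rfl this h'
    · exact F.eqB rfl this h
    · by_cases h0 : k = 0
      · exact h0 ▸ aA
      · exact F.eqv (k := (1, 0, 1, 0)) (by decide) h0 (show Q4 k = 0 by simpa using this).symm aC
  · rw [beq_iff_eq, ← sub_eq_zero]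
    refine G6_nd _ (List.all_eq_true.2 fun d _ => ?_)
    rw [beq_iff_eq, ← BL, sub_eq_add_neg, ← neg_one_smul (ZMod 2) c, La, Ls, ← h1, ← h2, neg_one_smul,
      add_neg_cancel, map_zero, LinearMap.zero_apply]
  · rw [beq_iff_eq, ← BL, ← h1, ← h2, F.bt, bt_eq_zero]
  · obtain ⟨r, hr, h3, h4⟩ := Ts t ht s hs
    exact ⟨r, hr, by rw [h3, La, Ls, ← BL, ← h1, ← h2, F.bt, F.st], h4⟩

theorem cases : OT E 5 ∨ ∀ p, ∃ k, Φ p = L4 Φ u v e w k := by
  by_cases t : ∀ k z, PP B Φ u v e w k z → z = 0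
  · refine Or.inr fun p => ?_
    obtain ⟨k, z, h1, h2⟩ := F.dec p
    exact ⟨k, by rw [h2, t k z h1, add_zero]⟩
  push Not at t
  obtain ⟨k, z, h1, h2⟩ := t
  obtain ⟨l, y, h3, h4⟩ := F.partner h1.1 h2
  left
  rcases F.typ h1 with a | ⟨k', a, a'⟩ <;> rcases F.typ h3 with b | ⟨l', b, b'⟩
  · exact F.big a b h4
  · exact F.big a (F.mix a b b' h4) (by rw [map_add, F.al, h4, zero_add])
  · exact F.big b (F.mix b a a' (by rw [F.sy, h4])) (by rw [map_add, F.al, F.sy, h4, zero_add])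
  · rw [F.clq a b a' b'] at h4; exact absurd h4 (by decide)

theorem small (hs : ∀ p, ∃ k, Φ p = L4 Φ u v e w k) {S : Set (Pt E)}
    (s1 : ∀ a ∈ S, ∀ b ∈ S, a ⋆ b ∈ S)
    (s2 : ∀ a ∈ S, ∀ p q, Cm a p → Cm a q → ¬ Cm p q → p ∈ S ∨ q ∈ S ∨ p ⋆ q ∈ S)
    (s3 : u ∉ S) (s4 : v ∉ S) (s5 : u ⋆ v ∉ S) (s6 : e ∈ S) :
    P4 E ∧ ∃ p q, Cm p q ∧ p ≠ q ∧ p ∉ S ∧ q ∉ S ∧ ∀ s ∈ S, q ⋆ p ⋆ s ∈ S := by
  choose κ hκ using hs
  have hb : ∀ p q, bt p q = G4 (κ p) (κ q) := fun p q => by rw [← F.bt, hκ, hκ, F.BL]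
  have Li : ∀ k l, L4 Φ u v e w k = L4 Φ u v e w l → k = l := fun k l t =>
    (by decide +kernel : ∀ k l : V4, (bas4.all fun m => G4 m k == G4 m l) = true → k = l) k l (by
      simp only [List.all_eq_true, beq_iff_eq]
      intro m _
      rw [← F.BL, t, F.BL])
  have ki : ∀ p q, κ p = κ q → p = q := fun p q t => F.inj (by rw [hκ, hκ, t])
  have ks : ∀ p q, κ (p ⋆ q) = rf4 (κ p) (κ q) := fun p q => Li _ _ (by
    rw [← hκ, F.st, rf4, L4_add, L4_smul, hb, ← hκ, ← hκ])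
  have ku : κ u = (1, 0, 0, 0) := Li _ _ (by rw [← hκ]; simp [L4])
  have kv : κ v = (0, 1, 0, 0) := Li _ _ (by rw [← hκ]; simp [L4])
  have ke : κ e = (0, 0, 1, 0) := Li _ _ (by rw [← hκ]; simp [L4])
  have kw : κ w = (0, 0, 0, 1) := Li _ _ (by rw [← hκ]; simp [L4])
  have pp : ∀ p, PP B Φ u v e w (κ p) 0 := fun p => ⟨fun _ => map_zero _, p, by rw [hκ, add_zero]⟩
  have ex : ∀ k, PP B Φ u v e w k 0 → ∃ p, κ p = k := fun k ⟨_, p, hp⟩ =>
    ⟨p, Li _ _ (by rw [← hκ, hp, add_zero])⟩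
  have cm : ∀ p q, Cm p q ↔ G4 (κ p) (κ q) = 0 := fun p q => by rw [← hb, bt_eq_zero]
  have bad : ∀ s ∈ S, bad4 (κ s) = false := fun s hs => by
    rw [← Bool.not_eq_true]
    simp only [bad4, Bool.or_eq_true, Bool.and_eq_true, beq_iff_eq]
    rintro (((t | t) | t) | t)
    · exact s3 (ki _ _ (t.trans ku.symm) ▸ hs)
    · exact s4 (ki _ _ (t.trans kv.symm) ▸ hs)
    · exact s5 (ki s (u ⋆ v) (by rw [t, ks, ku, kv]; rfl) ▸ hs)
    · rw [← ku, ← kv, ← cm, ← cm] at t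
      exact (s2 s hs u v t.1 t.2 F.uv).elim s3 fun t => t.elim s4 s5
  have fin : ∀ f p, f ∈ S → (∀ k, end4 (κ f) (κ p) k = true) → ∀ s ∈ S, w ⋆ p ⋆ s ∈ S :=
    fun f p hf h s hs => by
      have := h (κ s)
      rw [end4, ← ke, ← kw, ← ks, ← ks, ← ks, ← ks, bad s hs, bad _ (s1 e s6 s hs),
        bad _ (s1 f hf s hs)] at this
      simp only [Bool.false_or, Bool.or_eq_true, beq_iff_eq] at this
      rcases this with (t | t) | t <;> rw [ki _ _ t] <;> assumption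
  have wS : w ∉ S := fun t => by
    have := bad w t
    rw [kw] at this
    exact absurd this (by decide)
  refine ⟨fun x a b ha hb' h => ?_, ?_⟩
  · have := p4_4 (κ x) (κ a) (κ b)
    simp only [List.any_eq_true, Bool.or_eq_true, Bool.and_eq_true, beq_iff_eq] at this
    rcases this with (((t | t) | t) | t) | ⟨y, -, ⟨⟨t1, t2⟩, t3⟩, t4⟩
    · exact (ha ((cm _ _).2 t)).elim
    · exact (hb' ((cm _ _).2 t)).elim
    · exact Or.inl (ki _ _ t)
    · refine Or.inr (ki _ _ ?_)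
      rw [t, ks, rf4, ← hb, bt_nc ha, one_smul]
    · have y0 : y ≠ 0 := by rintro rfl; simp [G4] at t3
      have q : ∀ p s, ¬ Cm p s ∨ ¬ Cm s p → Q4 (κ p) = 0 → PP B Φ u v e w y 0 := fun p s n t => by
        rcases z2 (Q4 y) with t' | t'
        · refine F.eqv (fun t0 => ?_) y0 (t.trans t'.symm) (pp p)
          rw [cm, cm, t0] at n
          simp [G4] at n
        · exact F.pr ((prs4_q y).1 t')
      obtain ⟨p, rfl⟩ : ∃ p, κ p = y := ex y (by
        rcases t4 with ((t | t) | t) | t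
        exacts [F.pr ((prs4_q y).1 t), q x a (Or.inl ha) t, q a x (Or.inr ha) t, q b x (Or.inr hb') t])
      have := (h p ⟨((cm _ _).2 t1).symm, ((cm _ _).2 t2).symm⟩).symm
      rw [cm, t3] at this
      exact absurd this (by decide)
  · obtain ⟨f, hf⟩ := ex (0, 1, 1, 1) (F.pr (by decide))
    rcases s2 e s6 u f F.ue.symm ((cm _ _).2 (by rw [ke, hf]; rfl))
      (by rw [cm, ku, hf]; decide) with t | t | t
    · exact (s3 t).elim
    · exact ⟨v, w, F.vw, fun s => F.ve (s ▸ F.vw ▸ by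
        have := congrArg κ s
        rw [kv, kw] at this
        exact absurd this (by decide)), s4, wS, fin f v t (by rw [hf, kv]; exact end4a)⟩
    · refine ⟨u ⋆ v, w, (F.uw.symm.st_right F.vw.symm).symm, fun s => ?_, s5, wS,
        fin _ _ t (by rw [ks, ks, hf, ku, kv]; exact end4b)⟩
      have := congrArg κ s
      rw [ks, ku, kv, kw] at this
      exact absurd this (by decide)

end Fr

end model

theorem sym_core [Finite H] (h : Irr E) (hE : NoAG E) {S : Set (Pt E)}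
    (s1 : ∀ a ∈ S, ∀ b ∈ S, a ⋆ b ∈ S)
    (s2 : ∀ a ∈ S, ∀ p q, Cm a p → Cm a q → ¬ Cm p q → p ∈ S ∨ q ∈ S ∨ p ⋆ q ∈ S) {u v e : Pt E}
    (uv : ¬ Cm u v) (s3 : u ∉ S) (s4 : v ∉ S) (s5 : u ⋆ v ∉ S) (s6 : e ∈ S) (eu : Cm e u) :
    OT E 5 ∨ P4 E ∧ ∃ p q, Cm p q ∧ p ≠ q ∧ p ∉ S ∧ q ∉ S ∧ ∀ s ∈ S, q ⋆ p ⋆ s ∈ S := by
  have bad : ∀ s ∈ S, Cm s u → ¬ Cm s v := fun s hs a b =>
    (s2 s hs u v a b uv).elim s3 fun t => t.elim s4 s5
  have ev := bad e s6 eu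
  obtain ⟨w, w1, w2, w3⟩ : ∃ w, Cm u w ∧ Cm v w ∧ ¬ Cm e w := by
    by_contra! t
    obtain ⟨y, hy, n⟩ := h.noncen (x := u) (y := e) ⟨fun t => s3 (t ▸ s6), eu.symm⟩
    have yv : ¬ Cm v y := fun c => n (t y hy.2 c)
    have := ((hE y e v (nc_symm n)).resolve_left yv).resolve_left (nc_symm ev)
    exact nc_st_self' (nc_symm n) (t _ (hy.2.st_right eu.symm) this)
  obtain ⟨U, B, Φ, M⟩ := exists_spm h hE
  have F : Fr B Φ u v e w := ⟨M, uv, nc_symm ev, w3, eu.symm, w1, w2, fun p q a1 a2 a3 b1 b2 b3 => by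
    by_contra n
    rcases s2 e s6 p q a3.symm b3.symm n with t | t | t
    exacts [bad p t a1 a2, bad q t b1 b2,
      bad _ t (a1.symm.st_right b1.symm).symm (a2.symm.st_right b2.symm).symm]⟩
  exact F.cases.imp_right fun t => F.small t s1 s2 s3 s4 s5 s6

theorem Ctx.sym [Finite G] [Finite H] (c : Ctx D E) (hE : NoAG E) : NoAG D ∨ OT E 5 := by
  rw [or_iff_not_imp_left, NoAG]
  push Not
  rintro ⟨u, v, a, uv, au, av, auv⟩
  have loc : ∀ e p q z : Pt D, Cm e p → Cm e q → ¬ Cm p q → Cm e z → z ≠ e →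
      Cm z p ∨ Cm z q ∨ Cm z (p ⋆ q) := fun e p q z h1 h2 h3 h4 h5 => by
    obtain ⟨ψ, m⟩ := c.emb e
    obtain ⟨p, rfl⟩ := m.ex (y := p) (fun t => h3 (t ▸ h2)) h1
    obtain ⟨q, rfl⟩ := m.ex (y := q) (fun t => h3 (t ▸ h1.symm)) h2
    obtain ⟨z, rfl⟩ := m.ex h5 h4
    rw [← m.st, m.cm, m.cm, m.cm]
    exact hE p q z (by rwa [m.cm] at h3)
  obtain ⟨x, xu, xv⟩ := c.irr.exists_DD u v
  have xa : ¬ Cm x a := fun t =>
    (loc x u v a xu xv uv t fun s => au (s ▸ xu)).elim au fun t => t.elim av auv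
  obtain ⟨φ, l⟩ := c.emb x
  obtain ⟨u, rfl⟩ := l.ex (y := u) (fun t => uv (t ▸ xv)) xu
  obtain ⟨v, rfl⟩ := l.ex (y := v) (fun t => uv (t ▸ xu.symm)) xv
  obtain ⟨e, ex, ea⟩ := c.irr.exists_DD x a
  obtain ⟨e, rfl⟩ := l.ex (y := e) (fun t => xa (t ▸ ea)) ex.symm
  rw [← l.st] at auv
  rw [l.cm] at uv
  have key : ∀ u v, ¬ Cm u v → ¬ Cm a (φ u) → ¬ Cm a (φ v) → ¬ Cm a (φ (u ⋆ v)) → Cm e u →
      OT E 5 := fun u v uv au av auv eu => by
    refine (sym_core c.loc hE (S := {p | Cm a (φ p)})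
      (fun p hp q hq => show Cm a _ from l.st p q ▸ hp.st_right hq) (fun s hs p q h1 h2 h3 => ?_)
      uv au av auv ea.symm eu).resolve_right ?_
    · have := loc (φ s) (φ p) (φ q) a (l.cm.2 h1) (l.cm.2 h2) (by rwa [l.cm]) hs.symm
        fun t => xa (t ▸ l.cmx s)
      rwa [← l.st] at this
    rintro ⟨h4, p, q, h1, h2, h3, h5, h6⟩
    have r1 := s4_cm h3 h5 (l.cm.2 h1)
    rcases c.p4 h4 x a (φ p ⋆ φ q ⋆ a) xa (nc_st_right (l.cmx p) (nc_st_right (l.cmx q) xa))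
      (fun y hy => by
        obtain ⟨y, rfl⟩ := l.ex (y := y) (fun t => xa (t ▸ hy.2)) hy.1.symm
        rw [cm_st_iff, cm_st_iff, ← l.st, ← l.st]
        exact (h6 y hy.2.symm).symm) with t | t
    · rw [← st_mul, mul_smul_eq_iff fun s => h2 (l.inj s)] at t
      exact h3 t.1.symm
    · exact nc_st_self' xa (t ▸ r1)
  by_cases h1 : Cm e u
  · exact key u v uv au av auv h1
  by_cases h2 : Cm e v
  · exact key v u (nc_symm uv) av au (st_comm uv ▸ auv) h2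
  · exact key (u ⋆ v) v (nc_symm (nc_st_self' uv)) auv av ((st_st_snd uv).symm ▸ au)
      (((hE u v e uv).resolve_left h1).resolve_left h2)

end Cfsg.Agent.Fs
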