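import Cfsg.Agent.Fs.Def

/-! The inductive step for unitary spaces. -/
set_option autoImplicit false

namespace Cfsg.Agent.Fs

open Cfsg.Agent.Fis Cfsg.Agent.Class Module Submodule

variable {G : Type*} [Group G] {D : Set G} [TT D] {H : Type*} [Group H] {E : Set H} [TT E]
variable {V : Type*} [AddCommGroup V] [Module K4 V] {f : FS PK V}

namespace Un

def om : K4 := QuadraticAlgebra.omega

theorem cube {c : K4} (h : c ≠ 0) : c * c * c = 1 := by revert c; decide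

def Iso (f : FS PK V) (v : V) : Prop := v ≠ 0 ∧ f.B v v = 0

theorem Iso.q {v : V} (h : Iso f v) : f.Q v = 0 := (FS.herm_Q f v).trans h.2

theorem Iso.smul {v : V} (h : Iso f v) {c : K4} (hc : c ≠ 0) : Iso f (c • v) :=
  ⟨smul_ne_zero hc h.1, by simp [h.2]⟩

theorem Iso.map {v : V} (h : Iso f v) {T : V ≃ₗ[K4] V} (hT : T ∈ f.Isom) : Iso f (T v) :=
  ⟨by simpa using h.1, by rw [FS.Isom_B hT, h.2]⟩

theorem B0 {u v : V} (h : f.B u v = 0) : f.B v u = 0 := FS.B_comm_zero h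

theorem Iso.line {e q : V} (he : Iso f e) (hq : Iso f q) (h : f.B e q = 0) (n : ∀ c : K4, q ≠ c • e)
    (c : K4) : Iso f (q + c • e) :=
  ⟨fun t => n (-c) (by rw [neg_smul]; exact eq_neg_of_add_eq_zero_left t),
    by simp [he.2, hq.2, h, B0 h]⟩

structure UC (f : FS PK V) (P : V → Pt E) : Prop where
  nd : f.Nondeg
  sm : ∀ v (c : K4), Iso f v → c ≠ 0 → P (c • v) = P v
  surj : ∀ a, ∃ v, Iso f v ∧ P v = a
  cm : ∀ u v, Iso f u → Iso f v → (Cm (P u) (P v) ↔ f.B u v = 0)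
  inj : ∀ u v, Iso f u → Iso f v → P u = P v → ∃ c : K4, u = c • v
  st : ∀ u v, Iso f u → Iso f v → P u ⋆ P v = P (v + f.B u v • u)

theorem exists_uc [Finite H] {Φ : Pt E → V} (hM : Model f Φ) (h : Irr E) :
    ∃ P : V → Pt E, UC f P := by
  classical
  obtain ⟨a0⟩ := h.ne
  obtain ⟨a1, h1⟩ := h.toPrim.exists_nc' h.cen a0
  have i : ∀ a, Iso f (Φ a) := fun a =>
    ⟨hM.ne_zero h.toPrim.toCl (ne_of_nc h1) a, (hM.cm a a).2 (Cm.refl a)⟩
  let ρ : V → Pt E := fun v => if h : ∃ a c, c ≠ (0 : K4) ∧ v = c • Φ a then h.choose else a0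
  have hρ : ∀ a (c : K4), c ≠ 0 → ρ (c • Φ a) = a := by
    intro a c hc
    have h1 : ∃ b c', c' ≠ (0 : K4) ∧ c • Φ a = c' • Φ b := ⟨a, c, hc, rfl⟩
    simp only [ρ, dif_pos h1]
    obtain ⟨c', hc', e⟩ := h1.choose_spec
    exact hM.inj h.toPrim (c := c'⁻¹ * c) (by rw [mul_smul, eq_inv_smul_iff₀ hc']; exact e.symm)
  refine ⟨ρ, hM.nd, fun v c hv hc => ?_, fun a => ⟨Φ a, i a, by simpa using hρ a 1 one_ne_zero⟩,
    fun u v hu hv => ?_, fun u v hu hv => ?_, fun u v hu hv => ?_⟩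
  · obtain ⟨a, d, hd, rfl⟩ := hM.surj v hv.1 hv.2
    rw [smul_smul, hρ _ _ hd, hρ _ _ (mul_ne_zero hc hd)]
  all_goals
    obtain ⟨a, c, hc, rfl⟩ := hM.surj u hu.1 hu.2
    obtain ⟨b, d, hd, rfl⟩ := hM.surj v hv.1 hv.2
    rw [hρ _ _ hc, hρ _ _ hd]
  · rw [← hM.cm, B_sm, map_smul]; simp [hc, hd]
  · rintro rfl
    exact ⟨c * d⁻¹, by rw [smul_smul, inv_mul_cancel_right₀ hd]⟩
  · obtain ⟨k, hk, e⟩ := hM.st a b
    rw [← hρ (a ⋆ b) (d * k) (mul_ne_zero hd hk), mul_smul, ← e, B_sm, map_smul]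
    congr 1
    simp only [smul_eq_mul]
    linear_combination (norm := module) (-(d * f.B (Φ a) (Φ b)) * cube hc) • Φ a

theorem UC.ind {P : V → Pt E} (h : UC f P) {T : V ≃ₗ[K4] V} (hT : T ∈ f.uTG) :
    ∃ k : H, ∀ v, Iso f v → k • P v = P (T v) := by
  induction hT using Subgroup.closure_induction with
  | mem g hg =>
    obtain ⟨u, c, hu, hc, rfl⟩ := hg
    by_cases c0 : c = 0
    · exact ⟨1, fun v _ => by simp [FS.uT_apply, c0]⟩
    by_cases u0 : u = 0
    · exact ⟨1, fun v _ => by simp [FS.uT_apply, u0]⟩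
    refine ⟨(P u).t, fun v hv => ?_⟩
    rw [← st_def, h.st u v ⟨u0, (FS.herm_Q f u).symm.trans hu⟩ hv, FS.uT_apply,
      UF.eq_one uf4 c0 hc, one_mul]
  | one => exact ⟨1, fun v _ => by simp⟩
  | mul a b _ hb ia ib =>
    obtain ⟨k, e⟩ := ia
    obtain ⟨k', e'⟩ := ib
    exact ⟨k * k', fun v hv => by rw [mul_smul, e' v hv, e _ (hv.map (FS.uTG_le_Isom hb))]; rfl⟩
  | inv a ha ia =>
    obtain ⟨k, e⟩ := ia
    refine ⟨k⁻¹, fun v hv => ?_⟩
    rw [inv_smul_eq_iff, e _ (hv.map (inv_mem (FS.uTG_le_Isom ha)))]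
    exact congrArg P (a.apply_symm_apply v).symm

theorem two (c : Ctx D E) (h4 : P4 E) {e x a b : Pt D} (ex : Cm e x) (ea : Cm e a) (eb : Cm e b)
    (xa : ¬ Cm x a) (xb : ¬ Cm x b) (hs : ∀ y, Cm e y → y ≠ e → Cm y x → Cm y a → Cm y b) :
    b = a ∨ b = x ⋆ a := by
  obtain ⟨φ, l⟩ := c.emb e
  obtain ⟨x', rfl⟩ := l.ex (y := x) (fun t => xa (t ▸ ea)) ex
  obtain ⟨a', rfl⟩ := l.ex (y := a) (fun t => xa (t ▸ ex.symm)) ea
  obtain ⟨b', rfl⟩ := l.ex (y := b) (fun t => xb (t ▸ ex.symm)) eb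
  rw [← l.st, l.inj.eq_iff, l.inj.eq_iff]
  exact h4 x' a' b' (by rwa [l.cm] at xa) (by rwa [l.cm] at xb) fun y hy =>
    l.cm.1 (hs _ (l.cmx y) (l.nex y) (l.cm.2 hy.1) (l.cm.2 hy.2))

/-- transfer of lines between two local views -/
theorem tr_ln {x y : Pt D} {φ ψ : Pt E → Pt D} (l : Emb x φ) (m : Emb y ψ) {e x' q q' z z' : Pt E}
    (h1 : φ e = y) (h2 : ψ x' = x) (h3 : φ q = ψ q') (h4 : φ z = ψ z') (hz : z ∈ Ln e q) :
    z' ∈ Ln x' q' := fun w w1 w2 => by
  by_cases t : w = x'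
  · rw [t, ← m.cm, h2, ← h4]; exact l.cmx z
  obtain ⟨p, hp⟩ := l.ex (y := ψ w) (by rw [← h2]; exact m.inj.ne t) (by rw [← h2, m.cm]; exact w1.symm)
  rw [← m.cm, ← hp, ← h4, l.cm]
  exact hz p (by rw [← l.cm, hp, h1]; exact (m.cmx w).symm) (by rw [← l.cm, hp, h3, m.cm]; exact w2)

structure St (D : Set G) [TT D] (E : Set H) [TT E] (f : FS PK V) (P : V → Pt E) (φ : Pt E → Pt D)
    (x a : Pt D) : Prop where
  c : Ctx D E
  p : Pol E
  h4 : P4 E
  h : UC f P
  l : Emb x φ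
  n : ¬ Cm x a

def Sv (f : FS PK V) (P : V → Pt E) (φ : Pt E → Pt D) (a : Pt D) (v : V) : Prop :=
  Iso f v ∧ Cm (φ (P v)) a

namespace St
variable [Finite H] [FiniteDimensional K4 V] {P : V → Pt E} {φ : Pt E → Pt D} {x a : Pt D}
  (s : St D E f P φ x a) {e q u v m w y : V}
include s

omit [Finite H] [FiniteDimensional K4 V] in
theorem tv (hu : Sv f P φ a u) (hv : Sv f P φ a v) : Sv f P φ a (v + f.B u v • u) := by
  refine ⟨⟨fun t => ?_, ?_⟩, ?_⟩
  · have := congrArg (f.B u) t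
    simp only [map_add, map_smul, hu.1.2, smul_zero, add_zero, map_zero] at this
    exact hv.1.1 (by simpa [this] using t)
  · rw [B_add_add, B_sm, B_sm, map_smul, map_smul, hu.1.2, hv.1.2, B_cj f u v]
    generalize f.B u v = b; revert b; decide
  · rw [← s.h.st _ _ hu.1 hv.1, s.l.st]
    exact (hu.2.symm.st_right hv.2.symm).symm

omit [FiniteDimensional K4 V] in
theorem view (he : Sv f P φ a e) : ∃ (ψ : Pt E → Pt D) (x' a' : Pt E), Emb (φ (P e)) ψ ∧ ψ x' = x ∧ ψ a' = a ∧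
    ∀ q, Iso f q → f.B e q = 0 → (∀ c : K4, q ≠ c • e) → ∃ q', φ (P q) = ψ q' ∧ q' ∈ Dx x' := by
  obtain ⟨ψ, m⟩ := s.c.emb (φ (P e))
  obtain ⟨x', hx⟩ := m.ex (y := x) (s.l.nex _).symm (s.l.cmx _).symm
  obtain ⟨a', ha⟩ := m.ex (y := a) (fun t => s.n (t ▸ s.l.cmx _)) he.2
  refine ⟨ψ, x', a', m, hx, ha, fun q hq h n => ?_⟩
  obtain ⟨q', h'⟩ := m.ex (y := φ (P q)) (fun t => by
    obtain ⟨c, hc⟩ := s.h.inj _ _ hq he.1 (s.l.inj t)
    exact n c hc) (s.l.cm.2 ((s.h.cm _ _ he.1 hq).2 h))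
  exact ⟨q', h'.symm, fun t => s.l.nex (P q) (by rw [← h', t, hx]),
    by rw [← m.cm, hx, h']; exact s.l.cmx _⟩

omit [FiniteDimensional K4 V] in
theorem uq (he : Sv f P φ a e) (hq : Sv f P φ a q) (h : f.B e q = 0) (n : ∀ c : K4, q ≠ c • e)
    {c : K4} (hc : Sv f P φ a (q + c • e)) : c = 0 := by
  by_contra c0
  obtain ⟨ψ, x', a', m, hx, ha, k⟩ := s.view he
  obtain ⟨q', h1, h2⟩ := k q hq.1 h n
  obtain ⟨z', h3, -⟩ := k _ hc.1 (by simp [h, he.1.2]) fun d t => n (d - c) (by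
    rw [sub_smul, ← t, add_sub_cancel_right])
  have := tr_ln s.l m rfl hx h1 h3 fun y y1 y2 => by
    obtain ⟨y, hy, rfl⟩ := s.h.surj y
    rw [s.h.cm _ _ hy he.1] at y1
    rw [s.h.cm _ _ hy hq.1] at y2
    rw [s.h.cm _ _ hy hc.1]; simp [y1, y2]
  apply s.n
  rw [← hx, ← ha, m.cm]
  refine (s.p.toPrim.Ln_two h2 (right_mem_Ln _ _) this (fun t => ?_) ?_ ?_).1.symm
  · obtain ⟨d, hd⟩ := s.h.inj _ _ hc.1 hq.1 (s.l.inj (by rw [h1, h3, t]))
    by_cases d1 : d = 1
    · exact he.1.1 (by simpa [d1, c0] using hd)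
    · have d2 : d - 1 ≠ 0 := sub_ne_zero.2 d1
      exact n ((d - 1)⁻¹ * c) (by
        rw [mul_smul, eq_inv_smul_iff₀ d2]; linear_combination (norm := module) -hd)
  · rw [← m.cm, ha, ← h1]; exact hq.2.symm
  · rw [← m.cm, ha, ← h3]; exact hc.2.symm

theorem ex (he : Sv f P φ a e) (hq : Iso f q) (h : f.B e q = 0) (n : ∀ c : K4, q ≠ c • e) :
    ∃ c : K4, Sv f P φ a (q + c • e) := by
  obtain ⟨ψ, x', a', m, hx, ha, k⟩ := s.view he
  obtain ⟨q', h1, h2⟩ := k q hq h n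
  obtain ⟨z', z1, z2⟩ := s.p.one_or_all h2 a'
  obtain ⟨z, hz⟩ := s.l.ex (y := ψ z') (fun t => s.n (by rw [← t, ← ha, m.cm]; exact z2.symm))
    (by rw [← hx, m.cm]; exact Ln_cm_left h2.2 z1)
  have := tr_ln m s.l hx rfl h1.symm hz.symm z1
  obtain ⟨z, iz, rfl⟩ := s.h.surj z
  have c1 := (s.h.cm _ _ he.1 iz).1 (Ln_cm_left ((s.h.cm _ _ he.1 hq).2 h) this)
  have c2 := (s.h.cm _ _ hq iz).1 (Ln_cm_right ((s.h.cm _ _ he.1 hq).2 h) this)
  have : z ∈ span K4 {q, e} := by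
    by_contra t
    obtain ⟨v, v1, v2⟩ := s.h.nd.exists_partner iz.q t fun y hy => by
      obtain ⟨b, d, rfl⟩ := mem_span_pair.1 hy
      simp [c1, c2]
    have iv : Iso f v := ⟨v1.ne2, v1.B22⟩
    have := this (P v) ((s.h.cm _ _ iv he.1).2 (B0 (v2 e (subset_span (by simp)))))
      ((s.h.cm _ _ iv hq).2 (B0 (v2 q (subset_span (by simp)))))
    have := B0 ((s.h.cm _ _ iv iz).1 this)
    rw [v1.B12] at this
    exact one_ne_zero this
  obtain ⟨b, d, rfl⟩ := mem_span_pair.1 this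
  have b0 : b ≠ 0 := by
    rintro rfl
    rw [zero_smul, zero_add] at hz iz
    rw [s.h.sm _ _ he.1 (fun t => iz.1 (by simp [t]))] at hz
    exact m.nex _ hz.symm
  refine ⟨b⁻¹ * d, he.1.line hq h n _, ?_⟩
  rw [← s.h.sm _ b (he.1.line hq h n _) b0, smul_add, smul_smul, mul_inv_cancel_left₀ b0, hz, ← ha,
    m.cm]
  exact z2.symm

omit [Finite H] [FiniteDimensional K4 V] in
theorem zed (huv : f.IsHyp u v) (hm : f.B m m = 1) (um : f.B u m = 0) (vm : f.B v m = 0)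
    (hu : Sv f P φ a u) (hv : Sv f P φ a v) (hr : Sv f P φ a (u + om • v + m)) (hy : Sv f P φ a y) :
    Sv f P φ a (y + (om + 1) • (f.B v y • u + f.B u y • v + f.B m y • m)) := by
  have b1 := huv.B11
  have b2 := huv.B22
  have b3 := huv.B12
  have b4 : f.B v u = 1 := huv.B21
  let S : K4 → K4 → K4 → Prop := fun i j k => Sv f P φ a (y + i • u + j • v + k • m)
  have t1 : ∀ i j k, S i j k → S (i + (f.B u y + j)) j k := fun i j k h => by
    have := s.tv hu h
    simp only [map_add, map_smul, b1, b3, um, smul_eq_mul] at this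
    simp only [S]; convert this using 1; module
  have t2 : ∀ i j k, S i j k → S i (j + (f.B v y + i)) k := fun i j k h => by
    have := s.tv hv h
    simp only [map_add, map_smul, b2, b4, vm, smul_eq_mul] at this
    simp only [S]; convert this using 1; module
  have t3 : ∀ i j k t, t = f.B u y + j + om * om * (f.B v y + i) + (f.B m y + k) → S i j k →
      S (i + t) (j + om * t) (k + t) := fun i j k t e h => by
    have := s.tv hr h
    simp only [map_add, LinearMap.add_apply, B_sm, map_smul, b1, b2, b3, b4, um, vm, B0 um, B0 vm,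
      hm, smul_eq_mul] at this
    simp only [S, e]; convert this using 1; module
  have := t1 _ _ _ (t2 _ _ _ (t3 _ _ _ _ rfl (t1 _ _ _ (t2 _ _ _ (t3 0 0 0 _ rfl
    (by simpa [S] using hy))))))
  simp only [S] at this
  convert this using 1
  generalize f.B u y = b1
  generalize f.B v y = b2
  generalize f.B m y = b3
  simp only [smul_add, smul_smul, ← add_assoc]
  refine congrArg₂ (· + ·) (congrArg₂ (· + ·) (congrArg (y + · • u) ?_) (congrArg (· • v) ?_))
    (congrArg (· • m) ?_) <;> revert b1 b2 b3 <;> decide +kernel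

theorem frame {e' : V} (he : Sv f P φ a e) (H1 : f.IsHyp e e') (hn : 5 ≤ finrank K4 V) :
    ∃ u v m, f.IsHyp u v ∧ f.B m m = 1 ∧ f.B u m = 0 ∧ f.B v m = 0 ∧ Sv f P φ a u ∧ Sv f P φ a v ∧
      Sv f P φ a (u + om • v + m) ∧ f.B e u = 0 ∧ f.B e v = 0 ∧ f.B e m = 0 := by
  have n1 := H1.nondeg_hperp s.h.nd
  have d1 := H1.finrank_hperp
  obtain ⟨u, v, H2⟩ := n1.herm_exists_hyp uf4 (by omega)
  have n2 := H2.nondeg_hperp n1
  have d2 := H2.finrank_hperp
  haveI : Nontrivial ((f.res (f.hperp e e')).hperp u v) :=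
    Module.nontrivial_of_finrank_pos (R := K4) (by omega)
  obtain ⟨m, hm⟩ := n2.exists_norm_one uf4
  have hm : f.B m m = 1 := hm
  obtain ⟨um, vm⟩ := FS.mem_hperp.1 m.2
  have um : f.B u m = 0 := um
  have vm : f.B v m = 0 := vm
  have b1 : f.B u u = 0 := H2.B11
  have b2 : f.B v v = 0 := H2.B22
  have b3 : f.B u v = 1 := H2.B12
  have b4 : f.B v u = 1 := H2.B21
  have eu := (FS.mem_hperp.1 u.2).1
  have ev := (FS.mem_hperp.1 v.2).1
  have em := (FS.mem_hperp.1 m.1.2).1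
  generalize (m.1 : V) = m at hm um vm em
  generalize (u : V) = u at *
  generalize (v : V) = v at *
  have ee := he.1.2
  have k : ∀ q z, f.B q q = 0 → f.B e q = 0 → f.B e z = 0 → f.B z q = 1 →
      ∃ c : K4, Sv f P φ a (q + c • e) := fun q z q1 q2 z1 z2 =>
    s.ex he ⟨fun t => by simp [t] at z2, q1⟩ q2 fun c t => by simp [t, B0 z1] at z2
  obtain ⟨i, hi⟩ := k u v b1 eu ev b4
  obtain ⟨j, hj⟩ := k v u b2 ev eu b3
  obtain ⟨l, hl⟩ := k (u + om • v + m) v (by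
    simp only [map_add, LinearMap.add_apply, B_sm, map_smul, b1, b2, b3, b4, um, vm, B0 um, B0 vm,
      hm, smul_eq_mul]; decide) (by simp [eu, ev, em]) ev (by simp [b2, b4, vm])
  refine ⟨u + i • e, v + j • e, m + (l - i - om * j) • e, ⟨hi.1.q, hj.1.q, ?_⟩, ?_, ?_, ?_, hi, hj,
    by convert hl using 1; module, ?_, ?_, ?_⟩ <;>
  simp [b3, hm, um, vm, ee, eu, ev, em, B0 eu, B0 ev, B0 em]

end St

theorem span_top [FiniteDimensional K4 V] (hf : f.Nondeg) {e e' u v m y : V} (H1 : f.IsHyp e e')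
    (H2 : f.IsHyp u v) (hm : f.B m m = 1) (um : f.B u m = 0) (vm : f.B v m = 0)
    (eu : f.B e u = 0) (ev : f.B e v = 0) (em : f.B e m = 0) (fu : f.B e' u = 0)
    (fv : f.B e' v = 0) (fm : f.B e' m = 0) :
    finrank K4 (f.perp (span K4 (Set.range ![e, e', u, v, m]))) + 5 = finrank K4 V ∧
      (f.res (f.perp (span K4 (Set.range ![e, e', u, v, m])))).Nondeg := by
  have a1 : f.B e' e = 1 := H1.B21
  have a2 : f.B v u = 1 := H2.B21
  have h : ∀ c : Fin 5 → K4, (∀ i, f.B (![e, e', u, v, m] i) (∑ j, c j • ![e, e', u, v, m] j) = 0) →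
      ∀ j, c j = 0 := fun c hc => by
    have c0 := hc 0
    have c1 := hc 1
    have c2 := hc 2
    have c3 := hc 3
    have c4 := hc 4
    simp [Fin.sum_univ_succ, H1.B11, H1.B22, H1.B12, H2.B11, H2.B22, H2.B12, a1, a2, hm, um, vm,
      eu, ev, em, fu, fv, fm, B0 um, B0 vm, B0 eu, B0 ev, B0 em, B0 fu, B0 fv, B0 fm]
      at c0 c1 c2 c3 c4
    intro j; fin_cases j <;> simp [c0, c1, c2, c3, c4]
  have li : LinearIndependent K4 ![e, e', u, v, m] :=
    Fintype.linearIndependent_iff.2 fun c hc => h c fun i => by rw [hc, map_zero]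
  constructor
  · have h1 := hf.finrank_perp (span K4 (Set.range ![e, e', u, v, m]))
    rw [finrank_span_eq_card li, Fintype.card_fin] at h1
    omega
  · refine hf.nondeg_perp (Submodule.disjoint_def.2 fun x h1 h2 => ?_)
    obtain ⟨c, rfl⟩ := (mem_span_range_iff_exists_fun K4).1 h1
    simp [h c fun i => FS.mem_perp_span.1 h2 _ ⟨i, rfl⟩]

end Un

open Un in
theorem Ctx.ut [Finite G] [Finite H] (c : Ctx D E) {n : ℕ} (h : UT E n) (hn : 4 ≤ n) :
    n = 4 ∨ n = 6 := by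
  obtain ⟨h5, h4, f, Φ, hM⟩ := h
  obtain ⟨P, hP⟩ := exists_uc hM c.loc
  obtain ⟨x⟩ := c.irr.ne
  obtain ⟨a, ha⟩ := c.irr.toPrim.exists_nc' c.irr.cen x
  obtain ⟨φ, l⟩ := c.emb x
  have s : St D E f P φ x a := ⟨c, h5.toPol, h4, hP, l, ha⟩
  obtain ⟨y, y1, y2⟩ := c.irr.exists_DD x a
  obtain ⟨y, rfl⟩ := l.ex (y := y) (fun t => ha (t ▸ y2)) y1.symm
  obtain ⟨e, ie, rfl⟩ := hP.surj y
  have he : Sv f P φ a e := ⟨ie, y2⟩
  have hd : finrank K4 (Fin n → K4) = n := by simp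
  by_contra! ne
  obtain ⟨e0, H0⟩ := hP.nd.exists_partner' ie.q ie.1
  obtain ⟨u, v, m, H2, hm, um, vm, hu, hv, hr, eu, ev, em⟩ := s.frame he H0 (by omega)
  have a2 : f.B v u = 1 := H2.B21
  obtain ⟨e', H1, h1⟩ := hP.nd.exists_partner ie.q (Z := span K4 (Set.range ![u, v, m])) (fun t => by
    obtain ⟨c, hc⟩ := (mem_span_range_iff_exists_fun K4).1 t
    have c0 := congrArg (f.B u) hc
    have c1 := congrArg (f.B v) hc
    have c2 := congrArg (f.B m) hc
    simp [Fin.sum_univ_succ, H2.B11, H2.B22, H2.B12, a2, hm, um, vm, B0 um, B0 vm, B0 eu, B0 ev,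
      B0 em] at c0 c1 c2
    exact ie.1 (by simp [← hc, Fin.sum_univ_succ, c0, c1, c2])) (fun z t => by
    obtain ⟨c, rfl⟩ := (mem_span_range_iff_exists_fun K4).1 t
    simp [Fin.sum_univ_succ, B0 eu, B0 ev, B0 em])
  have fu := B0 (h1 u (subset_span ⟨0, rfl⟩))
  have fv := B0 (h1 v (subset_span ⟨1, rfl⟩))
  have fm := B0 (h1 m (subset_span ⟨2, rfl⟩))
  have a1 : f.B e' e = 1 := H1.B21
  obtain ⟨d, nd⟩ := span_top (y := 0) hP.nd H1 H2 hm um vm eu ev em fu fv fm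
  have mm : ∀ z, z ∈ f.perp (span K4 (Set.range ![e, e', u, v, m])) ↔ f.B e z = 0 ∧ f.B e' z = 0 ∧
      f.B u z = 0 ∧ f.B v z = 0 ∧ f.B m z = 0 := fun z => by
    rw [FS.mem_perp_span]; simp [Fin.forall_fin_succ]; tauto
  have o1 : om + 1 ≠ 0 := by decide
  by_cases n5 : n = 5
  · have z0 : ∀ z, f.B e z = 0 → f.B e' z = 0 → f.B u z = 0 → f.B v z = 0 → f.B m z = 0 → z = 0 :=
      fun z z1 z2 z3 z4 z5 => by
        have : f.perp (span K4 (Set.range ![e, e', u, v, m])) = ⊥ := finrank_eq_zero.1 (by omega)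
        rw [← mem_bot K4, ← this, mm]
        exact ⟨z1, z2, z3, z4, z5⟩
    have k1 : ∀ q, Sv f P φ a q → f.B e q = 0 → (∀ c : K4, q ≠ c • e) → f.B e' q = 0 :=
      fun q hq h n => by
        have t := z0 (q - f.B e' q • e - (f.B v q • u + f.B u q • v + f.B m q • m))
          (by simp [h, ie.2, eu, ev, em]) (by simp [a1, fu, fv, fm])
          (by simp [B0 eu, H2.B11, H2.B12, um]) (by simp [B0 ev, H2.B22, a2, vm])
          (by simp [B0 em, B0 um, B0 vm, hm])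
        have z := s.zed H2 hm um vm hu hv hr hq
        have e1 : q + (om + 1) • (f.B v q • u + f.B u q • v + f.B m q • m) =
            om • (q + (om * f.B e' q) • e) := by
          have o2 : om * om = -(om + 1) := by decide
          have o3 : (2 : K4) + om = om := by decide
          linear_combination (norm := module) (-(om + 1)) • t + (-f.B e' q * o2) • e + o3 • q
        rw [e1] at z
        have i := ie.line hq.1 h n (om * f.B e' q)
        have := s.uq he hq h n ⟨i, by rw [← hP.sm _ om i (by decide)]; exact z.2⟩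
        exact (mul_eq_zero.1 this).resolve_left (by decide)
    have k2 : ∀ q, Iso f q → f.B e q = 0 → f.B e' q = 0 → Sv f P φ a q := fun q hq h h' => by
      have n : ∀ c : K4, q ≠ c • e := fun c t => hq.1 (by
        have : c = 0 := by simpa [t, a1] using h'
        simp [t, this])
      obtain ⟨c, hc⟩ := s.ex he hq h n
      have := k1 _ hc (by simp [h, ie.2]) fun d t => n (d - c) (by
        rw [sub_smul, ← t, add_sub_cancel_right])
      have : c = 0 := by simpa [h', a1] using this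
      simpa [this] using hc
    have τ : PK.τ om = f.Q m := by rw [FS.herm_Q, hm, FP.herm_τ, s4_eq]; decide
    haveI : Nontrivial (Fin n → K4) := Module.nontrivial_of_finrank_pos (R := K4) (by omega)
    have mT := f.eich_mem u m om H2.Q1 um τ
    obtain ⟨k, hk⟩ := hP.ind (T := f.eich u m om H2.Q1 um τ) (by
      rw [FS.uTG_eq_SI uf4 hP.nd (Or.inr (by omega))]
      exact ⟨mT, f.det_eich _ _ _⟩)
    obtain ⟨g, hg, e1⟩ := l.lift c.loc.toPrim.toCl k
    have gx := HH_fix hg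
    have te := f.eich_apply_of_orth H2.Q1 um τ (B0 eu) (B0 em)
    have te' := f.eich_apply_of_orth H2.Q1 um τ (B0 fu) (B0 fm)
    have t2 : g • a = a ∨ g • a = x ⋆ a := by
      refine two c h4 (l.cmx _).symm y2 ?_ ha (fun t => ha (by rwa [← gx, cm_smul] at t))
        fun z z1 z2 z3 z4 => ?_
      · have := y2.smul g
        rwa [← e1, hk e ie, te] at this
      · obtain ⟨z, rfl⟩ := l.ex (y := z) (fun t => ha (t ▸ z4)) z3.symm
        obtain ⟨q, iq, rfl⟩ := hP.surj z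
        have b1 := (hP.cm _ _ ie iq).1 (l.cm.1 z1)
        have b2 := k1 q ⟨iq, z4⟩ b1 fun c t => z2 (by
          rw [t, hP.sm _ _ ie fun t' => iq.1 (by simp [t, t'])])
        have i := iq.map (inv_mem mT)
        have := (k2 _ i ((FS.Isom_B_symm mT _ _).trans (by rw [te, b1]))
          ((FS.Isom_B_symm mT _ _).trans (by rw [te', b2]))).2.smul g
        rw [← e1, hk _ i] at this
        exact (congrArg (fun t => Cm (φ (P t)) (g • a)) (LinearEquiv.apply_symm_apply _ q)).mp this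
    have n1 : ∀ j d : K4, e' + om • e + m + j • u ≠ d • u := fun j d t => by
      have := congrArg (f.B m) t
      simp [B0 fm, B0 em, hm, B0 um] at this
    obtain ⟨j, hj⟩ := s.ex (q := e' + om • e + m) hu ⟨fun t => n1 0 0 (by simp [t]), by
      simp only [map_add, LinearMap.add_apply, B_sm, map_smul, H1.B11, H1.B22, H1.B12, a1, em, fm,
        B0 em, B0 fm, hm, smul_eq_mul]; decide⟩ (by simp [B0 fu, B0 eu, um])
      fun d t => n1 0 d (by simpa using t)
    have b : f.B u (e' + om • e + m + j • u) = 0 := by simp [B0 fu, B0 eu, um, H2.B11]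
    have t3 := hj.2.smul g
    rw [← e1, hk _ hj.1] at t3
    have i := hj.1.map mT
    have e2 : f.eich u m om H2.Q1 um τ (e' + om • e + m + j • u) =
        e' + om • e + m + j • u + (-1 : K4) • u := by
      rw [FS.eich_apply, b]; simp [B0 fm, B0 em, hm, B0 um, sub_eq_add_neg]
    rw [e2] at i t3
    refine absurd (s.uq hu hj b (n1 j) ⟨i, ?_⟩) (by decide)
    rcases t2 with t | t <;> rw [t] at t3
    · exact t3
    · rwa [cm_st_iff, (l.cmx _).eq] at t3
  · obtain ⟨w, w', H3⟩ := nd.herm_exists_hyp uf4 (by omega)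
    obtain ⟨w1, w2, w3, w4, w5⟩ := (mm _).1 w.2
    have w0 : (w : Fin n → K4) ≠ 0 := fun t => H3.ne1 (Subtype.ext t)
    have ww : f.B w w = 0 := H3.B11
    obtain ⟨j, hj⟩ := s.ex (q := u + w) he ⟨fun t => by
      simpa [a2, w4] using congrArg (f.B v) t, by simp [H2.B11, w3, B0 w3, ww]⟩ (by simp [eu, w1])
      fun c t => by simpa [a2, w4, B0 ev] using congrArg (f.B v) t
    have z := s.zed H2 hm um vm hu hv hr hj
    simp only [map_add, map_smul, a2, w4, B0 ev, H2.B11, w3, B0 eu, B0 um, w5, B0 em, smul_zero,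
      add_zero, zero_smul, one_smul] at z
    refine o1 (s.uq hu hj (by simp [H2.B11, w3, B0 eu]) (fun d t => ?_) z)
    have t1 := congrArg (f.B v) t
    have t2 := congrArg (f.B e') t
    simp [a2, w4, B0 ev, fu, w2, a1] at t1 t2
    exact w0 (by simpa [← t1, t2] using t)

end Cfsg.Agent.Fs
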