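import Cfsg.Agent.Fs.T23
import Cfsg.Agent.Fs.O3
import Cfsg.Agent.Fs.OIso
import Cfsg.Agent.Fs.Sym
import Cfsg.Agent.Fs.Un
import Cfsg.Agent.S1696
import Cfsg.Agent.S1697

/-!
The classification of the irreducible classes of 3-transpositions.
-/
set_option autoImplicit false

namespace Cfsg.Agent.Fs

open Cfsg.Agent.Fis Subgroup
open scoped commutatorElement

def Ty {G : Type} [Group G] (D : Set G) [TT D] : Prop :=
  NoAG D ∨ (∃ n, 4 ≤ n ∧ UT D n) ∨ (∃ n, 5 ≤ n ∧ OT D n) ∨ T22 D ∨ T23 D ∨ T24 D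

theorem ty_of (k : ℕ) : ∀ (G : Type) [Group G] [Finite G] (D : Set G) [TT D], Nat.card G = k →
    Irr D → Ty D := by
  induction k using Nat.strong_induction_on with
  | _ k ih =>
    intro G _ _ D _ hk h
    by_cases np : Pol D
    · exact (pol_cases h np).imp_right Or.inl
    by_cases ns : Nonempty (G ≃* Equiv.Perm (Fin 5))
    · obtain ⟨e⟩ := ns
      refine Or.inl (noAG_of_card ?_)
      rw [Nat.card_congr e.toEquiv, Nat.card_perm, Nat.card_fin]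
      decide
    obtain ⟨H, _, _, E, _, c, lt⟩ := exists_ctx h np ns
    have ot : ∀ n, 5 ≤ n → OT E n → Ty D := fun n hn t =>
      Or.inr (Or.inr (Or.inl ⟨n + 1, by omega, c.ot t hn⟩))
    rcases ih _ (hk ▸ lt) H E rfl c.loc with t | ⟨n, hn, t⟩ | ⟨n, hn, t⟩ | t | t | t
    · exact (c.sym t).elim Or.inl (ot 5 le_rfl)
    · rcases c.ut t hn with rfl | rfl
      · exact ot 5 le_rfl (ot_of_ut4 t)
      · exact Or.inr (Or.inr (Or.inr (Or.inl (c.t22 t))))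
    · exact ot n hn t
    · exact Or.inr (Or.inr (Or.inr (Or.inr (Or.inl (c.t23 t)))))
    · exact Or.inr (Or.inr (Or.inr (Or.inr (Or.inr (c.t24 t)))))
    · exact (c.t25 t).elim

theorem perfect_of_simple {G : Type*} [Group G] [IsSimpleGroup G] (hna : ∃ x y : G, x * y ≠ y * x) :
    commutator G = ⊤ := by
  refine (inferInstance : (commutator G).Normal).eq_bot_or_eq_top.resolve_left fun t => ?_
  obtain ⟨x, y, h⟩ := hna
  have : ⁅x, y⁆ ∈ commutator G := commutator_mem_commutator (mem_top x) (mem_top y)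
  rw [t, mem_bot, commutatorElement_eq_one_iff_mul_comm] at this
  exact h this

theorem main0 {G : Type} [Group G] [Finite G] [IsSimpleGroup G] (hna : ∃ x y : G, x * y ≠ y * x)
    {D : Set G} (hD : Cfsg.IsThreeTranspositionClass D) :
    (∃ n : ℕ, Nonempty (G ≃* Matrix.symplecticGroup (Fin n) (ZMod 2))) ∨
    (∃ n : ℕ, Nonempty (G ≃* Cfsg.PSU n K4 2)) ∨
    (∃ m : ℕ, Nonempty (G ≃* Cfsg.POmega (ZMod 3) (Cfsg.quadFormOdd m (ZMod 3)))) ∨
    Nonempty (G ≃* Cfsg.Spor.Fi22) ∨ Nonempty (G ≃* Cfsg.Spor.Fi23) := by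
  have := tt_of_class hD
  have hp := perfect_of_simple hna
  have h := irr_of_simple hp hD
  obtain ⟨x⟩ := h.ne
  rcases ty_of _ G D rfl h with t | ⟨n, hn, t⟩ | ⟨n, hn, t⟩ | t | t | t
  · obtain ⟨a, ha⟩ := h.toPrim.exists_nc' h.cen x
    rcases (pol_of_perfect hp h t).classify h.cen ha with ⟨n, -, t⟩ | ⟨n, -, t⟩
    exacts [Or.inl ⟨n, t⟩, Or.inr (Or.inl ⟨n, t⟩)]
  · exact Or.inr (Or.inl ⟨n, t.iso h hn⟩)
  · exact Or.inr (Or.inr (Or.inl (t.iso hna h hn)))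
  · obtain ⟨e, -⟩ := t.iso
    exact Or.inr (Or.inr (Or.inr (Or.inl ⟨e.symm⟩)))
  · obtain ⟨e, -⟩ := t.iso
    exact Or.inr (Or.inr (Or.inr (Or.inr ⟨e.symm⟩)))
  · exact (not_sgn hp x t.sgn).elim

theorem class_map {G G' : Type*} [Group G] [Group G'] (e : G ≃* G') {D : Set G}
    (hD : Cfsg.IsThreeTranspositionClass D) : Cfsg.IsThreeTranspositionClass (e '' D) := by
  obtain ⟨h1, ⟨d, hd, h2⟩, h3⟩ := hD
  refine ⟨⟨?_, ?_⟩, ⟨e d, ⟨d, hd, rfl⟩, ?_⟩, ?_⟩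
  · rintro _ ⟨a, ha, rfl⟩
    rw [e.orderOf_eq, h1.1 a ha]
  · rintro _ ⟨a, ha, rfl⟩ _ ⟨b, hb, rfl⟩
    refine (h1.2 a ha b hb).imp (fun t => ?_) fun t => ?_ <;>
      rw [← map_mul, ← map_pow, t, map_one]
  · ext y
    obtain ⟨z, rfl⟩ := e.surjective y
    rw [h2, e.injective.mem_set_image]
    exact ⟨fun t => e.toMonoidHom.map_isConj t,
      fun t => by simpa [conjugatesOf] using e.symm.toMonoidHom.map_isConj t⟩
  · have := MonoidHom.map_closure e.toMonoidHom D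
    rw [h3, map_top_of_surjective _ e.surjective] at this
    exact this.symm

theorem main {G : Type*} [Group G] [Finite G] [IsSimpleGroup G] (hna : ∃ x y : G, x * y ≠ y * x)
    {D : Set G} (hD : Cfsg.IsThreeTranspositionClass D) :
    (∃ n : ℕ, Nonempty (G ≃* Matrix.symplecticGroup (Fin n) (ZMod 2))) ∨
    (∃ (F : Type) (_ : Field F) (_ : Fintype F) (n : ℕ), Fintype.card F = 4 ∧
      Nonempty (G ≃* Cfsg.PSU n F 2)) ∨
    (∃ m : ℕ, Nonempty (G ≃* Cfsg.POmega (ZMod 3) (Cfsg.quadFormOdd m (ZMod 3)))) ∨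
    Cfsg.IsFi22 G ∨ Cfsg.IsFi23 G := by
  classical
  obtain ⟨H, _, _, ⟨ι⟩⟩ := Finite.exists_type_univ_nonempty_mulEquiv.{_, 0} G
  have := ι.symm.isSimpleGroup
  obtain ⟨x, y, h⟩ := hna
  rcases main0 ⟨ι x, ι y, fun t => h (ι.injective (by simpa using t))⟩ (class_map ι hD) with
    ⟨n, ⟨e⟩⟩ | ⟨n, ⟨e⟩⟩ | ⟨n, ⟨e⟩⟩ | ⟨⟨e⟩⟩ | ⟨⟨e⟩⟩
  · exact Or.inl ⟨n, ⟨ι.trans e⟩⟩
  · exact Or.inr (Or.inl ⟨K4, _, _, n, card_K4, ⟨ι.trans e⟩⟩)
  · exact Or.inr (Or.inr (Or.inl ⟨n, ⟨ι.trans e⟩⟩))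
  · exact Or.inr (Or.inr (Or.inr (Or.inl
      ⟨inferInstance, (Nat.card_congr (ι.trans e).toEquiv).trans S1696.result.2⟩)))
  · exact Or.inr (Or.inr (Or.inr (Or.inr
      ⟨inferInstance, (Nat.card_congr (ι.trans e).toEquiv).trans S1697.result.2⟩)))

end Cfsg.Agent.Fs
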