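import Cfsg.Agent.Fs.Def

/-! Orthogonal spaces over the field of order 3: linear algebra for the inductive step. -/
set_option autoImplicit false

namespace Cfsg.Agent.Fs.O3

open Cfsg.Agent.Class Module Submodule

local notation "K" => ZMod 3

theorem k3 (c : K) : c = 0 ∨ c = 1 ∨ c = -1 := by revert c; decide
theorem h3 : (3 : K) = 0 := rfl
theorem ksq {c : K} (h : c ≠ 0) : c * c = 1 := by revert c; decide
theorem kpm {c : K} (h : c ≠ 0) : c = 1 ∨ c = -1 := by revert c; decide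
theorem kor {c d : K} (h : c ≠ 0 ∨ d ≠ 0) : c + d ≠ 0 ∨ c - d ≠ 0 := by revert c d; decide

variable {V : Type*} [AddCommGroup V] [Module K V] {f : OS K V}

theorem Bs (x y : V) : f.B x y = f.B y x := f.orth_symm y x

theorem Bpt {p : V} (h : f.Q p = 1) : f.B p p = -1 := by rw [f.orth_self, h]; decide

theorem B0 {w : V} (h : f.Q w = 0) : f.B w w = 0 := FS.B_self_of_Q h

theorem ne_neg {w : V} (h : w ≠ 0) : w ≠ -w := fun e => h (by
  linear_combination (norm := module) (-1 : K) • e + h3 • w)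

theorem pt_ne {p : V} (h : f.Q p = 1) : p ≠ 0 := fun e => by
  rw [e, f.Q_zero] at h; exact zero_ne_one h

theorem hyp_of {u v : V} (hu : f.Q u = 0) (hv : f.Q v = 0) (h : f.B u v ≠ 0) :
    f.IsHyp u (f.B u v • v) :=
  ⟨hu, by rw [f.orth_Q_smul, hv, mul_zero], by rw [map_smul, smul_eq_mul, ksq h]⟩

variable [FiniteDimensional K V] (hf : f.Nondeg)
include hf

theorem exY {k : ℕ} (v : Fin k → V)
    (h : ∀ c : Fin k → K, (∀ i, f.B (v i) (∑ j, c j • v j) = 0) → ∀ j, c j = 0) :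
    ∃ Y : Submodule K V, (∀ y, y ∈ Y ↔ ∀ i, f.B (v i) y = 0) ∧ (f.res Y).Nondeg ∧
      finrank K V ≤ finrank K Y + k := by
  have m : ∀ y, y ∈ f.perp (span K (Set.range v)) ↔ ∀ i, f.B (v i) y = 0 := fun y => by
    rw [FS.mem_perp_span]; simp
  refine ⟨f.perp (span K (Set.range v)), m, hf.nondeg_perp ?_, ?_⟩
  · rw [Submodule.disjoint_def]
    intro x h1 h2
    obtain ⟨c, rfl⟩ := (mem_span_range_iff_exists_fun K).1 h1
    simp [h c ((m _).1 h2)]
  · have h1 := hf.finrank_perp (span K (Set.range v))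
    have h2 := finrank_range_le_card (R := K) v
    simp only [Set.finrank, Fintype.card_fin] at h2
    omega

variable (hn : 5 ≤ finrank K V)
include hn

theorem ex3 {e w u : V} (he : f.Q e = 1) (h : f.IsHyp w u) (h1 : f.B e w = 0) (h2 : f.B e u = 0) :
    (∃ p, f.Q p = 1 ∧ f.B e p = 0 ∧ f.B w p = 0) ∧
    ∀ y, f.B e y = 0 → f.B w y = 0 → f.B u y = 0 → f.Q y = 0 →
      (∀ p, f.Q p = 1 → f.B e p = 0 → f.B w p = 0 → f.B p y = 0) → y = 0 := by
  have a1 := Bpt he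
  have a2 := h.B11
  have a3 := h.B22
  have a4 := h.B12
  have a5 : f.B u w = 1 := by rw [Bs]; exact a4
  have a6 : f.B w e = 0 := by rw [Bs]; exact h1
  have a7 : f.B u e = 0 := by rw [Bs]; exact h2
  obtain ⟨Y, m, nd, d⟩ := exY hf ![e, w, u] fun c hc => by
    have c0 := hc 0
    have c1 := hc 1
    have c2 := hc 2
    simp [Fin.sum_univ_succ, a1, a2, a3, a4, a5, a6, a7, h1, h2] at c0 c1 c2
    intro j; fin_cases j <;> simp [c0, c1, c2]
  have m' : ∀ y, y ∈ Y ↔ f.B e y = 0 ∧ f.B w y = 0 ∧ f.B u y = 0 := fun y => by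
    rw [m]; simp [Fin.forall_fin_succ]
  constructor
  · obtain ⟨p, hp⟩ := nd.universal (by omega) 1
    exact ⟨p, hp, ((m' _).1 p.2).1, ((m' _).1 p.2).2.1⟩
  · intro y y1 y2 y3 y4 y5
    by_contra y0
    have ym : y ∈ Y := (m' _).2 ⟨y1, y2, y3⟩
    obtain ⟨v, hv⟩ := nd.exists_partner' (u := ⟨y, ym⟩) (by exact y4)
      (fun e => y0 (congrArg Subtype.val e))
    have q2 : f.Q v = 0 := hv.Q2
    have q3 : f.B y v = 1 := hv.B12
    have := y5 (y + v) (by rw [f.orth_Q_add, y4, q2, q3]; simp)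
      (by simp [y1, ((m' _).1 v.2).1]) (by simp [y2, ((m' _).1 v.2).2.1])
    simp [B0 y4, Bs (v : V) y, q3] at this

omit hn [FiniteDimensional K V] in
theorem partner {e w : V} (he : f.Q e = 1) (hw : f.Q w = 0) (w0 : w ≠ 0) (h : f.B e w = 0) :
    ∃ u, f.IsHyp w u ∧ f.B e u = 0 := by
  obtain ⟨u, h1, h2⟩ := hf.exists_partner hw (Z := span K {e}) (fun t => by
    obtain ⟨c, rfl⟩ := mem_span_singleton.1 t
    simp [Bpt he] at h
    exact w0 (by simp [h])) (fun z t => by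
    obtain ⟨c, rfl⟩ := mem_span_singleton.1 t
    simp [h])
  exact ⟨u, h1, h2 e (mem_span_singleton_self e)⟩

theorem exp {e w : V} (he : f.Q e = 1) (hw : f.Q w = 0) (w0 : w ≠ 0) (h : f.B e w = 0) :
    ∃ p, f.Q p = 1 ∧ f.B e p = 0 ∧ f.B w p = 0 := by
  obtain ⟨u, h1, h2⟩ := partner hf he hw w0 h
  exact (ex3 hf hn he h1 h h2).1

/-- a vector orthogonal to all points orthogonal to `e` and `w` -/
theorem key {e w z : V} (he : f.Q e = 1) (hw : f.Q w = 0) (w0 : w ≠ 0) (h : f.B e w = 0)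
    (hz : ∀ p, f.Q p = 1 → f.B e p = 0 → f.B w p = 0 → f.B p z = 0)
    (hq : f.Q z = f.B e z * f.B e z) : ∃ c : K, z = (-f.B e z) • e + c • w := by
  obtain ⟨u, h1, h2⟩ := partner hf he hw w0 h
  obtain ⟨⟨p, p1, p2, p3⟩, k⟩ := ex3 hf hn he h1 h h2
  have a1 := Bpt he
  have a2 := h1.B11
  have a4 := h1.B12
  have a5 : f.B u w = 1 := by rw [Bs]; exact a4
  have a6 : f.B w e = 0 := by rw [Bs]; exact h
  have a7 : f.B u e = 0 := by rw [Bs]; exact h2
  have wz : f.B w z = 0 := by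
    have t1 := hz p p1 p2 p3
    have t2 := hz (p + w) (by rw [f.orth_Q_add, p1, hw, Bs, p3]; simp) (by simp [p2, h])
      (by simp [p3, a2])
    simpa [t1] using t2
  refine ⟨f.B u z, ?_⟩
  have := k (z + f.B e z • e - f.B u z • w) (by simp [a1, h]) (by simp [wz, a6, a2])
    (by simp [a7, a5]) ?_ ?_
  · linear_combination (norm := module) this
  · rw [FS.orth_Q_sub, f.orth_Q_add, f.orth_Q_smul, f.orth_Q_smul, he, hw, hq]
    simp [Bs z e, Bs z w, wz, h]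
    linear_combination (f.B e z * f.B e z) * h3
  · intro q q1 q2 q3
    simp [hz q q1 q2 q3, Bs q e, q2, Bs q w, q3]

theorem uniq {e w z : V} (he : f.Q e = 1) (hw : f.Q w = 0) (w0 : w ≠ 0) (h : f.B e w = 0)
    (hz : ∀ p, f.Q p = 1 → f.B e p = 0 → f.B w p = 0 → f.B p z = 0)
    (hq : f.Q z = 0) (z0 : z ≠ 0) (h' : f.B e z = 0) : z = w ∨ z = -w := by
  obtain ⟨c, hc⟩ := key hf hn he hw w0 h hz (by rw [hq, h', mul_zero])
  rw [h'] at hc
  rcases k3 c with rfl | rfl | rfl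
  · exact absurd (by simpa using hc) z0
  · exact Or.inl (by simpa using hc)
  · exact Or.inr (by simpa using hc)

theorem ex4 {e b w u : V} (he : f.Q e = 1) (hb : f.Q b = 1) (h : f.IsHyp w u) (h0 : f.B e b = 0)
    (h1 : f.B e w = 0) (h2 : f.B e u = 0) (h3 : f.B b w = 0) (h4 : f.B b u = 0) :
    ∃ y, f.Q y ≠ 0 ∧ f.B e y = 0 ∧ f.B b y = 0 ∧ f.B w y = 0 ∧ f.B u y = 0 := by
  have a1 := Bpt he
  have a1' := Bpt hb
  have a2 := h.B11
  have a3 := h.B22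
  have a4 := h.B12
  obtain ⟨Y, m, nd, d⟩ := exY hf ![e, b, w, u] fun c hc => by
    have c0 := hc 0
    have c1 := hc 1
    have c2 := hc 2
    have c3 := hc 3
    simp [Fin.sum_univ_succ, a1, a1', a2, a3, a4, Bs u w, Bs w e, Bs u e, Bs b e, Bs w b, Bs u b,
      h0, h1, h2, h3, h4] at c0 c1 c2 c3
    intro j; fin_cases j <;> simp [c0, c1, c2, c3]
  obtain ⟨y, hy⟩ := nd.exists_Q_ne' (by omega)
  have := (m _).1 y.2
  exact ⟨y, hy, this 0, this 1, this 2, this 3⟩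

/-- a common opposite vector -/
theorem co3 {u v z : V} (hu : f.Q u = 0) (u0 : u ≠ 0) (hv : f.Q v = 0) (hz : f.Q z = 0)
    (h : f.B v z ≠ 0) : ∃ y, f.Q y = 0 ∧ f.B u y ≠ 0 ∧ f.B v y ≠ 0 ∧ f.B z y ≠ 0 := by
  have H := hyp_of hv hz h
  set z' := f.B v z • z with hz'
  suffices ∃ y, f.Q y = 0 ∧ f.B u y ≠ 0 ∧ f.B v y ≠ 0 ∧ f.B z' y ≠ 0 by
    obtain ⟨y, y1, y2, y3, y4⟩ := this
    exact ⟨y, y1, y2, y3, fun e => y4 (by simp [hz', e])⟩
  clear_value z'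
  have a2 := H.B11
  have a3 := H.B22
  have a4 := H.B12
  have nd := H.nondeg_hperp hf
  have d := H.finrank_hperp
  obtain ⟨a, b, u', m, e⟩ := H.decomp u
  have m' := FS.mem_hperp.1 m
  obtain ⟨y, ym, y1, y2⟩ : ∃ y ∈ f.hperp v z', f.Q y ≠ 0 ∧ (u' ≠ 0 → f.B u' y ≠ 0) := by
    obtain ⟨t, ht⟩ := nd.exists_Q_ne' (by omega)
    have ht : f.Q t ≠ 0 := ht
    by_cases c1 : u' = 0
    · exact ⟨t, t.2, ht, fun n => (n c1).elim⟩
    by_cases c2 : f.B u' t = 0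
    swap
    · exact ⟨t, t.2, ht, fun _ => c2⟩
    obtain ⟨s, hs⟩ : ∃ s : f.hperp v z', f.B u' s ≠ 0 := by
      by_contra! c
      exact c1 (congrArg Subtype.val (nd.eq_zero (x := ⟨u', m⟩) c))
    by_cases c3 : f.Q s = 0
    swap
    · exact ⟨s, s.2, c3, fun _ => hs⟩
    rcases kor (c := f.Q t) (d := f.B s t) (Or.inl ht) with c4 | c4
    · exact ⟨s + t, add_mem s.2 t.2, by rwa [f.orth_Q_add, c3, zero_add], fun _ => by simpa [c2]⟩
    · exact ⟨s - t, sub_mem s.2 t.2, by rwa [FS.orth_Q_sub, c3, zero_add], fun _ => by simpa [c2]⟩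
  have ym' := FS.mem_hperp.1 ym
  have hQ := H.orth_Q a b m
  rw [← e, hu] at hQ
  have k : b - a * f.Q y ≠ 0 ∨ f.B u' y ≠ 0 := by
    by_cases c1 : u' = 0
    · left
      rw [c1, f.Q_zero, add_zero] at hQ
      have : a ≠ 0 ∨ b ≠ 0 := by
        by_contra! c
        exact u0 (by simp [e, c1, c.1, c.2])
      generalize f.Q y = q at y1
      clear e
      revert a b q; decide
    · exact Or.inr (y2 c1)
  have t : ∀ s : K, s * s = 1 → b - a * f.Q y + s * f.B u' y ≠ 0 →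
      ∃ y, f.Q y = 0 ∧ f.B u y ≠ 0 ∧ f.B v y ≠ 0 ∧ f.B z' y ≠ 0 := fun s s1 s2 => by
    refine ⟨(1 : K) • v + (-f.Q y) • z' + s • y, ?_, ?_, ?_, ?_⟩
    · rw [H.orth_Q _ _ (smul_mem _ _ ym), f.orth_Q_smul, s1]; ring
    · rw [e]
      simp [a2, a3, a4, Bs z' v, ym'.1, ym'.2, Bs u' v, Bs u' z', m'.1, m'.2]
      intro e; apply s2; linear_combination e
    · simpa [a2, a4, ym'.1] using y1
    · simp [a3, Bs z' v, a4, ym'.2]
  rcases kor k with c | c
  · exact t 1 (by decide) (by simpa using c)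
  · exact t (-1) (by decide) (by simpa [sub_eq_add_neg] using c)

theorem co2 {u v : V} (hu : f.Q u = 0) (u0 : u ≠ 0) (hv : f.Q v = 0) (v0 : v ≠ 0) :
    ∃ y, f.Q y = 0 ∧ f.B u y ≠ 0 ∧ f.B v y ≠ 0 := by
  obtain ⟨z, H⟩ := hf.exists_partner' hv v0
  obtain ⟨y, y1, y2, y3, -⟩ := co3 hf hn hu u0 hv H.Q2 (by rw [H.B12]; exact one_ne_zero)
  exact ⟨y, y1, y2, y3⟩

theorem co4 {u v y z : V} (hu : f.Q u = 0) (hv : f.Q v = 0) (hy : f.Q y = 0)
    (uv : f.B u v = 0) (yz : f.B y z = 0) (uy : f.B u y ≠ 0) (vy : f.B v y ≠ 0)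
    (uz : f.B u z ≠ 0) :
    ∃ t, f.Q t = 0 ∧ f.B u t ≠ 0 ∧ f.B v t ≠ 0 ∧ f.B y t ≠ 0 ∧ f.B z t ≠ 0 := by
  have H := hyp_of hu hy uy
  have pm := H.proj_mem v
  have pq := H.Q_eq v
  simp only [uv, hv, zero_smul, sub_zero, mul_zero, map_zero, zero_add] at pm pq
  obtain ⟨t, tm, t1, t2⟩ := FS.exists_Q_ne_orth hf hn H pq.symm pm
  obtain ⟨ut, yt⟩ := FS.mem_hperp.1 tm
  have yt : f.B y t = 0 := by simpa [uy] using yt
  have vt : f.B v t = 0 := by simpa [ut] using t1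
  have k : ∀ s : K, s * s = 1 → -(f.Q t * f.B u y) * f.B u z + s * f.B z t ≠ 0 →
      ∃ t, f.Q t = 0 ∧ f.B u t ≠ 0 ∧ f.B v t ≠ 0 ∧ f.B y t ≠ 0 ∧ f.B z t ≠ 0 := fun s s1 s2 => by
    refine ⟨y + s • t + (-(f.Q t * f.B u y)) • u, ?_, ?_, ?_, ?_, ?_⟩
    · rw [f.orth_Q_add, f.orth_Q_add, f.orth_Q_smul, f.orth_Q_smul, hu, hy, s1]
      simp [yt, Bs y u, Bs t u, ut]
      linear_combination (-f.Q t) * ksq uy
    · simpa [ut, B0 hu] using uy
    · simpa [vt, Bs v u, uv] using vy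
    · simp [B0 hy, yt, Bs y u, uy, t2]
    · simp [Bs z y, yz, Bs z u]
      intro e; apply s2; linear_combination e
  rcases kor (c := -(f.Q t * f.B u y) * f.B u z) (d := f.B z t)
    (Or.inl (by simp [t2, uy, uz])) with c | c
  · exact k 1 (by decide) (by simpa using c)
  · exact k (-1) (by decide) (by simpa [sub_eq_add_neg] using c)

end Cfsg.Agent.Fs.O3
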