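import Cfsg.Agent.Fs.O3a

/-! Charts of orthogonal type around a point. -/
set_option autoImplicit false

namespace Cfsg.Agent.Fs.O3

open Cfsg.Agent.Fis Cfsg.Agent.Class Module

local notation "K" => ZMod 3

variable {G : Type*} [Group G] {D : Set G} [TT D]
variable {V : Type*} [AddCommGroup V] [Module K V] {f : OS K V}

structure Ch (f : OS K V) (x : Pt D) (ρ : V → Pt D) : Prop where
  neg : ∀ v, ρ (-v) = ρ v
  rng : ∀ y, y ∈ Dx x ↔ ∃ v, f.Q v = 1 ∧ ρ v = y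
  inj : ∀ u v, f.Q u = 1 → f.Q v = 1 → ρ u = ρ v → u = v ∨ u = -v
  cm : ∀ u v, f.Q u = 1 → f.Q v = 1 → ρ u ≠ ρ v → (Cm (ρ u) (ρ v) ↔ f.B u v = 0)
  st : ∀ u v, f.Q u = 1 → f.Q v = 1 → ρ u ⋆ ρ v = ρ (v - f.B u v • u)

theorem exists_ch {H : Type*} [Group H] {E : Set H} [TT E] {Φ : Pt E → V} (hM : OModel f Φ)
    (a0 : Pt E) {x : Pt D} {φ : Pt E → Pt D} (l : Emb x φ) : ∃ ρ, Ch f x ρ := by
  classical
  let P : V → Pt E := fun v => if h : ∃ a, v = Φ a ∨ v = -Φ a then h.choose else a0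
  have hP : ∀ v a, v = Φ a ∨ v = -Φ a → P v = a := fun v a h => by
    have e : ∃ a, v = Φ a ∨ v = -Φ a := ⟨a, h⟩
    simp only [P, dif_pos e]
    apply hM.inj
    rcases e.choose_spec with h1 | h1 <;> rcases h with h | h
    · exact Or.inl (h1.symm.trans h)
    · exact Or.inr (h1.symm.trans h)
    · exact Or.inr (neg_eq_iff_eq_neg.1 (h1.symm.trans h))
    · exact Or.inl (neg_injective (h1.symm.trans h))
  have hn : ∀ v, P (-v) = P v := fun v => by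
    by_cases h : ∃ a, v = Φ a ∨ v = -Φ a
    · obtain ⟨a, h⟩ := h
      rw [hP v a h, hP (-v) a (h.symm.imp (fun t => by rw [t, neg_neg]) fun t => by rw [t])]
    · have h' : ¬ ∃ a, -v = Φ a ∨ -v = -Φ a := fun ⟨a, t⟩ =>
        h ⟨a, t.symm.imp (fun t => neg_injective t) fun t => by rw [← t, neg_neg]⟩
      simp only [P, dif_neg h, dif_neg h']
  have h1 : ∀ a, P (Φ a) = a := fun a => hP _ a (Or.inl rfl)
  refine ⟨fun v => φ (P v), fun v => by rw [hn], fun y => ⟨fun t => ?_, ?_⟩, ?_, ?_, ?_⟩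
  · obtain ⟨p, rfl⟩ := (l.rng y).1 t
    exact ⟨Φ p, hM.q p, by rw [h1]⟩
  · rintro ⟨v, -, rfl⟩
    exact l.mem _
  · intro u v hu hv e
    obtain ⟨a, rfl | rfl⟩ := hM.surj u hu <;> obtain ⟨b, rfl | rfl⟩ := hM.surj v hv <;>
      simp only [hn, h1, l.inj.eq_iff] at e <;> simp [e]
  · intro u v hu hv e
    obtain ⟨a, rfl | rfl⟩ := hM.surj u hu <;> obtain ⟨b, rfl | rfl⟩ := hM.surj v hv <;>
      simp only [hn, h1, l.inj.ne_iff] at e ⊢ <;> simp [l.cm, hM.cm a b e]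
  · intro u v hu hv
    obtain ⟨a, rfl | rfl⟩ := hM.surj u hu <;> obtain ⟨b, rfl | rfl⟩ := hM.surj v hv <;>
      simp only [hn, h1] <;> rw [← l.st, ← hP _ _ (hM.st a b)]
    · rw [← hn]; congr 2; simp; abel
    · simp
    · rw [← hn]; congr 2; simp; abel

theorem Qline {p u : V} (hp : f.Q p = 1) (hu : f.Q u = 0) (h : f.B p u = 0) (c : K) :
    f.Q (p + c • u) = 1 := by
  rw [f.orth_Q_add, f.orth_Q_smul, hp, hu]; simp [h]

theorem Qadd {p u : V} (hp : f.Q p = 1) (hu : f.Q u = 0) (h : f.B p u = 0) : f.Q (p + u) = 1 := by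
  simpa using Qline hp hu h 1

theorem Qsub {p u : V} (hp : f.Q p = 1) (hu : f.Q u = 0) (h : f.B p u = 0) : f.Q (p - u) = 1 := by
  simpa [sub_eq_add_neg] using Qline hp hu h (-1)

/-- intrinsic description of the radical of a line -/
def Tl (a b y : Pt D) : Prop :=
  y = a ∨ y = b ∨ y = a ⋆ b ∨ (Cm a y ∧ Cm b y) ∨ (¬ Cm a y ∧ ¬ Cm b y ∧ ¬ Cm (a ⋆ b) y)

namespace Ch
variable {x : Pt D} {ρ : V → Pt D} (h : Ch f x ρ) {u v p q w : V}
include h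

theorem cmx (hv : f.Q v = 1) : Cm x (ρ v) := ((h.rng _).2 ⟨v, hv, rfl⟩).2

theorem nex (hv : f.Q v = 1) : ρ v ≠ x := ((h.rng _).2 ⟨v, hv, rfl⟩).1

theorem ex {y : Pt D} (h1 : y ≠ x) (h2 : Cm x y) : ∃ v, f.Q v = 1 ∧ ρ v = y := (h.rng y).1 ⟨h1, h2⟩

theorem B_eq (hu : f.Q u = 1) (hv : f.Q v = 1) (e : ρ u = ρ v) (z : V) :
    f.B z u = 0 ↔ f.B z v = 0 := by
  rcases h.inj u v hu hv e with rfl | rfl <;> simp

theorem ne0 (hu : f.Q u = 1) (hv : f.Q v = 1) (e : f.B u v = 0) : ρ u ≠ ρ v := fun t => by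
  have := (h.B_eq hu hv t u).2 e
  rw [Bpt hu] at this
  exact absurd this (by decide)

theorem cm0 (hu : f.Q u = 1) (hv : f.Q v = 1) (e : f.B u v = 0) : Cm (ρ u) (ρ v) :=
  (h.cm u v hu hv (h.ne0 hu hv e)).2 e

theorem line_st (hp : f.Q p = 1) (hu : f.Q u = 0) (e : f.B p u = 0) :
    ρ p ⋆ ρ (p + u) = ρ (p - u) := by
  rw [h.st _ _ hp (Qadd hp hu e), ← h.neg]
  congr 1
  simp only [map_add, e, Bpt hp]
  linear_combination (norm := module) (-h3) • p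

theorem line_nc (hp : f.Q p = 1) (hu : f.Q u = 0) (u0 : u ≠ 0) (e : f.B p u = 0) :
    ¬ Cm (ρ p) (ρ (p + u)) := by
  have hq := Qadd hp hu e
  rw [h.cm _ _ hp hq fun t => ?_]
  · simp [e, Bpt hp]
  · rcases h.inj _ _ hp hq t with t | t
    · exact u0 (by simpa using t)
    · have := congrArg (f.B p) t
      simp [e, Bpt hp] at this
      exact absurd this (by decide)

theorem norm (hp : f.Q p = 1) (hq : f.Q q = 1) (n : ¬ Cm (ρ p) (ρ q)) :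
    ∃ w, f.Q w = 0 ∧ w ≠ 0 ∧ f.B p w = 0 ∧ ρ q = ρ (p + w) := by
  have k : ∀ q, f.Q q = 1 → ¬ Cm (ρ p) (ρ q) → f.B p q = -1 →
      ∃ w, f.Q w = 0 ∧ w ≠ 0 ∧ f.B p w = 0 ∧ ρ q = ρ (p + w) := fun q hq n e =>
    ⟨q - p, by rw [FS.orth_Q_sub, hq, hp, Bs, e]; decide,
      fun t => n (by rw [sub_eq_zero.1 t]; exact Cm.refl _), by simp [e, Bpt hp], by simp⟩
  rcases k3 (f.B p q) with e | e | e
  · exact (n (h.cm0 hp hq e)).elim
  · rw [← h.neg q] at n ⊢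
    exact k _ (by rwa [f.Q_neg]) n (by simp [e])
  · exact k q hq n e

theorem tl (hp : f.Q p = 1) (hu : f.Q u = 0) (e : f.B p u = 0) (hv : f.Q v = 1) :
    Tl (ρ p) (ρ (p + u)) (ρ v) ↔ f.B u v = 0 := by
  have h1 := Qadd hp hu e
  have h2 := Qsub hp hu e
  have e' : f.B u p = 0 := by rw [Bs]; exact e
  rw [Tl, h.line_st hp hu e]
  by_cases c1 : ρ v = ρ p
  · simp [c1, h.B_eq hv hp c1, e']
  by_cases c2 : ρ v = ρ (p + u)
  · simp [c2, h.B_eq hv h1 c2, e', B0 hu]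
  by_cases c3 : ρ v = ρ (p - u)
  · simp [c3, h.B_eq hv h2 c3, e', B0 hu]
  rw [h.cm _ _ hp hv (Ne.symm c1), h.cm _ _ h1 hv (Ne.symm c2), h.cm _ _ h2 hv (Ne.symm c3)]
  simp only [c1, c2, c3, false_or, map_add, map_sub, LinearMap.add_apply, LinearMap.sub_apply]
  generalize f.B p v = a
  generalize f.B u v = b
  revert a b; decide

theorem cm_xst (hv : f.Q v = 1) {a : Pt D} : Cm (ρ v) (x ⋆ a) ↔ Cm (ρ v) a := by
  rw [cm_st_iff, (h.cmx hv).eq]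

/-- pairs of compatible automorphisms -/
def Γ : Subgroup (G × f.Isom) where
  carrier := {z | z.1 • x = x ∧ ∀ v, f.Q v = 1 → z.1 • ρ v = ρ (z.2.1 v)}
  one_mem' := ⟨one_smul _ _, fun v _ => one_smul _ _⟩
  mul_mem' {a b} ha hb := ⟨by rw [Prod.fst_mul, mul_smul, hb.1, ha.1], fun v hv => by
    rw [Prod.fst_mul, mul_smul, hb.2 v hv, ha.2 _ (by rw [FS.Isom_Q b.2.2, hv])]; rfl⟩
  inv_mem' {a} ha := ⟨by rw [Prod.fst_inv, inv_smul_eq_iff, ha.1], fun v hv => by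
    have := h
    rw [Prod.fst_inv, inv_smul_eq_iff, ha.2 _ (by rw [FS.Isom_Q a⁻¹.2.2, hv])]
    exact congrArg ρ (a.2.1.apply_symm_apply v).symm⟩

theorem rf_mem (hp : f.Q p = 1) : ((ρ p).t, f.rf p) ∈ h.Γ :=
  ⟨(h.cmx hp).eq', fun v hv => by
    rw [← st_def, h.st _ _ hp hv, FS.rf_apply, hp, inv_one, one_mul]⟩

theorem ee_mem (hp : f.Q p = 1) (hw : f.Q w = 0) (e : f.B p w = 0) :
    ((ρ p).t * (ρ (p + w)).t, f.ee w p) ∈ h.Γ := by
  rw [FS.ee_eq_rf hw (by rw [Bs]; exact e) (by rw [hp]; exact one_ne_zero), hp, one_smul]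
  exact mul_mem (h.rf_mem hp) (h.rf_mem (Qadd hp hw e))

end Ch

variable [FiniteDimensional K V] (hf : f.Nondeg) (hn : 5 ≤ finrank K V)
  (hc : ∀ x : Pt D, ∃ ρ, Ch f x ρ)
include hf hn hc

theorem two {e x a b : Pt D} (ex : Cm e x) (ea : Cm e a) (eb : Cm e b) (xa : ¬ Cm x a)
    (xb : ¬ Cm x b) (hs : ∀ y, Cm e y → y ≠ e → Cm y x → Cm y a → Cm y b) :
    b = a ∨ b = x ⋆ a := by
  obtain ⟨ψ, h⟩ := hc e
  obtain ⟨x, hx, rfl⟩ := h.ex (y := x) (fun t => xa (t ▸ ea)) ex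
  obtain ⟨a, ha, rfl⟩ := h.ex (y := a) (fun t => xa (t ▸ ex.symm)) ea
  obtain ⟨b, hb, rfl⟩ := h.ex (y := b) (fun t => xb (t ▸ ex.symm)) eb
  obtain ⟨w, w1, w2, w3, w4⟩ := h.norm hx ha xa
  rw [w4] at hs ⊢
  have n : f.B x b ≠ 0 := fun t => xb (h.cm0 hx hb t)
  obtain ⟨c, e⟩ := key hf hn hx w1 w2 w3 (z := b) (fun p p1 p2 p3 => by
    have c1 := (h.cm0 hx p1 p2).symm
    have := hs _ (h.cmx p1) (h.nex p1) c1
      (h.cm0 (Qadd hx w1 w3) p1 (by simp [p2, p3])).symm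
    exact (h.cm _ _ p1 hb fun t => xb (t ▸ c1.symm)).1 this) (by rw [hb, ksq n])
  obtain ⟨d, e⟩ : ∃ d : K, ψ b = ψ (x + d • w) := by
    rcases kpm n with t | t <;> rw [t] at e
    · exact ⟨-c, by rw [← h.neg, e]; congr 1; module⟩
    · exact ⟨c, by rw [e]; congr 1; module⟩
  rw [h.line_st hx w1 w3]
  rcases k3 d with rfl | rfl | rfl
  · exact (xb (by rw [e, zero_smul, add_zero]; exact Cm.refl _)).elim
  · exact Or.inl (by rw [e, one_smul])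
  · exact Or.inr (by rw [e, neg_smul, one_smul, sub_eq_add_neg])

variable {x a : Pt D} {ρ : V → Pt D} (h : Ch f x ρ) (xa : ¬ Cm x a)
include h xa

theorem s1 {e : V} (he : f.Q e = 1) (ea : Cm (ρ e) a) : ∃ w, f.Q w = 0 ∧ w ≠ 0 ∧ f.B e w = 0 ∧
    ∀ q, f.Q q = 1 → f.B e q = 0 → (Cm (ρ q) a ↔ f.B w q = 0) := by
  obtain ⟨ψ, k⟩ := hc (ρ e)
  obtain ⟨x', hx, ex⟩ := k.ex (y := x) (h.nex he).symm (h.cmx he).symm
  obtain ⟨a', ha, rfl⟩ := k.ex (y := a) (fun t => xa (t ▸ h.cmx he)) ea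
  obtain ⟨w', w1, w2, w3, w4⟩ := k.norm hx ha (ex ▸ xa)
  obtain ⟨p', p1, p2, p3⟩ := exp hf hn hx w1 w2 w3
  have p4 : f.B p' w' = 0 := by rw [Bs]; exact p3
  have p5 := Qadd p1 w1 p4
  have p6 : f.B x' (p' + w') = 0 := by simp [p2, w3]
  obtain ⟨p, hp, e1⟩ := h.ex (y := ψ p') (ex ▸ (k.ne0 hx p1 p2).symm) (ex ▸ k.cm0 hx p1 p2)
  obtain ⟨r, hr, e2⟩ := h.ex (y := ψ (p' + w')) (ex ▸ (k.ne0 hx p5 p6).symm) (ex ▸ k.cm0 hx p5 p6)
  obtain ⟨w, u1, u2, u3, u4⟩ := h.norm hp hr (by rw [e1, e2]; exact k.line_nc p1 w1 w2 p4)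
  rw [u4] at e2
  have u5 := Qadd hp u1 u3
  have b1 : f.B e p = 0 := (h.cm _ _ he hp (e1 ▸ (k.nex p1).symm)).1 (e1 ▸ k.cmx p1)
  have b2 : f.B e (p + w) = 0 := (h.cm _ _ he u5 (e2 ▸ (k.nex p5).symm)).1 (e2 ▸ k.cmx p5)
  refine ⟨w, u1, u2, by simpa [b1] using b2, fun q q1 q2 => ?_⟩
  obtain ⟨q', q3, q4⟩ := k.ex (h.ne0 he q1 q2).symm (h.cm0 he q1 q2)
  have b3 : f.B x' q' = 0 :=
    (k.cm _ _ hx q3 (by rw [ex, q4]; exact (h.nex q1).symm)).1 (by rw [ex, q4]; exact h.cmx q1)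
  rw [← h.tl hp u1 u3 q1, e1, e2, ← q4, k.tl p1 w1 p4 q3, w4, cm_comm,
    k.cm _ _ (Qadd hx w1 w3) q3 fun t => xa (by rw [w4, t, q4]; exact h.cmx q1)]
  simp [b3]

section
variable {e w : V} (he : f.Q e = 1) (ea : Cm (ρ e) a) (hw : f.Q w = 0) (w0 : w ≠ 0)
  (ew : f.B e w = 0) (hs : ∀ q, f.Q q = 1 → f.B e q = 0 → (Cm (ρ q) a ↔ f.B w q = 0))
include he ea hs

theorem pres {g : G} {y : V} (hw : f.Q w = 0) (wy : f.B w y = 0) (ey : f.B y e = 0)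
    (ew : f.B e w = 0) (hg : (g, f.ee w y) ∈ h.Γ) : g • a = a ∨ g • a = x ⋆ a := by
  have t1 : (f.ee w y).1 e = e := by rw [FS.ee_apply hw wy]; simp [Bs w e, ew, ey]
  have t2 : (f.ee w y).1 w = w := FS.ee_apply_left
  refine two hf hn hc (h.cmx he).symm ea ?_ xa ?_ fun z z1 z2 z3 z4 => ?_
  · have := ea.smul g
    rwa [hg.2 e he, t1] at this
  · intro t; apply xa
    rwa [← hg.1, cm_smul] at t
  · obtain ⟨q, q1, rfl⟩ := h.ex (y := z) (fun t => xa (t ▸ z4)) z3.symm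
    have b1 := (h.cm _ _ he q1 z2.symm).1 z1
    have b2 := (hs q q1 b1).1 z4
    have m := (f.ee w y).2
    have q2 : f.Q ((f.ee w y).1.symm q) = 1 := by
      rw [← FS.Isom_Q m, LinearEquiv.apply_symm_apply, q1]
    have := ((hs _ q2 (by rw [FS.Isom_B_symm m, t1, b1])).2
      (by rw [FS.Isom_B_symm m, t2, b2])).smul g
    rwa [hg.2 _ q2, LinearEquiv.apply_symm_apply] at this

include hw w0 ew

theorem s2a : Cm (ρ (e + w)) a := by
  obtain ⟨b, hb, eb, wb⟩ := exp hf hn he hw w0 ew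
  have be : f.B b e = 0 := by rw [Bs]; exact eb
  have bw : f.B b w = 0 := by rw [Bs]; exact wb
  obtain ⟨u, u1, u2, u3, u4⟩ := s1 hf hn hc h xa hb ((hs b hb eb).2 wb)
  have ue := (u4 e he be).1 ea
  by_cases c : f.B w u = 0
  · exact (u4 _ (Qadd he hw ew) (by simp [be, bw])).2 (by simp [ue, Bs u w, c])
  exfalso
  obtain ⟨y, y0, y1, y2, y3, y4⟩ := ex4 hf hn he hb (hyp_of hw u1 c) eb ew
    (by simp [Bs e u, ue]) bw (by simp [u3])
  have y4 : f.B u y = 0 := by simpa [c] using y4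
  rcases kpm y0 with t | t
  · have q1 := Qadd t hw (by rw [Bs]; exact y3)
    have := (u4 _ q1 (by simp [y2, bw])).1 ((hs _ q1 (by simp [y1, ew])).2 (by simp [y3, B0 hw]))
    exact c (by simpa [y4, Bs u w] using this)
  have p1 : f.Q (y + e + b) = 1 := by
    rw [f.orth_Q_add, f.orth_Q_add, t, he, hb]; simp [Bs y e, y1, Bs y b, y2, eb]
  have we : f.B w e = 0 := by rw [Bs]; exact ew
  have m := mul_mem (mul_mem (h.ee_mem p1 hw (by simp [Bs y w, y3, ew, bw]))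
    (inv_mem (h.ee_mem hb hw bw))) (inv_mem (h.ee_mem he hw ew))
  rw [Prod.inv_mk, Prod.inv_mk, Prod.mk_mul_mk, Prod.mk_mul_mk, FS.ee_add hw (by simp [y3, we]) wb,
    FS.ee_add hw y3 we, mul_inv_cancel_right, mul_inv_cancel_right] at m
  have q1 := Qadd he u1 (by rw [Bs]; exact ue)
  have c1 := ((u4 _ q1 (by simp [be, u3])).2 (by simp [ue, B0 u1])).smul
    ((ρ (y + e + b)).t * (ρ (y + e + b + w)).t * ((ρ b).t * (ρ (b + w)).t)⁻¹ *
      ((ρ e).t * (ρ (e + w)).t)⁻¹)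
  rw [m.2 _ q1] at c1
  have q2 : f.Q ((f.ee w y).1 (e + u)) = 1 := by rw [FS.Isom_Q (f.ee w y).2, q1]
  have c2 : Cm (ρ ((f.ee w y).1 (e + u))) a := by
    rcases pres hf hn hc h xa he ea hs hw y3 (by rw [Bs]; exact y1) ew m with s | s <;>
      rw [s] at c1
    · exact c1
    · exact (h.cm_xst q2).1 c1
  rw [u4 _ q2 (by rw [FS.ee_apply hw y3]; simp [be, u3, y2, bw]), FS.ee_apply hw y3] at c2
  simp [ue, B0 u1, y4, Bs y e, y1, Bs y u, we, Bs u w, c, t] at c2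

theorem s2b {p : V} (hp : f.Q p = 1) (wp : f.B w p = 0) : Cm (ρ p) a := by
  have pw : f.B p w = 0 := by rw [Bs]; exact wp
  have we : f.B w e = 0 := by rw [Bs]; exact ew
  have m1 := h.ee_mem hp hw pw
  have m2 := h.ee_mem he hw ew
  have n := h.line_nc hp hw w0 pw
  have f2 : ((ρ e).t * (ρ (e + w)).t) • a = a := by
    rw [st_mul, (s2a hf hn hc h xa he ea hw w0 ew hs).eq, ea.eq]
  have k : ((ρ p).t * (ρ (p + w)).t) • a = a ∨ ((ρ p).t * (ρ (p + w)).t) • a = x ⋆ a := by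
    rcases k3 (f.B p e) with t | t | t
    · exact pres hf hn hc h xa he ea hs hw wp t ew m1
    · have m := mul_mem m1 m2
      rw [Prod.mk_mul_mk, ← FS.ee_add hw wp we] at m
      have := pres hf hn hc h xa he ea hs hw (by simp [wp, we]) (by simp [t, Bpt he]) ew m
      rwa [mul_smul, f2] at this
    · have m := mul_mem m1 (inv_mem m2)
      rw [Prod.inv_mk, Prod.mk_mul_mk, ← FS.ee_neg hw we, ← FS.ee_add hw wp (by simp [we])] at m
      have := pres hf hn hc h xa he ea hs hw (by simp [wp, we]) (by simp [t, Bpt he]) ew m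
      rwa [mul_smul, inv_smul_eq_iff.2 f2.symm] at this
  rcases k with k | k
  · exact ((mul_smul_eq_iff (ne_of_nc n)).1 k).1
  · have c := cube_eq_one n
    have k1 := m1.1
    simp only at k1
    generalize (ρ p).t * (ρ (p + w)).t = g at k c k1
    have : (g ^ 3) • a = x ⋆ a := by
      rw [pow_three, mul_smul, mul_smul, k, smul_st, k1, k, st_st, k]
    rw [c, one_smul] at this
    exact (xa this.symm).elim

theorem s2c {s : V} (h1 : f.Q s = 1) (h2 : Cm (ρ s) a) : f.B w s = 0 := by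
  by_contra n
  have q1 := Qline he hw ew (-(f.B e s * f.B w s))
  have b1 : f.B (e + -(f.B e s * f.B w s) • w) w = 0 := by simp [ew, B0 hw]
  obtain ⟨u, u1, u2, u3, u4⟩ := s1 hf hn hc h xa q1
    (s2b hf hn hc h xa he ea hw w0 ew hs q1 (by rw [Bs]; exact b1))
  have := (u4 s h1 (by simp [mul_assoc, ksq n])).1 h2
  rcases uniq hf hn q1 hw w0 b1 (z := u) (fun p p1 p2 p3 => by
    rw [Bs]; exact (u4 p p1 p2).1 (s2b hf hn hc h xa he ea hw w0 ew hs p1 p3)) u1 u2 u3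
    with rfl | rfl
  · exact n this
  · exact n (by simpa using this)

end

theorem s2 {e : V} (he : f.Q e = 1) (ea : Cm (ρ e) a) :
    ∃ w, f.Q w = 0 ∧ w ≠ 0 ∧ ∀ q, f.Q q = 1 → (Cm (ρ q) a ↔ f.B w q = 0) := by
  obtain ⟨w, w1, w2, w3, w4⟩ := s1 hf hn hc h xa he ea
  exact ⟨w, w1, w2, fun q hq => ⟨s2c hf hn hc h xa he ea w1 w2 w3 w4 hq,
    s2b hf hn hc h xa he ea w1 w2 w3 w4 hq⟩⟩

end Cfsg.Agent.Fs.O3
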