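import Cfsg.Agent.Fs.O3

/-!
Two explicit tables: the 36 and the 45 reflection vectors of the 5-dimensional orthogonal spaces
over the field of order 3.
-/
set_option autoImplicit false

namespace Cfsg.Agent.Fs

open Cfsg.Agent.Fis Cfsg.Agent.Class Subgroup Module

variable {H : Type*} [Group H] {E : Set H} [TT E]

abbrev W5 : Type := Fin 5 → ZMod 3
abbrev T5 : Type := ZMod 3 × ZMod 3 × ZMod 3 × ZMod 3 × ZMod 3

def dot5 (x y : W5) : ZMod 3 := x 0 * y 0 + x 1 * y 1 + x 2 * y 2 + x 3 * y 3 + x 4 * y 4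
def d5 (x y : T5) : ZMod 3 :=
  x.1 * y.1 + x.2.1 * y.2.1 + x.2.2.1 * y.2.2.1 + x.2.2.2.1 * y.2.2.2.1 + x.2.2.2.2 * y.2.2.2.2
def tw5 (x : T5) : W5 := ![x.1, x.2.1, x.2.2.1, x.2.2.2.1, x.2.2.2.2]

theorem tw5_inj {x y : T5} (h : tw5 x = tw5 y) : x = y :=
  Prod.ext (congrFun h 0) (Prod.ext (congrFun h 1) (Prod.ext (congrFun h 2)
    (Prod.ext (congrFun h 3) (congrFun h 4))))
theorem tw5_neg (x : T5) : tw5 (-x) = -tw5 x := by ext i; fin_cases i <;> rfl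
theorem tw5_sub (x y : T5) (c : ZMod 3) : tw5 (x - c • y) = tw5 x - c • tw5 y := by
  ext i; fin_cases i <;> rfl
theorem tw5_surj (y : W5) : tw5 (y 0, y 1, y 2, y 3, y 4) = y := by ext i; fin_cases i <;> rfl

/-- the diagonal form -/
def dg5 (c : ZMod 3) : OS (ZMod 3) W5 :=
  FS.mkOrth (fun x => c * dot5 x x) (LinearMap.mk₂ (ZMod 3) (fun x y => 2 * c * dot5 x y)
    (fun _ _ _ => by simp only [dot5, Pi.add_apply]; ring)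
    (fun _ _ _ => by simp only [dot5, Pi.smul_apply, smul_eq_mul]; ring)
    (fun _ _ _ => by simp only [dot5, Pi.add_apply]; ring)
    (fun _ _ _ => by simp only [dot5, Pi.smul_apply, smul_eq_mul]; ring))
    (fun _ _ => by simp only [dot5, LinearMap.mk₂_apply, Pi.add_apply]; ring)
    (fun _ _ => by simp only [dot5, Pi.smul_apply, smul_eq_mul]; ring)

theorem dg5_B (c : ZMod 3) (x y : W5) : (dg5 c).B x y = 2 * c * dot5 x y := rfl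
theorem dg5_Q (c : ZMod 3) (x : W5) : (dg5 c).Q x = c * dot5 x x := rfl

theorem dg5_nondeg {c : ZMod 3} (hc : c ≠ 0) : (dg5 c).Nondeg := by
  refine FS.nondeg_of_sep fun x hx => ?_
  have h2 : (2 * c : ZMod 3) ≠ 0 := mul_ne_zero (by decide) hc
  ext i
  have := (mul_eq_zero.1 ((dg5_B c _ _).symm.trans (hx (Pi.single i 1)))).resolve_left h2
  fin_cases i <;> simpa [dot5] using this

def z3 : List (ZMod 3) := [0, 1, 2]
theorem mem_z3 : ∀ a, a ∈ z3 := by decide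

/-- the properties of a table -/
structure Tab5 {A : Type} [DecidableEq A] (c : ZMod 3) (tab : List (A × T5))
    (cm same : A → A → Bool) : Prop where
  q : (tab.all fun t => c * d5 t.2 t.2 == 1) = true
  ne : (tab.all fun t => tab.all fun s => (t.2 == s.2 && t.1 == s.1) ||
    ((2 * c * d5 t.2 s.2 == 0) == cm t.1 s.1 && t.2 != s.2 && t.2 != -s.2 && !same t.1 s.1)) = true
  surj : (z3.all fun a => z3.all fun b => z3.all fun d => z3.all fun e => z3.all fun g =>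
    c * d5 (a, b, d, e, g) (a, b, d, e, g) != 1 ||
      tab.any fun t => (a, b, d, e, g) == t.2 || (a, b, d, e, g) == -t.2) = true

theorem Tab5.ot {A : Type} [DecidableEq A] {c : ZMod 3} (hc : c ≠ 0) {tab : List (A × T5)}
    {cm same : A → A → Bool} (T : Tab5 c tab cm same) (R : Pt E → A → Prop)
    (h1 : ∀ p, ∃ t ∈ tab, R p t.1) (h2 : ∀ t ∈ tab, ∃ p, R p t.1)
    (h3 : ∀ p q a, R p a → R q a → p = q) (h4 : ∀ p a b, R p a → R p b → same a b = true)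
    (h5 : ∀ p q a b, R p a → R q b → (cm a b = true ↔ Cm p q))
    (h6 : P4 E ∨ ∀ p q, ∀ t ∈ tab, ∀ s ∈ tab, R p t.1 → R q s.1 → ∃ r ∈ tab, R (p ⋆ q) r.1 ∧
      (s.2 - (2 * c * d5 t.2 s.2) • t.2 = r.2 ∨ s.2 - (2 * c * d5 t.2 s.2) • t.2 = -r.2)) :
    OT E 5 := by
  have Tq := T.q
  have Tn := T.ne
  have Ts := T.surj
  simp only [List.all_eq_true, List.any_eq_true, Bool.or_eq_true, Bool.and_eq_true, beq_iff_eq,
    bne_iff_ne, Bool.not_eq_true', ← Bool.not_eq_true] at Tq Tn Ts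
  choose t ht hr using h1
  have un : ∀ p, ∀ s ∈ tab, R p s.1 → (t p).2 = s.2 := fun p s hs h =>
    ((Tn _ (ht p) s hs).resolve_right fun k => k.2 (h4 p _ _ (hr p) h)).1
  have ti : ∀ p q, (t p).1 = (t q).1 → p = q := fun p q e => h3 p q _ (hr p) (e ▸ hr q)
  have k1 : ∀ p, (dg5 c).Q (tw5 (t p).2) = 1 := fun p => Tq _ (ht p)
  have k2 : ∀ p q, p ≠ q → ((dg5 c).B (tw5 (t p).2) (tw5 (t q).2) = 0 ↔ Cm p q) := fun p q hpq => by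
    rw [← h5 p q _ _ (hr p) (hr q),
      ← ((Tn _ (ht p) _ (ht q)).resolve_left fun e => hpq (ti p q e.2)).1.1.1, beq_iff_eq]
    rfl
  have k3 : ∀ p q, tw5 (t p).2 = tw5 (t q).2 ∨ tw5 (t p).2 = -tw5 (t q).2 → p = q := fun p q e =>
    ti p q ((Tn _ (ht p) _ (ht q)).resolve_right fun k => e.elim (fun e => k.1.1.2 (tw5_inj e))
      fun e => k.1.2 (tw5_inj (e.trans (tw5_neg _).symm))).2
  have k4 : ∀ y, (dg5 c).Q y = 1 → ∃ p, y = tw5 (t p).2 ∨ y = -tw5 (t p).2 := fun y hy => by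
    rw [← tw5_surj y] at hy ⊢
    obtain ⟨s, hs, e⟩ := (Ts _ (mem_z3 _) _ (mem_z3 _) _ (mem_z3 _) _ (mem_z3 _) _
      (mem_z3 _)).resolve_left (not_not.2 hy)
    obtain ⟨p, hp⟩ := h2 s hs
    exact ⟨p, by rw [un p s hs hp, ← tw5_neg]; exact e.imp (congrArg tw5) (congrArg tw5)⟩
  refine ⟨dg5 c, fun p => tw5 (t p).2, h6.elim (fun h4 => O3.omodel h4 (dg5_nondeg hc) k1 k2 k3 k4)
    fun h6 => ⟨dg5_nondeg hc, k1, k2, k3, k4, fun p q => ?_⟩⟩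
  obtain ⟨r, hr', k, e⟩ := h6 p q _ (ht p) _ (ht q) (hr p) (hr q)
  rw [un _ r hr' k, ← tw5_sub, ← tw5_neg]
  exact e.imp (congrArg tw5) (congrArg tw5)

abbrev V4 : Type := ZMod 2 × ZMod 2 × ZMod 2 × ZMod 2
abbrev V6 : Type := V4 × ZMod 2 × ZMod 2

def G4 (k l : V4) : ZMod 2 := k.1 * l.2.1 + k.2.1 * l.1 + k.2.1 * l.2.2.1 + k.2.2.1 * l.2.1 +
  k.2.2.1 * l.2.2.2 + k.2.2.2 * l.2.2.1
def Q4 (k : V4) : ZMod 2 := k.1 + k.2.1 + k.2.2.1 + k.2.2.2 + k.1 * k.2.1 + k.2.1 * k.2.2.1 +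
  k.2.2.1 * k.2.2.2
def G6 (k l : V6) : ZMod 2 := G4 k.1 l.1 + (k.2.1 * l.2.2 + k.2.2 * l.2.1)
def Q6 (k : V6) : ZMod 2 := Q4 k.1 + k.2.1 * k.2.2

def tab36 : List (V6 × T5) := [
  (((0,0,0,0),1,1), (0,0,0,1,1)), (((0,0,0,1),0,0), (0,0,0,1,2)), (((0,0,0,1),0,1), (1,1,1,1,1)),
  (((0,0,0,1),1,0), (1,1,1,2,2)), (((0,0,1,0),0,0), (1,1,2,1,2)), (((0,0,1,0),0,1), (0,0,1,1,0)),
  (((0,0,1,0),1,0), (0,0,1,0,2)), (((0,0,1,1),0,0), (1,1,2,2,1)), (((0,0,1,1),0,1), (0,0,1,0,1)),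
  (((0,0,1,1),1,0), (0,0,1,2,0)), (((0,1,0,0),0,0), (0,1,2,0,0)), (((0,1,0,0),0,1), (1,2,2,2,2)),
  (((0,1,0,0),1,0), (1,2,2,1,1)), (((0,1,0,1),1,1), (0,1,1,0,0)), (((0,1,1,0),0,0), (1,2,1,1,2)),
  (((0,1,1,0),0,1), (0,1,0,1,0)), (((0,1,1,0),1,0), (0,1,0,0,2)), (((0,1,1,1),0,0), (1,2,1,2,1)),
  (((0,1,1,1),0,1), (0,1,0,0,1)), (((0,1,1,1),1,0), (0,1,0,2,0)), (((1,0,0,0),0,0), (1,2,0,0,0)),
  (((1,0,0,0),0,1), (1,1,2,1,1)), (((1,0,0,0),1,0), (1,1,2,2,2)), (((1,0,0,1),1,1), (1,1,0,0,0)),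
  (((1,0,1,0),1,1), (1,1,1,1,2)), (((1,0,1,1),1,1), (1,1,1,2,1)), (((1,1,0,0),0,0), (1,0,2,0,0)),
  (((1,1,0,0),0,1), (1,2,1,1,1)), (((1,1,0,0),1,0), (1,2,1,2,2)), (((1,1,0,1),1,1), (1,0,1,0,0)),
  (((1,1,1,0),0,0), (1,2,2,2,1)), (((1,1,1,0),0,1), (1,0,0,1,0)), (((1,1,1,0),1,0), (1,0,0,0,2)),
  (((1,1,1,1),0,0), (1,2,2,1,2)), (((1,1,1,1),0,1), (1,0,0,0,1)), (((1,1,1,1),1,0), (1,0,0,2,0))]

theorem tab36_ok : Tab5 2 tab36 (fun a b => G6 a b == 0) (fun a b => a == b) :=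
  ⟨by decide +kernel, by decide +kernel, by decide +kernel⟩

theorem tab36_st : (tab36.all fun t => tab36.all fun s => tab36.any fun r =>
    r.1 == s.1 + G6 t.1 s.1 • t.1 && (s.2 - (2 * 2 * d5 t.2 s.2) • t.2 == r.2 ||
      s.2 - (2 * 2 * d5 t.2 s.2) • t.2 == -r.2)) = true := by decide +kernel

theorem tab36_all : ∀ k, Q6 k = 1 → (tab36.any fun t => t.1 == k) = true := by decide +kernel
theorem tab36_q : (tab36.all fun t => Q6 t.1 == 1) = true := by decide +kernel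

abbrev N4 : Type := Fin 4 × Fin 4 × Fin 4 × Fin 4

def k4 (a : Fin 4) : K4 := ![0, 1, ⟨0, 1⟩, ⟨1, 1⟩] a
def m4 (a b : Fin 4) : Fin 4 := Fin.ofNat 4 ((2625168384 >>> (2 * (4 * a.1 + b.1))) % 4)
def a4 (a b : Fin 4) : Fin 4 := Fin.ofNat 4 (a.1 ^^^ b.1)
theorem k4_mul : ∀ a b, k4 (m4 a b) = k4 a * k4 b := by decide +kernel
theorem k4_add : ∀ a b, k4 (a4 a b) = k4 a + k4 b := by decide +kernel
theorem k4_inj : ∀ a b, k4 a = k4 b → a = b := by decide +kernel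
theorem k4_surj : ∀ c, ∃ a, k4 a = c := by decide +kernel
def h4 (x y : N4) : Fin 4 := a4 (a4 (a4 (m4 (m4 x.1 x.1) y.1) (m4 (m4 x.2.1 x.2.1) y.2.1))
  (m4 (m4 x.2.2.1 x.2.2.1) y.2.2.1)) (m4 (m4 x.2.2.2 x.2.2.2) y.2.2.2)
def s4' (c : Fin 4) (x : N4) : N4 := (m4 c x.1, m4 c x.2.1, m4 c x.2.2.1, m4 c x.2.2.2)
def v4 (x : N4) : Fin 4 → K4 := ![k4 x.1, k4 x.2.1, k4 x.2.2.1, k4 x.2.2.2]

theorem v4_smul (c : Fin 4) (x : N4) : v4 (s4' c x) = k4 c • v4 x := by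
  ext1 i; fin_cases i <;> exact k4_mul _ _
theorem v4_inj {x y : N4} (h : v4 x = v4 y) : x = y :=
  Prod.ext (k4_inj _ _ (congrFun h 0)) (Prod.ext (k4_inj _ _ (congrFun h 1))
    (Prod.ext (k4_inj _ _ (congrFun h 2)) (k4_inj _ _ (congrFun h 3))))
theorem v4_surj (y : Fin 4 → K4) : ∃ x, v4 x = y := by
  choose a ha using k4_surj
  exact ⟨(a (y 0), a (y 1), a (y 2), a (y 3)), by ext1 i; fin_cases i <;> exact ha _⟩
theorem v4_B (x y : N4) : (uFS uf4 4).B (v4 x) (v4 y) = k4 (h4 x y) := by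
  show ∑ i, s4 (v4 x i) * v4 y i = _
  simp only [Fin.sum_univ_four, s4_eq, h4, k4_add, k4_mul]
  rfl

def tab45 : List (N4 × T5) := [
  ((0,0,1,1), (0,0,0,0,1)), ((0,0,1,2), (0,1,1,1,1)), ((0,0,1,3), (0,1,1,1,2)), ((0,1,0,1),
  (1,0,1,2,1)), ((0,1,0,2), (1,2,0,1,1)), ((0,1,0,3), (1,1,2,0,1)), ((0,1,1,0), (1,0,1,2,2)),
  ((0,1,2,0), (1,2,0,1,2)), ((0,1,3,0), (1,1,2,0,2)), ((1,0,0,1), (1,0,2,1,2)), ((1,0,0,2),
  (1,1,0,2,2)), ((1,0,0,3), (1,2,1,0,2)), ((1,0,1,0), (1,0,2,1,1)), ((1,0,2,0), (1,1,0,2,1)),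
  ((1,0,3,0), (1,2,1,0,1)), ((1,1,0,0), (1,0,0,0,0)), ((1,1,1,1), (0,1,0,0,0)), ((1,1,1,2),
  (0,1,1,2,2)), ((1,1,1,3), (0,1,2,1,1)), ((1,1,2,1), (0,1,1,2,1)), ((1,1,2,2), (0,0,1,0,0)),
  ((1,1,2,3), (0,1,2,2,1)), ((1,1,3,1), (0,1,2,1,2)), ((1,1,3,2), (0,1,2,2,2)), ((1,1,3,3),
  (0,0,0,1,0)), ((1,2,0,0), (1,2,2,2,0)), ((1,2,1,1), (1,1,2,1,0)), ((1,2,1,2), (1,0,2,2,2)),
  ((1,2,1,3), (1,2,2,0,1)), ((1,2,2,1), (1,0,2,2,1)), ((1,2,2,2), (1,1,1,2,0)), ((1,2,2,3),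
  (1,2,0,2,2)), ((1,2,3,1), (1,2,2,0,2)), ((1,2,3,2), (1,2,0,2,1)), ((1,2,3,3), (1,2,1,1,0)),
  ((1,3,0,0), (1,1,1,1,0)), ((1,3,1,1), (1,2,2,1,0)), ((1,3,1,2), (1,1,0,1,1)), ((1,3,1,3),
  (1,0,1,1,2)), ((1,3,2,1), (1,1,0,1,2)), ((1,3,2,2), (1,1,2,2,0)), ((1,3,2,3), (1,1,1,0,1)),
  ((1,3,3,1), (1,0,1,1,1)), ((1,3,3,2), (1,1,1,0,2)), ((1,3,3,3), (1,2,1,2,0))]

theorem tab45_ok : Tab5 1 tab45 (fun a b => h4 a b == 0)
    (fun a b => a == b || a == s4' 2 b || a == s4' 3 b) :=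
  ⟨by decide +kernel, by decide +kernel, by decide +kernel⟩

theorem tab45_all : ∀ v : N4, (v == 0 || h4 v v != 0 ||
    tab45.any fun t => v == t.1 || v == s4' 2 t.1 || v == s4' 3 t.1) = true := by decide +kernel
theorem tab45_q : (tab45.all fun t => t.1 != 0 && h4 t.1 t.1 == 0) = true := by decide +kernel

end Cfsg.Agent.Fs
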