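import Cfsg.Agent.Fs.T22a

/-!
The class which is locally unitary of dimension six.
-/
set_option autoImplicit false
set_option maxRecDepth 100000

namespace Cfsg.Agent.Fs

open Cfsg.Agent.Fis Cfsg.Agent.Fx Cfsg.Agent.Spor Cfsg.Spor Subgroup Cfsg.Agent.Class

section gen
variable {G : Type*} [Group G] {D : Set G} [TT D] {H : Type*} [Group H] {E : Set H} [TT E]

theorem irr_of_simple [IsSimpleGroup G] (hp : commutator G = ⊤)
    (hD : Cfsg.IsThreeTranspositionClass D) : Irr D := by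
  refine ⟨prim_of_simple hp hD, center_bot fun N hN hs => ?_, ?_⟩
  · rcases hN.eq_bot_or_eq_top with h | h
    · exact h
    · subst h
      exact Comp.perfect_solvable_eq_bot ((commutator_def G).symm.trans hp) hs
  · obtain ⟨d, hd, -⟩ := hD.2.1
    exact ⟨⟨d, hd⟩⟩

theorem IsRel.ln {a b : Pt D} {l : List (Pt D)} (h : IsRel (a :: b :: l) 1) (h3 : l.length ≤ 3) :
    ∀ c ∈ a :: b :: l, c ∈ Ln a b := by
  classical
  intro c hc y ya yb
  obtain ⟨k1, k3, -, k2⟩ := klem_pt y _ (List.pairwise_of_forall_mem_list h.cm)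
    (by rw [h.eq, one_smul])
  have k2 := k2 h.nd
  by_contra hy
  have k0 : ((a :: b :: l).filter fun p => ¬ Cm p y).length ≠ 0 := fun t =>
    List.filter_eq_nil_iff.1 (List.length_eq_zero_iff.1 t) c hc (by simpa using nc_symm hy)
  rw [List.filter_cons_of_neg (by simpa using ya.symm),
    List.filter_cons_of_neg (by simpa using yb.symm)] at k0 k1 k2 k3
  have := List.length_filter_le (fun p => decide ¬ Cm p y) l
  omega

theorem le_ncard {α : Type*} [Finite α] {S : Set α} {l : List α} (hn : l.Nodup)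
    (h : ∀ a ∈ l, a ∈ S) : l.length ≤ S.ncard := by
  classical
  rw [← List.toFinset_card_of_nodup hn, ← Set.ncard_coe_finset]
  exact Set.ncard_le_ncard fun a ha => h a (by simpa using ha)

theorem ut_of_rel5 [Finite G] (h : Irr D) (h5 : Rel D 5) : ∃ n, 4 ≤ n ∧ UT D n := by
  have hp : Pol D := by_contra fun np => not_rel5 h.toPrim np h5
  obtain ⟨l, h1, h2⟩ := h5
  match l, h1, h2 with
  | x :: e :: l, h1, h2 =>
    obtain ⟨a, ha⟩ := h.toPrim.exists_nc' h.cen x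
    have h' : U5 D := ⟨hp, hp.three_or_five.resolve_left fun h3 => by
      have := le_ncard h2.nd (h2.ln (by simp at h1; omega))
      rw [h3 x e ⟨fun t => by simpa [t] using h2.nd, h2.cm _ (by simp) _ (by simp)⟩] at this
      omega, h.cen⟩
    obtain ⟨κ, W, f, r, hW⟩ := h'.exists_wd ha
    obtain ⟨Φ, hM⟩ := hW.model h' ha
    refine ⟨_, hM.four_le hp (fun v hv => (FS.herm_Q _ v).trans hv) ha,
      ut_of_model h' (fun x a b ha hb hs => ?_) hM rfl⟩
    obtain ⟨κ, W, f, r, hW⟩ := h'.exists_wd ha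
    exact hW.P4x h' ha hb hs

variable {F : Type*} [Group F] [Finite F] {x0 : F} {L : Type*} [Group L] {π0 : CC x0 →* L}

omit [Finite F] in
theorem pi_of (b : Base x0 L π0) {q : CC x0} (h : q.1 = 1 ∨ x0 * q.1 = 1) : π0 q = 1 := by
  rcases h with t | t
  · rw [show q = 1 from Subtype.ext t, map_one]
  · have : π0 (⟨x0, self_mem_CC x0⟩ * q) = 1 := by
      rw [← map_one π0]; exact congrArg π0 (Subtype.ext t)
    rwa [map_mul, b.pi_x0, one_mul] at this

theorem map_five {α β : Type*} {f : α → β} {m : List α} {a b c d e : β}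
    (h : m.map f = [a, b, c, d, e]) : ∃ a' b' c' d' e', m = [a', b', c', d', e'] ∧ f a' = a ∧
      f b' = b ∧ f c' = c ∧ f d' = d ∧ f e' = e := by
  have : m.length = 5 := by simpa using congrArg List.length h
  match m, this, h with
  | [a', b', c', d', e'], _, h => exact ⟨_, _, _, _, _, rfl, by simpa using h⟩

theorem base_rel (b : Base x0 L π0) (e : H ≃* L)
    (he : ∀ y, ∀ hy : XX x0 y, e.symm (π0 ⟨y, hy.mem⟩) ∈ E) {P : List F} (h1 : ∀ y ∈ P, XX x0 y)
    (h2 : P.Pairwise Commute) (h3 : P.Nodup) (h4 : P.prod = 1 ∨ x0 * P.prod = 1) :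
    Rel E P.length := by
  obtain ⟨Q, rfl⟩ : ∃ Q : List (CC x0), P = Q.map Subtype.val :=
    ⟨P.pmap Subtype.mk fun p hp => (h1 p hp).mem, by rw [List.map_pmap]; simp⟩
  have k : ∀ q ∈ Q, XX x0 q.1 := fun q hq => h1 _ (List.mem_map_of_mem hq)
  obtain ⟨l, e1, e2⟩ := rel_of_iso (E := E) e (Q.map π0) (fun y hy => by
      obtain ⟨q, hq, rfl⟩ := List.mem_map.1 hy
      exact he _ (k q hq)) (by
      rw [List.pairwise_map] at h2 ⊢
      exact h2.imp fun {p q} t => (show Commute p q from Subtype.ext t).map π0)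
    (List.Nodup.map_on (fun p hp q hq t => Subtype.ext (b.inj (k p hp) (k q hq) t)) (h3.of_map _))
    (by
      rw [← map_list_prod]
      have e : (Q.map Subtype.val).prod = Q.prod.1 := (map_list_prod (CC x0).subtype Q).symm
      exact pi_of b (e ▸ h4))
  exact ⟨l, by rw [List.length_map, ← List.length_map π0, ← e1, List.length_map], e2⟩

theorem lam_rel (b : Base x0 L π0) {x : Pt D} {π : H1 x →* L} {lam : F → H1 x}
    (ex : Ext (⟨x.t, t_mem_H1 (Cm.refl x)⟩ : H1 x) π) (hl : Lam π0 π lam)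
    (hc : ∀ u : H1 x, (∃ y, XX x0 y ∧ u = lam y) ↔ ∃ z ∈ Dx x, u.1 = z.t) :
    ∃ z : F → Pt D, (∀ y, XX x0 y → z y ∈ Dx x) ∧
      (∀ y y', XX x0 y → XX x0 y' → z y = z y' → y = y') ∧ ∀ P : List F, (∀ y ∈ P, XX x0 y) →
        P.Pairwise Commute → P.Nodup → P.prod = 1 ∨ x0 * P.prod = 1 →
        IsRel (P.map z) 1 ∨ IsRel (P.map z) x.t := by
  classical
  haveI : Nonempty (Pt D) := ⟨x⟩
  choose! z h1 h2 using fun y (hy : XX x0 y) => (hc _).1 ⟨y, hy, rfl⟩
  have inj : ∀ y y', XX x0 y → XX x0 y' → z y = z y' → y = y' := fun y y' hy hy' t =>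
    b.inj hy hy' (by
      rw [← hl.pi hy, ← hl.pi hy']; exact congrArg π (Subtype.ext (by rw [h2 y hy, h2 y' hy', t])))
  refine ⟨z, h1, inj, fun P k1 k2 k3 k4 => ?_⟩
  have nd := List.Nodup.map_on (fun p hp q hq => inj p q (k1 p hp) (k1 q hq)) k3
  have cm : ∀ p ∈ P.map z, ∀ q ∈ P.map z, Cm p q := fun p hp q hq => by
    obtain ⟨y, hy, rfl⟩ := List.mem_map.1 hp
    obtain ⟨y', hy', rfl⟩ := List.mem_map.1 hq
    by_cases t : y = y'
    · rw [t]; exact Cm.refl _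
    haveI : Std.Symm fun a b : F => Commute a b := ⟨fun _ _ t => t.symm⟩
    have := congrArg Subtype.val (hl.comm (k1 y hy) (k1 y' hy') (k2.forall hy hy' t).eq)
    rw [coe_mul, coe_mul, h2 y (k1 y hy), h2 y' (k1 y' hy')] at this
    exact cm_iff.2 this
  have e1 : ((P.map z).map Pt.t).prod = (P.map lam).prod.1 := by
    refine Eq.trans ?_ (map_list_prod (H1 x).subtype _).symm
    rw [List.map_map, List.map_map]
    exact congrArg List.prod (List.map_congr_left fun y hy => (h2 y (k1 y hy)).symm)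
  have e2 : ∀ P : List F, (h : ∀ y ∈ P, XX x0 y) →
      π (P.map lam).prod = π0 ⟨P.prod, list_prod_mem fun y hy => (h y hy).mem⟩ := fun P h => by
    induction P with
    | nil => exact (map_one π).trans (map_one π0).symm
    | cons a P ih =>
      rw [List.map_cons, List.prod_cons, map_mul, ih fun y hy => h y (by simp [hy]),
        hl.pi (h a (by simp)), ← map_mul]
      exact congrArg π0 (Subtype.ext (by simp))
  refine (ex.ker (P.map lam).prod ?_).imp (fun t => ⟨nd, cm, by rw [e1, t]; rfl⟩)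
    fun t => ⟨nd, cm, by rw [e1, t]⟩
  exact (e2 P k1).trans (pi_of b k4)

/-- a character of the local group which is nontrivial on `x` -/
theorem chi_neg [Finite G] (c : Ctx D E) (h4 : P4 E) {k : ℕ} (h : Rel E k) (hn : ¬ Rel D k)
    {x : Pt D} (χ : H1 x →* ℤˣ) (hχ : χ ⟨x.t, t_mem_H1 (Cm.refl x)⟩ = -1) :
    Odd k ∧ ∀ y : Pt D, ∀ hy : y ∈ Dx x, χ ⟨y.t, t_mem_H1 hy.2⟩ = -1 := by
  obtain ⟨l, h1, h2, h3⟩ := c.rel_succ h4 h hn x
  have key : ∀ y : Pt D, ∀ hy : y ∈ Dx x, χ ⟨y.t, t_mem_H1 hy.2⟩ ^ k = -1 := fun y hy => by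
    rw [← h1, ← chi_prod c.irr.toPrim χ hy h2 (h3.eq ▸ t_mem_H1 (Cm.refl x)), ← hχ]
    exact congrArg χ (Subtype.ext h3.eq)
  obtain ⟨φ, e⟩ := c.emb x
  obtain ⟨p⟩ := c.loc.ne
  refine ⟨Nat.not_even_iff_odd.1 fun t => ?_, fun y hy => ?_⟩
  · have := key _ (e.mem p)
    rcases Int.units_eq_one_or (χ ⟨(φ p).t, t_mem_H1 (e.mem p).2⟩) with s | s <;> rw [s] at this
    · rw [one_pow] at this; exact absurd this (by decide)
    · rw [t.neg_one_pow] at this; exact absurd this (by decide)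
  · refine (Int.units_eq_one_or _).resolve_left fun s => ?_
    have := key y hy
    rw [s, one_pow] at this; exact absurd this (by decide)

theorem flip_rel {x : Pt D} {ψ : CC x0 ≃* H1 x} {lam : F → H1 x}
    (h0 : ψ ⟨x0, self_mem_CC x0⟩ = ⟨x.t, t_mem_H1 (Cm.refl x)⟩)
    (hc : ∀ u : H1 x, (∃ y, XX x0 y ∧ u = lam y) ↔ ∃ z ∈ Dx x, u.1 = z.t)
    (hf : ∀ u, (∃ y, ∃ hy : XX x0 y, u = ψ ⟨y, hy.mem⟩) ↔
      ∃ y, XX x0 y ∧ u = ⟨x.t, t_mem_H1 (Cm.refl x)⟩ * lam y) {P : List F} (k1 : ∀ y ∈ P, XX x0 y)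
    (k2 : P.Pairwise Commute) (k3 : P.Nodup) (k4 : x0 * P.prod = 1) (k5 : Odd P.length) :
    Rel D P.length := by
  classical
  have : ∀ y, ∃ z, ∀ hy : XX x0 y, z ∈ Dx x ∧ (ψ ⟨y, hy.mem⟩).1 = x.t * z.t := fun y => by
    by_cases hy : XX x0 y
    · obtain ⟨y', hy', t⟩ := (hf _).1 ⟨y, hy, rfl⟩
      obtain ⟨z, hz, t'⟩ := (hc _).1 ⟨y', hy', rfl⟩
      exact ⟨z, fun _ => ⟨hz, by rw [t, ← t']; rfl⟩⟩
    · exact ⟨x, fun t => absurd t hy⟩
  choose z h1 h2 using this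
  have e2 : ∀ P : List F, (h : ∀ y ∈ P, XX x0 y) →
      (ψ ⟨P.prod, list_prod_mem fun y hy => (h y hy).mem⟩).1 =
        x.t ^ P.length * ((P.map z).map Pt.t).prod := fun P h => by
    induction P with
    | nil => simpa using congrArg Subtype.val (map_one ψ)
    | cons a P ih =>
      have ha := h a (by simp)
      rw [List.map_cons, List.map_cons, List.prod_cons (a := (z a).t), List.length_cons, pow_succ', mul_assoc,
        ← mul_assoc (x.t ^ _), ((cm_iff.1 (h1 a ha).2).pow_left _).eq, mul_assoc,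
        ← ih fun y hy => h y (by simp [hy]), ← mul_assoc, ← h2 a ha, ← coe_mul, ← map_mul]
      exact congrArg (fun t => (ψ t).1) (Subtype.ext (by simp))
  refine ⟨P.map z, List.length_map _, List.Nodup.map_on (fun p hp q hq t => ?_) k3,
    fun p hp q hq => ?_, ?_⟩
  · exact congrArg Subtype.val (ψ.injective (a₁ := ⟨p, (k1 p hp).mem⟩) (a₂ := ⟨q, (k1 q hq).mem⟩)
      (Subtype.ext (by rw [h2 p (k1 p hp), h2 q (k1 q hq), t])))
  · obtain ⟨y, hy, rfl⟩ := List.mem_map.1 hp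
    obtain ⟨y', hy', rfl⟩ := List.mem_map.1 hq
    by_cases t : y = y'
    · rw [t]; exact Cm.refl _
    haveI : Std.Symm fun a b : F => Commute a b := ⟨fun _ _ t => t.symm⟩
    have a1 : Commute (ψ ⟨y, (k1 y hy).mem⟩).1 (ψ ⟨y', (k1 y' hy').mem⟩).1 :=
      ((show Commute (⟨y, (k1 y hy).mem⟩ : CC x0) ⟨y', (k1 y' hy').mem⟩ from
        Subtype.ext (k2.forall hy hy' t).eq).map ψ).map (H1 x).subtype
    rw [h2 y (k1 y hy), h2 y' (k1 y' hy')] at a1
    have a2 := cm_iff.1 (h1 y (k1 y hy)).2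
    have a3 := cm_iff.1 (h1 y' (k1 y' hy')).2
    have a4 := ((Commute.refl x.t).mul_right a3).mul_left a1
    rw [x.sq'] at a4
    have a5 := a2.symm.mul_right a4
    rw [x.sq'] at a5
    exact cm_iff.2 a5
  · have a1 := e2 P k1
    obtain ⟨m, hm⟩ := k5
    rw [show (⟨P.prod, _⟩ : CC x0) = (⟨x0, self_mem_CC x0⟩ : CC x0)⁻¹ from
      Subtype.ext (eq_inv_of_mul_eq_one_right k4), map_inv, h0, hm, pow_succ, pow_mul, pow_two, x.sq,
      one_pow, one_mul, coe_inv, x.inv] at a1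
    exact (mul_eq_left.1 a1.symm)

end gen

open M22

/-- the properties of the smaller Fischer class -/
structure T22 {G : Type*} [Group G] (D : Set G) [TT D] : Prop where
  n5 : ¬ Rel D 5
  p4 : P4 D
  p6 : P6 D
  r6 : Rel D 6
  rc : RC D 0
  iso : ∃ e : Fi22 ≃* G, e x0 ∈ D

variable {G : Type} [Group G] [Finite G] {D : Set G} [TT D] {H : Type} [Group H] [Finite H]
  {E : Set H} [TT E]

theorem model6 {π : CC x0 →* U693.P} (b : Base x0 U693.P π) (hE : Irr E) (hU : UT E 6) :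
    ∃ e : H ≃* U693.P, (∀ y, ∀ hy : XX x0 y, e.symm (π ⟨y, hy.mem⟩) ∈ E) ∧
      ∀ p : Pt E, ∃ y, ∃ hy : XX x0 y, e p.t = π ⟨y, hy.mem⟩ := by
  obtain ⟨y0, h0⟩ := b.ex
  haveI := tt_of_class (b.ttL h0)
  haveI := b.sL
  have hI := irr_of_simple b.pL (b.ttL h0)
  obtain ⟨a1, a2, a3, a4⟩ := ok.rel r5
  rw [ok.xw] at a4
  obtain ⟨n, h1, h2⟩ := ut_of_rel5 hI (base_rel b (MulEquiv.refl _)
    (fun y hy => (b.mem_DL h0).2 ⟨y, hy, rfl⟩) a1 a2 a3 (Or.inr a4))
  obtain ⟨ι⟩ := h2.iso hI h1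
  obtain rfl := eq_six h1 ((Nat.card_congr ι.toEquiv).symm.trans U693.cardP)
  obtain ⟨e, he⟩ := ut_iso hE hI hU h2
  refine ⟨e, fun y hy => ?_, fun p => (b.mem_DL h0).1 (he p)⟩
  obtain ⟨p⟩ := hE.ne
  have := ((mem_iff_conj hI.toCl ⟨_, he p⟩).1 ((b.mem_DL h0).2 ⟨y, hy, rfl⟩))
  exact (mem_iff_conj hE.toCl p).2 (by simpa using e.symm.toMonoidHom.map_isConj this)

theorem Ctx.t22 (c : Ctx D E) (hU : UT E 6) : T22 D := by
  obtain ⟨π, b, -⟩ := M22.base
  obtain ⟨e, he, he'⟩ := model6 b c.loc hU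
  obtain ⟨p0⟩ := c.loc.ne
  obtain ⟨y0, h0, e0⟩ := he' p0
  obtain ⟨x⟩ := c.irr.ne
  have h4 := hU.2.1
  obtain ⟨π', lam, ex, hl, hc⟩ := exists_lam b c h4 e h0 e0 x
  have n5 := not_rel5 c.irr.toPrim c.np
  obtain ⟨a1, a2, a3, a4⟩ := ok.rel r5
  rw [ok.xw] at a4
  have e5 : Rel E 5 := base_rel b e he a1 a2 a3 (Or.inr a4)
  have pH : commutator (H1 x) = ⊤ := by
    by_contra pH
    obtain ⟨χ, hχ⟩ := chi_of_not_perfect ex b.pL pH
    obtain ⟨-, k⟩ := chi_neg c h4 e5 n5 χ hχ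
    obtain ⟨z, z1, z2, z3⟩ := lam_rel b ex hl hc
    have six : ∀ P : List Fi22, (∀ y ∈ P, XX x0 y) → P.length = 6 → ¬ IsRel (P.map z) x.t :=
      fun P k1 k2 t => by
        have := chi_prod c.irr.toPrim χ (z1 _ h0) (l := P.map z) (fun a ha => by
          obtain ⟨y, hy, rfl⟩ := List.mem_map.1 ha
          exact z1 y (k1 y hy)) (t.eq ▸ t_mem_H1 (Cm.refl x))
        rw [k _ (z1 _ h0), List.length_map, k2] at this
        exact absurd ((hχ.symm.trans (congrArg χ (Subtype.ext t.eq.symm))).trans this) (by decide)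
    obtain ⟨b1, b2, b3, b4⟩ := ok.rel r6'
    obtain ⟨c1, c2, c3, c4⟩ := ok.rel r6''
    rw [ok.xw] at c4
    have t1 := (z3 _ b1 b2 b3 (Or.inl (by simpa using b4))).resolve_right (six _ b1 rfl)
    have t2 := (z3 _ c1 c2 c3 (Or.inr c4)).resolve_right (six _ c1 rfl)
    have ne : z (pt φ x0 154) ≠ z (pt φ x0 40) ∧ z (pt φ x0 172) ≠ z (pt φ x0 40) ∧
        z (pt φ x0 434) ≠ z (pt φ x0 40) := by
      refine ⟨fun t => ?_, fun t => ?_, fun t => ?_⟩ <;>
        exact absurd (pt_inj ok.act (by norm_num) (by norm_num)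
          (z2 _ _ (b1 _ (by simp [R6'])) (c1 _ (by simp [R6''])) t)) (by decide)
    simp only [R6', R6'', List.map_cons, List.map_nil] at t1 t2
    generalize z (pt φ x0 6) = u, z (pt φ x0 47) = p, z (pt φ x0 sN.k) = q, z (pt φ x0 154) = a,
      z (pt φ x0 172) = a', z (pt φ x0 434) = a'', z (pt φ x0 40) = s, z (pt φ x0 43) = s',
      z (pt φ x0 59) = s'' at t1 t2 ne
    obtain ⟨φ', l⟩ := c.emb u
    have down : ∀ m : List (Pt D), IsRel (u :: m) 1 → ∃ m' : List (Pt E), m'.map φ' = m ∧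
        IsRel m' 1 := fun m t => by
      have nd := List.nodup_cons.1 t.nd
      obtain ⟨m', rfl⟩ := l.pull m fun a ha =>
        ⟨fun t => nd.1 (t ▸ ha), t.cm _ (by simp) _ (by simp [ha])⟩
      refine ⟨m', rfl, nd.2.of_map _, fun a ha b hb => l.cm.1 (t.cm _ ?_ _ ?_),
        l.prod_one c.loc (Or.inr ?_)⟩
      · exact List.mem_cons_of_mem _ (List.mem_map_of_mem ha)
      · exact List.mem_cons_of_mem _ (List.mem_map_of_mem hb)
      · have := t.eq
        rw [List.map_cons, List.prod_cons] at this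
        rw [eq_inv_of_mul_eq_one_right this, u.inv]
    obtain ⟨m1, f1, g1⟩ := down _ t1
    obtain ⟨m2, f2, g2⟩ := down _ t2
    obtain ⟨p1, q1, u1, u2, u3, rfl, rfl, rfl, rfl, rfl, rfl⟩ := map_five f1
    obtain ⟨p2, q2, v1, v2, v3, rfl, d1, d2, rfl, rfl, rfl⟩ := map_five f2
    obtain rfl := l.inj d1
    obtain rfl := l.inj d2
    have nd2 := g2.nd
    simp only [List.nodup_cons, List.mem_cons, not_or] at nd2
    have := le_ncard (S := Ln p2 q2) (l := [v1, p2, q2, u1, u2, u3])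
      (List.nodup_cons.2 ⟨by
        simp only [List.mem_cons, List.not_mem_nil, or_false, not_or]
        exact ⟨Ne.symm nd2.1.2.1, Ne.symm nd2.2.1.1, fun t => ne.1 (t ▸ rfl),
          fun t => ne.2.1 (t ▸ rfl), fun t => ne.2.2 (t ▸ rfl)⟩, g1.nd⟩)
      (List.forall_mem_cons.2 ⟨g2.ln (by simp) _ (by simp), g1.ln (by simp)⟩)
    rw [hU.1.five p2 q2 ⟨Ne.symm nd2.1.1, g1.cm _ (by simp) _ (by simp)⟩] at this
    simp at this
  obtain ⟨ψ, h1, h2⟩ := ident22 b ex pH hl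
  have m : Mt x0 x ψ := ⟨congrArg Subtype.val h1, fun u => ((h2.resolve_right fun t =>
    n5 (flip_rel h1 hc t a1 a2 a3 a4 (by decide))) u).trans (hc u)⟩
  obtain ⟨Φ, hΦ⟩ := hom22 b (m.lc c)
  obtain ⟨⟨ε, hε⟩, hC⟩ := m.iso b c.irr Φ hΦ
  have h6 : P6 E := p6_of_mulAut c.loc (by
    obtain ⟨ι⟩ := hU.iso c.loc (by norm_num)
    rw [card_mulAut_congr ι, Nat.card_congr ι.toEquiv,
      S0815.result (F := K4) 2 1 le_rfl (q := 2) rfl card_K4 6 (by norm_num) (by norm_num)]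
    norm_num)
  refine ⟨n5, c.p4 h4, c.p6 h4 h6 hC, c.rel_succ' h4 e5 n5, RC.of_rel ?_, ε, hε ▸ x.mem⟩
  obtain ⟨d1, d2, d3, d4⟩ := ok.rel M22.r7
  obtain ⟨l, k1, k2⟩ := rel_of_iso (E := D) ε.symm _ (fun y hy => (mem_iff_conj c.irr.toCl x).2
    (hε ▸ ε.toMonoidHom.map_isConj (d1 y hy).1)) d2 d3 (by simpa using d4)
  exact ⟨l, by simpa [M22.R7] using congrArg List.length k1, k2⟩

end Cfsg.Agent.Fs
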