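import Cfsg.Agent.Fs.Tow
import Cfsg.Agent.Fx.B22
import Cfsg.Agent.Spor.U62M.Main
import Cfsg.Agent.S0815

/-!
Classes which are locally unitary of dimension six.
-/
set_option autoImplicit false
set_option maxRecDepth 100000

namespace Cfsg.Agent.Fs

open Cfsg.Agent.Fis Cfsg.Agent.Fx Cfsg.Agent.Spor Cfsg.Spor Subgroup Cfsg.Agent.Class

theorem iso_of_qiso {G : Type*} [Group G] {D : Set G} [TT D] {H : Type*} [Group H] {E : Set H}
    [TT E] (hE : Irr E) (hD : Irr D) {β : Pt E → Pt D} (hb : Function.Bijective β)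
    (hs : ∀ a b, β (a ⋆ b) = β a ⋆ β b) : ∃ e : H ≃* G, ∀ p : Pt E, e p.t = (β p).t := by
  have g1 : ∀ p : Pt E, (p.t, (β p).t) ∈ Gam (fun _ : Pt E => True) (fun _ _ _ => trivial) β :=
    fun p y _ => hs p y
  obtain ⟨ψ, h1, h2⟩ := hom_of_Gam (P := fun _ : Pt E => True) (hP := fun _ _ _ => trivial)
    (ρ := β) hD.toCl hD.cen (Gam_fst hE.gen fun s hs => ⟨_, g1 ⟨s, hs⟩⟩) (fun x => by
      obtain ⟨p, rfl⟩ := hb.2 x
      exact ⟨_, g1 p⟩) fun x => (hb.2 x).imp fun _ t => ⟨trivial, t⟩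
  refine ⟨MulEquiv.ofBijective ψ ⟨(injective_iff_map_eq_one _).2 fun σ e => hE.eq_one fun y =>
    hb.1 ?_, h1⟩, fun p => (h2 _ _).1 (g1 p)⟩
  rw [(h2 σ 1).2 e y trivial, one_smul]

theorem ut_iso {G : Type*} [Group G] [Finite G] {D : Set G} [TT D] {H : Type*} [Group H] [Finite H]
    {E : Set H} [TT E] (hE : Irr E) (hD : Irr D) {n : ℕ} (h : UT E n) (h' : UT D n) :
    ∃ e : H ≃* G, ∀ p : Pt E, e p.t ∈ D := by
  obtain ⟨-, -, f, Φ, M⟩ := h
  obtain ⟨-, -, f', Φ', M'⟩ := h'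
  obtain ⟨ι, hι⟩ := FS.herm_isIso uf4 M'.nd M.nd rfl
  obtain ⟨x⟩ := hE.ne
  obtain ⟨a, ha⟩ := hE.toPrim.exists_nc' hE.cen x
  obtain ⟨x'⟩ := hD.ne
  obtain ⟨a', ha'⟩ := hD.toPrim.exists_nc' hD.cen x'
  have n1 := M.ne_zero hE.toCl (ne_of_nc ha)
  have n2 := M'.ne_zero hD.toCl (ne_of_nc ha')
  choose β c hc e using fun p : Pt E => M'.surj (ι (Φ p)) (by simpa using n1 p)
    (by rw [hι.1]; exact (M.cm p p).2 (Cm.refl p))
  have cube : ∀ c : K4, c ≠ 0 → c * c * c = 1 := by decide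
  have hs : ∀ a b, β (a ⋆ b) = β a ⋆ β b := fun a b => by
    obtain ⟨k, k0, k1⟩ := M.st a b
    obtain ⟨k', k0', k1'⟩ := M'.st (β a) (β b)
    have t := congrArg ι k1
    rw [map_add, map_smul, map_smul, ← hι.1, e, e, e, B_sm, FS.B_smul_right, smul_smul, smul_smul,
      show c a * c a * (c b * f'.B (Φ' (β a)) (Φ' (β b))) * c a =
        c b * f'.B (Φ' (β a)) (Φ' (β b)) * (c a * c a * c a) by ring, cube _ (hc a), mul_one,
      mul_smul, ← smul_add, k1', smul_smul] at t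
    refine M'.inj hD.toPrim (c := (k * c (a ⋆ b))⁻¹ * (c b * k')) ?_
    rw [mul_smul, t, inv_smul_smul₀ (mul_ne_zero k0 (hc _))]
  obtain ⟨ε, hε⟩ := iso_of_qiso hE hD (β := β) ⟨fun p q t => M.inj hE.toPrim (c := c p * (c q)⁻¹)
    (ι.injective (by rw [map_smul, e, e, t, smul_smul, inv_mul_cancel_right₀ (hc q)])), fun y => by
      obtain ⟨p, k, k0, k1⟩ := M.surj (ι.symm (Φ' y)) (by simpa using n2 y)
        (by rw [hι.symm.1]; exact (M'.cm y y).2 (Cm.refl y))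
      refine ⟨p, (M'.inj hD.toPrim (c := k * c p) ?_).symm⟩
      rw [mul_smul, ← e, ← map_smul, ← k1, ι.apply_symm_apply]⟩ hs
  exact ⟨ε, fun p => hε p ▸ (β p).mem⟩

theorem UT.iso {G : Type*} [Group G] [Finite G] {D : Set G} [TT D] (h : Irr D) {n : ℕ}
    (hn : 4 ≤ n) (hu : UT D n) : Nonempty (G ≃* Cfsg.PSU n K4 2) := by
  obtain ⟨-, -, f, Φ, M⟩ := hu
  obtain ⟨x⟩ := h.ne
  obtain ⟨a, ha⟩ := h.toPrim.exists_nc' h.cen x
  have := M.su_iso uf4 h.toPrim h.cen (M.ne_zero h.toCl (ne_of_nc ha)) x (by simpa using hn)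
  rwa [Module.finrank_fin_fun] at this

theorem eq_six {n : ℕ} (hn : 4 ≤ n) (h : Nat.card (Cfsg.PSU n K4 2) = 9196830720) : n = 6 := by
  have := card_PSU uf4 (n := n) (by omega)
  rw [h] at this
  by_contra h6
  by_cases h7 : n ≤ 5
  · interval_cases n <;> revert this <;> decide +kernel
  · have a1 : 2 ^ 17 ∣ guCard 2 n := (pow_dvd_pow 2 (show 17 ≤ n * (n - 1) / 2 by
      obtain ⟨m, rfl⟩ : ∃ m, n = m + 7 := ⟨n - 7, by omega⟩
      rw [Nat.le_div_iff_mul_le (by norm_num), show m + 7 - 1 = m + 6 by omega]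
      nlinarith)).mul_right _
    rw [← this] at a1
    have a2 : Nat.gcd n (2 + 1) ∣ 3 := Nat.gcd_dvd_right _ _
    exact absurd (a1.trans (mul_dvd_mul_right a2 _)) (by norm_num)

open M22

def R5 : List NP := [⟨154, [], 6⟩, ⟨59, [1, 2, 3, 7, 4, 3, 2, 1], 0⟩, ⟨155, [5, 4, 3, 7, 6, 5, 4, 3], 2⟩, sN, ⟨637, [1, 2, 3, 7, 4, 5, 3, 4, 2, 3, 7, 6, 5, 4, 3, 2], 1⟩]
def R6' : List NP := [⟨6, [], 2⟩, ⟨47, [3, 7, 4, 3], 2⟩, sN, ⟨154, [], 6⟩, ⟨172, [5, 4, 1, 2, 3, 7, 6, 5, 4, 3, 2, 1], 0⟩, ⟨434, [3, 7, 4, 5, 3, 4, 1, 2, 3, 7, 6, 5, 4, 3, 2, 1], 0⟩]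
def R6'' : List NP := [⟨6, [], 2⟩, ⟨47, [3, 7, 4, 3], 2⟩, sN, ⟨40, [], 4⟩, ⟨43, [], 7⟩, ⟨59, [1, 2, 3, 7, 4, 3, 2, 1], 0⟩]
theorem r5 : relChk E R5 E.xw = true := by decide +kernel
theorem r6' : relChk E R6' [] = true := by decide +kernel
theorem r6'' : relChk E R6'' E.xw = true := by decide +kernel

section
variable {π : CC x0 →* U693.P} (b : Base x0 U693.P π)
include b

theorem hom22 {G : Type*} [Group G] {d : G} {ψ : CC x0 →* G} (l : Lc x0 d ψ) :
    ∃ Φ : Fi22 →* G, Φ x0 = d := by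
  obtain ⟨y, y1, y2, y3⟩ := l.exists_y (φ := φ) (ok.isX (p := ⟨16, [], 3⟩) (by decide +kernel)).2
    (ok.isX (p := ⟨88, [], 5⟩) (by decide +kernel)).2
    (fun e => absurd (pt_inj ok.act (by norm_num) (by norm_num) e) (by decide))
    ((ok.cm (a := ⟨16, [], 3⟩) (by decide +kernel) (by norm_num)).1 (by decide +kernel)) good
  have y4 : ∀ j < 10, 3 ≤ j → ψ (u j) * y = y * ψ (u j) := fun j hj h3 =>
    y3 (nth a0 S' j).k (by interval_cases j <;> decide) _
  have u0 : ψ (u 0) = d := by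
    rw [← l.pd]; exact congrArg ψ (Subtype.ext (pt_zero ok.act))
  have cl : ∀ j, IsConj d (ψ (u j)) := fun j => l.cl _ (ok.isConj (q_lt j))
  have sq : ∀ j, ψ (u j) * ψ (u j) = 1 := fun j => by
    rw [← map_mul, ← map_one ψ]
    exact congrArg ψ (Subtype.ext (b.tr.sq _ (ok.isConj (q_lt j))))
  have tr := l.tr (ψ (u 4))
  have my : y ∈ {v | IsConj d v ∧ v * ψ (u 4) = ψ (u 4) * v} :=
    ⟨y1, (y4 4 (by norm_num) (by norm_num)).symm⟩
  have cm : ∀ s < 9, ∀ t < 9, s ≠ 1 → t ≠ 1 → tbit YC s t = true →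
      ψ (u s) * ψ (u t) = ψ (u t) * ψ (u s) := fun s hs t ht s1 t1 e => l.comm_iff.2 (by
    show q s * q t = q t * q s
    rw [q_eq s hs s1, q_eq t ht t1]; exact cox.cm s t e)
  have cy : ∀ w : List ℕ, (∀ j ∈ w, ψ (u j) * y = y * ψ (u j)) → ψ (wd u w) * y = y * ψ (wd u w) :=
    fun w h => mem_CC.1 (wd_map ψ u w ▸ wd_mem fun j hj => mem_CC.2 (h j hj))
  have br0 : ψ (u 0) * y * ψ (u 0) = y * ψ (u 0) * y :=
    (tr.three _ ⟨cl 0, cm 0 (by norm_num) 4 (by norm_num) (by norm_num) (by norm_num) (by decide)⟩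
      _ my).resolve_left fun e => y2 (u0 ▸ e.symm)
  have br2 : ψ (u 2) * y * ψ (u 2) = y * ψ (u 2) * y := by
    refine (tr.three _ ⟨cl 2, cm 2 (by norm_num) 4 (by norm_num) (by norm_num) (by norm_num)
      (by decide)⟩ _ my).resolve_left fun e => y2 ?_
    have h1 := u_one (w := 0 :: R4.map (· + 1)) (by decide +kernel)
    rw [wd_cons, mul_eq_one_iff_eq_inv] at h1
    have h2 := cy (R4.map (· + 1)) fun j hj => by
      obtain ⟨h3, h4⟩ := (by decide : ∀ j ∈ R4.map (· + 1), 2 ≤ j ∧ j < 10) j hj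
      by_cases h5 : j = 2
      · rw [h5, e]
      · exact y4 j h4 (by omega)
    rw [← u0, h1, map_inv]
    exact (Commute.inv_left h2).symm
  let g : ℕ → G := fun j => if j = 1 then y else ψ (u j)
  have g1 : g 1 = y := if_pos rfl
  have ge : ∀ j, j ≠ 1 → g j = ψ (u j) := fun j hj => if_neg hj
  have cz : Cox YC YB g := by
    refine Cox.of_lt (n := 9) (by decide) (by decide) (by decide) (by decide) (fun j => ?_)
      (fun s hs t ht e => ?_) fun s hs t ht e => ?_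
    · by_cases h : j = 1
      · rw [h, g1]; exact tr.sq _ my
      · rw [ge j h]; exact sq j
    · by_cases h : s = 1 <;> by_cases h' : t = 1
      · rw [h, h']
      · rw [h, g1, ge t h']
        exact (y4 t (by omega) ((by decide : ∀ t < 9, t ≠ 1 → tbit YC 1 t = true → 3 ≤ t)
          t ht h' (h ▸ e))).symm
      · rw [h', g1, ge s h]
        exact y4 s (by omega) ((by decide : ∀ t < 9, t ≠ 1 → tbit YC t 1 = true → 3 ≤ t)
          s hs h (h' ▸ e))
      · rw [ge s h, ge t h']; exact cm s hs t ht h h' e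
    · by_cases h : s = 1 <;> by_cases h' : t = 1
      · rw [h, h']
      · rcases (by decide : ∀ t < 9, tbit YB 1 t = true → t = 0 ∨ t = 2) t ht (h ▸ e) with rfl | rfl
        · rw [h, g1, ge 0 h', br0]
        · rw [h, g1, ge 2 h', br2]
      · rcases (by decide : ∀ t < 9, tbit YB t 1 = true → t = 0 ∨ t = 2) s hs (h' ▸ e) with rfl | rfl
        · rw [h', g1, ge 0 h, br0]
        · rw [h', g1, ge 2 h, br2]
      · rw [ge s h, ge t h', ← map_mul, ← map_mul, ← map_mul, ← map_mul]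
        refine congrArg ψ (Subtype.ext ?_)
        show q s * q t * q s = q t * q s * q t
        rw [q_eq s hs h, q_eq t ht h']; exact cox.br s t e
  have hw : ∀ w : List ℕ, (∀ j ∈ w, j ≠ 1) → wd g w = ψ (wd u w) := fun w h => by
    rw [wd_congr fun j hj => ge j (h j hj), ← wd_map]
  have w1 : ∀ j, wd g [j] = g j := fun j => mul_one _
  have hk : wd g kN.w = ψ (u 1) := by
    have k0 := cz.comm (u := kN.w) (v := [0]) (bits := 68719214592) (by decide +kernel)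
    have k4 := cz.comm (u := kN.w) (v := [4]) (bits := 68719214592) (by decide +kernel)
    have ky := cz.comm (u := lapp [0] (lapp kN.w zw)) (v := [1]) (bits := 270215977373794304)
      (by decide +kernel)
    have kb := cz.eq (u := lapp kN.w (lapp [1] kN.w)) (v := lapp [1] (lapp kN.w [1]))
      (bits := 13510761680863232) (by decide +kernel)
    have kc : IsConj d (wd g kN.w) := by
      rw [NP.w, wd_cw cz.sq, w1, ge _ (by decide)]
      exact (cl _).trans (isConj_iff.2 ⟨_, rfl⟩)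
    simp only [wd_lapp, w1, g1, ge 0 (by norm_num), ge 4 (by norm_num), hw zw (by decide), u0,
      ← mul_assoc] at k0 k4 ky kb
    generalize wd g kN.w = κ at *
    have h1 := u_one (w := lapp (0 :: 1 :: zw) [9, 7, 4]) (by decide +kernel)
    rw [wd_lapp, mul_eq_one_iff_eq_inv] at h1
    have h2 := (Commute.inv_left (cy [9, 7, 4] fun j hj => y4 j
      ((by decide : ∀ j ∈ [9, 7, 4], j < 10) j hj) ((by decide : ∀ j ∈ [9, 7, 4], 3 ≤ j) j hj))).eq
    rw [← map_inv, ← h1, wd_cons, wd_cons, map_mul, map_mul, u0] at h2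
    have m1 : ψ (u 1) ∈ {v | IsConj d v ∧ v * ψ (u 4) = ψ (u 4) * v} :=
      ⟨cl 1, l.comm_iff.2 ((ok.cm (a := kN) (by decide +kernel) (q_lt 4)).1
        (by decide +kernel))⟩
    by_contra hne
    have h3 : κ * ψ (u 1) = d * κ * ψ (wd u zw) * (d * (ψ (u 1) * ψ (wd u zw)))⁻¹ := by
      calc κ * ψ (u 1) = κ * (d * ψ (u 1) * d⁻¹) := by rw [← l.cm, mul_inv_cancel_right]
        _ = d * κ * ψ (u 1) * d⁻¹ := by rw [← k0]; group
        _ = d * κ * (ψ (u 1))⁻¹ * d⁻¹ := by rw [inv_eq_of_mul_eq_one_right (sq 1)]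
        _ = _ := by group
    have h4 : κ * ψ (u 1) * y = y * (κ * ψ (u 1)) := by
      rw [h3]
      exact (Commute.mul_left (show Commute _ y from ky.trans (by simp only [mul_assoc]))
        (Commute.inv_left h2)).eq
    have h5 := tr.eq_of_comm_braid ⟨kc, k4⟩ my (tr.k2 ⟨kc, k4⟩ m1 my hne h4).1 kb
    exact y2 (h5 ▸ k0)
  have hU : ∀ w : List ℕ, (∀ j ∈ w, j < 9) → E.one (sbw a0 S' w) = true →
      wd g (sbw a0 S' w) = 1 := fun w h1 h2 => by
    rw [wd_sbw, ← map_one ψ, ← u_one h2, wd_map]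
    refine wd_congr fun j hj => ?_
    have := h1 j hj
    interval_cases j
    exacts [(w1 0).trans (ge 0 (by norm_num)), hk, (w1 2).trans (ge 2 (by norm_num)),
      (w1 3).trans (ge 3 (by norm_num)), (w1 4).trans (ge 4 (by norm_num)),
      (w1 5).trans (ge 5 (by norm_num)), (w1 6).trans (ge 6 (by norm_num)),
      (w1 7).trans (ge 7 (by norm_num)), (w1 8).trans (ge 8 (by norm_num))]
  have hR : ∀ c R U : List ℕ, ∀ bits, (∀ j ∈ U, j < 9) → E.one (sbw a0 S' U) = true →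
      brun YC YB (lapp (cw c R) (rva (sbw a0 S' U) [])) bits [] = true → wd g R = 1 :=
    fun c R U bits h1 h2 h3 => by
      have := (cz.eq h3).trans (hU U h1 h2)
      rw [wd_cw cz.sq] at this
      exact conj_eq_one_iff.1 this
  obtain ⟨Φ, hΦ⟩ := Fi22G.hom (cz.pres (SP := [sp, e71, e72]) (by decide +kernel) (by
    simp only [List.mem_cons, List.not_mem_nil, or_false, forall_eq_or_imp, forall_eq]
    exact ⟨hR [0, 1, 0, 3, 7, 2] sp U3 1766846867009267610368398776441393595647681797373034990313371821867565568 (by decide) (by decide +kernel) (by decide +kernel),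
      hR [] e71 U1 5575186299632160918853216014025162596810752 (by decide) (by decide +kernel) (by decide +kernel),
      hR [0, 1, 0] e72 U2 1532495523695009911085851427135604731992281533558816776 (by decide) (by decide +kernel) (by decide +kernel)⟩))
  exact ⟨Φ, (hΦ 0 (by norm_num)).trans ((ge 0 (by norm_num)).trans u0)⟩


theorem identT22 {H : Type} [Group H] [Finite H] {d : H} {π' : H →* U693.P} (e : Ext d π')
    (pH : commutator H = ⊤) {T : List NP} (t : Tup E f φ x0 3510 c0 T UC0 UB)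
    (h1 : wd (tp φ x0 c0 T) R1 = 1 ∨ wd (tp φ x0 c0 T) R1 = x0)
    (h2 : lall (ncChk E c0 T) QH = true) (h2' : E.one (sbw c0 T R2) = true)
    (h4 : wd (tp φ x0 c0 T) R4 = 1 ∨ wd (tp φ x0 c0 T) R4 = x0) {lam : Fi22 → H}
    (hl : Lam π π' lam) (h3 : wd (fun j => lam (tp φ x0 c0 T j)) R3 = 1) :
    ∃ ψ : CC x0 ≃* H, ψ ⟨x0, self_mem_CC x0⟩ = d ∧
      ((∀ u, (∃ y, ∃ hy : XX x0 y, u = ψ ⟨y, hy.mem⟩) ↔ ∃ y, XX x0 y ∧ u = lam y) ∨
        ∀ u, (∃ y, ∃ hy : XX x0 y, u = ψ ⟨y, hy.mem⟩) ↔ ∃ y, XX x0 y ∧ u = d * lam y) := by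
  have key : ∀ lam : Fi22 → H, Lam π π' lam → wd (fun j => lam (tp φ x0 c0 T j)) R3 = 1 →
      wd (fun j => lam (tp φ x0 c0 T j)) R1 = 1 →
      ∃ ψ : CC x0 ≃* H, ψ ⟨x0, self_mem_CC x0⟩ = d ∧
        ∀ u, (∃ y, ∃ hy : XX x0 y, u = ψ ⟨y, hy.mem⟩) ↔ ∃ y, XX x0 y ∧ u = lam y :=
    fun lam hl h3 h1 => by
    have k := hl.pi_one b t.xx h4
    obtain ⟨ψ, h2, h5⟩ := ident b e pH (cardC ▸ Fi22G.b2U) presS gen
      (presOf (hl.cox t.xx t.cox) h1 (t.tau ok b e hl (bs := [[1099505353728, 1099508484096, 1098970042368], [1099476501504, 1099242405888], [1099375448064], []]) (b := 18437160728080154624) h2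
        (by decide +kernel) (by decide +kernel) h2') h3 (e.cen_ker k) (e.sq_ker k))
      (j0 := 1) (by norm_num) (by
        rw [if_neg one_ne_zero, hl.pi (t.xx 1)]; exact b.pi_ne (t.xx 1))
    have x1 : XX x0 (s 1) := (ok.isX (p := c0) (by decide +kernel)).2
    exact ⟨ψ, h2, hl.image b e ψ x1 (t.xx 1) (h5 1 (by norm_num) _)⟩
  refine (hl.choose b e t.xx h1 (by decide)).elim
    (fun h => (key _ hl h3 h).imp fun _ t => ⟨t.1, Or.inl t.2⟩)
    fun h => (key _ (hl.flip e) ?_ h).imp fun _ t => ⟨t.1, Or.inr t.2⟩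
  rw [wd_twist e.cen, h3, show R3.length = 2 * 15 from rfl, pow_mul, pow_two, e.sq, one_pow, one_mul]

theorem ident22 {H : Type} [Group H] [Finite H] {d : H} {π' : H →* U693.P} (e : Ext d π')
    (pH : commutator H = ⊤) {lam : Fi22 → H} (hl : Lam π π' lam) :
    ∃ ψ : CC x0 ≃* H, ψ ⟨x0, self_mem_CC x0⟩ = d ∧
      ((∀ u, (∃ y, ∃ hy : XX x0 y, u = ψ ⟨y, hy.mem⟩) ↔ ∃ y, XX x0 y ∧ u = lam y) ∨
        ∀ u, (∃ y, ∃ hy : XX x0 y, u = ψ ⟨y, hy.mem⟩) ↔ ∃ y, XX x0 y ∧ u = d * lam y) := by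
  have t1 := ok.tup b (by decide) (by decide) (by decide) (by decide) ck1
  have t2 := ok.tup b (by decide) (by decide) (by decide) (by decide) ck2
  have t3 := ok.tup b (by decide) (by decide) (by decide) (by decide) ck3
  have v4 := t1.eqx ok (w := R4) (by decide +kernel)
  rcases e.ker _ (hl.pi_one b t1.xx (w := R3) (Or.inl (t1.one ok (by decide +kernel)))) with h3 | h3
  · exact identT22 b e pH t1 (Or.inl (t1.one ok (by decide +kernel))) (by decide +kernel)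
      (by decide +kernel) (Or.inr v4) hl h3
  rcases e.ker _ (hl.pi_one b t1.xx (Or.inr v4)) with h4 | h4
  · refine identT22 b e pH t2 (Or.inr (t2.eqx ok (by decide +kernel))) (by decide +kernel)
      (by decide +kernel) (Or.inl (t2.one ok (by decide +kernel))) hl ?_
    rw [← h4]
    exact (t1.frame t2 ok hl (Q := [⟨[], 8, [], 6⟩, ⟨[], 3, [], 3⟩, ⟨[], 1, [], 5⟩, ⟨[], 6, [], 8⟩, ⟨[2, 3, 1, 2], 6, [4, 3, 5, 4], 8⟩, ⟨[4, 3, 2, 1, 8, 4, 3, 2], 6, [2, 3, 4, 5, 6, 2, 3, 4], 8⟩])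
      (b := 1152921503533105152) (b' := 1152921503533105152) (by decide +kernel) (by decide +kernel)
      (by decide +kernel)).symm
  · refine identT22 b e pH t3 (Or.inl (t3.one ok (by decide +kernel))) (by decide +kernel)
      (by decide +kernel) (Or.inr (t3.eqx ok (by decide +kernel))) hl ?_
    rw [← t1.frame t3 ok hl (w := lapp R3 R4) (Q := [⟨[], 5, [], 6⟩, ⟨[4, 3, 2, 1, 6, 2, 3, 4], 8, [], 3⟩, ⟨[4, 3, 5, 4], 8, [], 5⟩, ⟨[2, 1, 3, 2], 6, [], 8⟩, ⟨[2, 3, 4, 5, 6, 2, 3, 4], 8, [4, 3, 5, 4], 8⟩, ⟨[], 1, [2, 3, 4, 5, 6, 2, 3, 4], 8⟩])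
      (b := 20769126155826071433376283767078912) (b' := 1152921503533105152) (by decide +kernel) (by decide +kernel)
      (by decide +kernel), wd_lapp, h3, h4, e.sq]

end

end Cfsg.Agent.Fs
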