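import Cfsg.Agent.Fs.T22
import Cfsg.Agent.Fx.B23

/-!
The classes which are locally the smaller and the middle Fischer class.
-/
set_option autoImplicit false
set_option maxRecDepth 100000

namespace Cfsg.Agent.Fs

open Cfsg.Agent.Fis Cfsg.Agent.Fx Cfsg.Agent.Spor Cfsg.Spor Subgroup M23

section
variable {π : CC x0 →* Fi22} (b : Base x0 Fi22 π)
include b

theorem ident23 {H : Type} [Group H] [Finite H] {d : H} {π' : H →* Fi22} (e : Ext d π')
    (pH : commutator H = ⊤) {lam : Fi23 → H} (hl : Lam π π' lam) :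
    ∃ ψ : CC x0 ≃* H, ψ ⟨x0, self_mem_CC x0⟩ = d ∧
      ∀ u, (∃ y, ∃ hy : XX x0 y, u = ψ ⟨y, hy.mem⟩) ↔ ∃ y, XX x0 y ∧ u = lam y := by
  have t := tup1 b
  have key : ∀ lam : Fi23 → H, Lam π π' lam → wd (fun j => lam (q1 j)) e71 = 1 →
      ∃ ψ : CC x0 ≃* H, ψ ⟨x0, self_mem_CC x0⟩ = d ∧
        ∀ u, (∃ y, ∃ hy : XX x0 y, u = ψ ⟨y, hy.mem⟩) ↔ ∃ y, XX x0 y ∧ u = lam y :=
    fun lam hl h1 => by
    obtain ⟨ψ, h2, h3⟩ := ident b e pH (cardC ▸ FiB.b222) presT gen
      (presOf (hl.cox t.xx t.cox) (spider b e hl) h1) (j0 := 0) (by norm_num)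
      (by rw [hl.pi (t.xx 0)]; exact b.pi_ne (t.xx 0))
    exact ⟨ψ, h2, hl.image b e ψ (t.xx 0) (t.xx 0) (h3 0 (by norm_num) _)⟩
  refine (hl.choose b e t.xx (w := e71) (Or.inl (t.one ok (by decide +kernel))) (by decide)).elim
    (key _ hl) fun h => ?_
  obtain ⟨ψ, h1, h2⟩ := key _ (hl.flip e) h
  obtain ⟨θ, h3, h4⟩ := twist b
  obtain ⟨y, hy, h5⟩ := (h2 _).1 ⟨_, (tup2 b).xx 0, rfl⟩
  refine ⟨θ.trans ψ, by rw [MulEquiv.trans_apply, h3, h1], hl.image b e _ (t.xx 0) hy ?_⟩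
  rw [MulEquiv.trans_apply, show θ _ = ⟨x0, self_mem_CC x0⟩ * ⟨_, ((tup2 b).xx 0).mem⟩ from
    Subtype.ext h4, map_mul, h1, h5, ← mul_assoc, e.sq, one_mul]

theorem hom23 {G : Type*} [Group G] {d : G} {ψ : CC x0 →* G} (l : Lc x0 d ψ) :
    ∃ Φ : Fi23 →* G, Φ x0 = d := by
  have t := tup1 b
  obtain ⟨y, y1, y2, y3⟩ := l.exists_y (φ := φ) (t.xx 0) (t.xx 2)
    (fun e => absurd (pt_inj ok.act (t.lt 2) (t.lt 0) e) (by decide))
    (t.cox.cm 0 2 (by decide)) good
  let u : ℕ → CC x0 := fun j => ⟨q1 j, (t.xx j).mem⟩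
  have c : Cox YC YB fun j => ψ (u j) := (Cox.of_map (CC x0).subtype_injective t.cox).map ψ
  have y4 : ∀ j < 9, j ≠ 6 → ψ (u j) * y = y * ψ (u j) := fun j hj h6 =>
    y3 (nth a0 T1 j).k (by interval_cases j <;> first | decide | omega) _
  have cl : ∀ j, IsConj d (ψ (u j)) := fun j => l.cl _ (t.xx j).1
  have tr := l.tr (ψ (u 0))
  have my : y ∈ {v | IsConj d v ∧ v * ψ (u 0) = ψ (u 0) * v} :=
    ⟨y1, (y4 0 (by norm_num) (by norm_num)).symm⟩
  have br : ψ (u 6) * y * ψ (u 6) = y * ψ (u 6) * y := by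
    refine (tr.three _ ⟨cl 6, c.cm 6 0 (by decide)⟩ _ my).resolve_left fun e => y2 ?_
    have : gsub 9 q1 ≤ ((CC y).comap ψ).map (CC x0).subtype := gsub_le fun j hj =>
      ⟨u j, mem_CC.2 (if h6 : j = 6 then h6 ▸ e else y4 j hj h6), rfl⟩
    obtain ⟨a, ha, ea⟩ := this (gen ▸ self_mem_CC x0)
    rw [← l.pd, ← show a = ⟨x0, self_mem_CC x0⟩ from Subtype.ext ea]
    exact (mem_CC.1 ha).symm
  let g : ℕ → G := fun j => if j = 9 then y else ψ (u j)
  have g9 : g 9 = y := if_pos rfl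
  have ge : ∀ j, j ≠ 9 → g j = ψ (u j) := fun j hj => if_neg hj
  have cz : Cox ZC ZB g := by
    refine Cox.of_lt (n := 10) (by decide) (by decide) (by decide) (by decide) (fun j => ?_)
      (fun s hs t ht e => ?_) fun s hs t ht e => ?_
    · by_cases h : j = 9
      · rw [h, g9]; exact tr.sq _ my
      · rw [ge j h]; exact c.sq j
    · by_cases h : s = 9 <;> by_cases h' : t = 9
      · rw [h, h']
      · rw [h, g9, ge t h']
        exact (y4 t (by omega) (by rintro rfl; subst h; exact absurd e (by decide))).symm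
      · rw [h', g9, ge s h]
        exact y4 s (by omega) (by rintro rfl; subst h'; exact absurd e (by decide))
      · rw [ge s h, ge t h']
        exact c.cm s t ((by decide : ∀ s < 9, ∀ t < 9, tbit ZC s t = true → tbit YC s t = true)
          s (by omega) t (by omega) e)
    · by_cases h : s = 9 <;> by_cases h' : t = 9
      · rw [h, h']
      · obtain rfl := (by decide : ∀ t < 10, tbit ZB 9 t = true → t = 6) t ht (h ▸ e)
        rw [h, g9, ge 6 h', br]
      · obtain rfl := (by decide : ∀ t < 10, tbit ZB t 9 = true → t = 6) s hs (h' ▸ e)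
        rw [h', g9, ge 6 h, br]
      · rw [ge s h, ge t h']
        exact c.br s t ((by decide : ∀ s < 9, ∀ t < 9, tbit ZB s t = true → tbit YB s t = true)
          s (by omega) t (by omega) e)
  have hw : ∀ w : List ℕ, (∀ j ∈ w, j ≠ 9) → ∀ z : CC x0, wd q1 w = z → wd g w = ψ z := by
    intro w h z e
    rw [wd_congr fun j hj => ge j (h j hj), ← wd_map]
    exact congrArg ψ (Subtype.ext ((wd_map (CC x0).subtype u w).trans e))
  obtain ⟨Φ, hΦ⟩ := Fi23G.hom (cz.pres (SP := [sp, e71]) (by decide +kernel) (by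
    simp only [List.mem_cons, List.not_mem_nil, or_false, forall_eq_or_imp, forall_eq]
    exact ⟨(hw _ (by decide) 1 (t.one ok (by decide +kernel))).trans (map_one ψ),
      (hw _ (by decide) 1 (t.one ok (by decide +kernel))).trans (map_one ψ)⟩))
  refine ⟨Φ, ?_⟩
  rw [← ex0, wd_map, ← l.pd, ← hw E.xw (by decide +kernel) _ (t.eqx ok (by decide +kernel))]
  refine wd_congr fun j hj => ?_
  have : j < 10 := (by decide +kernel : ∀ j ∈ E.xw, j < 10) j hj
  rw [f_eq j this, hΦ j this]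

end

/-- the properties of the middle Fischer class -/
structure T23 {G : Type*} [Group G] (D : Set G) [TT D] : Prop where
  n6 : ¬ Rel D 6
  p4 : P4 D
  p6 : P6 D
  r7 : Rel D 7
  rc : RC D 1
  iso : ∃ e : Fi23 ≃* G, e x0 ∈ D

/-- the properties of the largest Fischer class -/
structure T24 {G : Type*} [Group G] (D : Set G) [TT D] : Prop where
  p4 : P4 D
  sgn : Sgn D
  rc : RC D 2

variable {G : Type} [Group G] [Finite G] {D : Set G} [TT D] {H : Type} [Group H] [Finite H]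
  {E' : Set H} [TT E']

theorem Ctx.t23 (c : Ctx D E') (h : T22 E') : T23 D := by
  obtain ⟨π, b, hp⟩ := M23.base
  obtain ⟨e, he⟩ := h.iso
  obtain ⟨x⟩ := c.irr.ne
  obtain ⟨π', lam, ex, hl, hc⟩ := exists_lam b c h.p4 e.symm (p0 := ⟨_, he⟩) ((tup1 b).xx 0)
    ((e.symm_apply_apply _).trans (hp 0 (by norm_num) _).symm) x
  have n6 : ¬ Rel D 6 := fun t => h.n5 (c.rel_down t)
  have pH : commutator (H1 x) = ⊤ := by
    by_contra pH
    obtain ⟨χ, hχ⟩ := chi_of_not_perfect ex b.pL pH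
    exact absurd (chi_neg c h.p4 h.r6 n6 χ hχ).1 (by decide)
  obtain ⟨ψ, h1, h2⟩ := ident23 b ex pH hl
  have m : Mt x0 x ψ := ⟨congrArg Subtype.val h1, fun u => (h2 u).trans (hc u)⟩
  obtain ⟨Φ, hΦ⟩ := hom23 b (m.lc c)
  obtain ⟨⟨ε, hε⟩, hC⟩ := m.iso b c.irr Φ hΦ
  exact ⟨n6, c.p4 h.p4, c.p6 h.p4 h.p6 hC, c.rel_succ' h.p4 h.r6 n6, c.rc h.p4 h.rc, ε, hε ▸ x.mem⟩

theorem Emb.cox {x : Pt D} {φ : Pt E' → Pt D} (l : Emb x φ) {CM BR : List ℕ} {p : ℕ → Pt E'}
    (h : Cox CM BR fun j => (p j).t) :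
    Cox CM BR fun j => (⟨(φ (p j)).t, t_mem_H1 (l.cmx _)⟩ : H1 x) :=
  Cox.of_map (H1 x).subtype_injective ⟨fun _ => Pt.sq _,
    fun s t e => (cm_iff.1 (l.cm.2 (cm_iff.2 (h.cm s t e)))).eq, fun s t e => by
      have : φ (p s ⋆ p t) = φ (p t ⋆ p s) := 
        congrArg φ (Pt.ext (by rw [st_t, st_t]; exact h.br s t e))
      rw [l.st, l.st] at this
      exact (st_t _ _).symm.trans ((congrArg Pt.t this).trans (st_t _ _))⟩

theorem Ctx.t24 (c : Ctx D E') (h : T23 E') : T24 D := by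
  obtain ⟨π, b, -⟩ := M23.base
  obtain ⟨e, he⟩ := h.iso
  obtain ⟨x⟩ := c.irr.ne
  obtain ⟨φ', l⟩ := c.emb x
  obtain ⟨π0, h1, h2, h3⟩ := l.exists_pi c.loc
  have ex0 := c.ext h.p4 l h1 h2
  let π' : H1 x →* Fi23 := e.symm.toMonoidHom.comp π0
  have ex : Ext (⟨x.t, t_mem_H1 (Cm.refl x)⟩ : H1 x) π' :=
    ⟨ex0.cen, ex0.sq, ex0.ne, e.symm.surjective.comp h1, by simp [π', ex0.pd],
      fun u hu => ex0.ker u (by simpa [π'] using hu)⟩
  let p : ℕ → Pt E' := fun j => ⟨e (f j), (mem_iff_conj c.loc.toCl ⟨_, he⟩).2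
    (e.toMonoidHom.map_isConj ((ok.gj j).2 ▸ ok.isConj (ok.gj j).1))⟩
  let g : ℕ → H1 x := fun j => ⟨(φ' (p j)).t, t_mem_H1 (l.cmx _)⟩
  have cz : Cox ZC ZB g := l.cox (M23.cox.map e.toMonoidHom)
  have pg : ∀ j, π' (g j) = f j := fun j => by
    show e.symm (π0 _) = _
    rw [h3]; exact e.symm_apply_apply _
  have pw : ∀ w, π' (wd g w) = wd f w := fun w => by rw [wd_map]; exact wd_congr fun j _ => pg j
  have cy : Cox YC YB g := Cox.of_lt (n := 9) (by decide) (by decide) (by decide) (by decide) cz.sq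
    (fun s hs t ht e => cz.cm s t
      ((by decide : ∀ s < 9, ∀ t < 9, tbit YC s t = true → tbit ZC s t = true) s hs t ht e))
    fun s hs t ht e => cz.br s t
      ((by decide : ∀ s < 9, ∀ t < 9, tbit YB s t = true → tbit ZB s t = true) s hs t ht e)
  have rf : ∀ u a, ∃ z : Pt D, (wd g (cw u [a])).1 = z.t := fun u a =>
    ⟨(wd g u).1 • φ' (p a), by rw [wd_cw cz.sq, wd_cons, wd_nil, mul_one]; rfl⟩
  have hsp : wd g sp = 1 := by
    let Q : List TQ := [⟨[], 4, [3, 2, 1, 5, 7, 3, 2, 4, 3, 7], 8⟩, ⟨[4, 3, 2, 1, 7, 3, 2, 4, 3, 7], 8, [], 5⟩, ⟨[], 7, [3, 2, 1, 4, 3, 2, 5, 4, 3, 7], 8⟩, ⟨[7, 3, 2, 1, 4, 3, 2, 5, 4, 3], 7, [], 8⟩, ⟨[], 7, [3, 2, 1, 4, 3, 2, 5, 4, 3, 7], 8⟩, ⟨[7, 3, 2, 1, 4, 3, 2, 5, 4, 3], 7, [], 8⟩]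
    have : wd g (cw [3, 7, 2] sp) = 1 := by
      refine ex.one_of_cube ((pw _).trans (ok.one (by decide +kernel))) ?_
      rw [cy.eq (v := catW (Q.map TQ.w)) (bits := 431359146674350301444502007760077440167346102744622981163085937512512) (by decide +kernel), wd_catW]
      refine prod_cube (cy.cmAll (bs := [[309485007515488865371553792, 309484977537556946914115584, 309485009803595034101022720, 309484977537556946914115584, 309485009803595034101022720], [309484977535586625776517120, 309485009785862114267627520, 309484977535586625776517120, 309485009785862114267627520], [309485009812324675330506752, 309485009821327476538736640, 309485009812324675330506752], [309485009821292309346516992, 309485009821327476538736640], [309485009812324675330506752], []]) (by decide +kernel)) fun u hu => ?_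
      obtain ⟨_, hu', rfl⟩ := List.mem_map.1 hu
      obtain ⟨q, hq, rfl⟩ := List.mem_map.1 hu'
      obtain ⟨z, hz⟩ := rf q.u q.a
      obtain ⟨z', hz'⟩ := rf q.v q.b
      refine Subtype.ext ?_
      rw [TQ.w, wd_lapp, coe_pow, coe_mul, hz, hz']
      refine cube_eq_one fun t => ?_
      have t1 : wd g (cw q.u [q.a]) * wd g (cw q.v [q.b]) =
          wd g (cw q.v [q.b]) * wd g (cw q.u [q.a]) :=
        Subtype.ext (by rw [coe_mul, coe_mul, hz, hz']; exact (cm_iff.1 t).eq)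
      have t2 := congrArg π' t1
      rw [map_mul, map_mul, pw, pw, wd_cw ok.sq q.v, wd_cons, wd_nil, mul_one, ← (ok.gj q.b).2,
        ok.conj _ (ok.gj _).1, ← ok.fx_iff (ok.ap_lt _ (ok.gj _).1)] at t2
      exact absurd ((lall_iff _ _).1 (by decide +kernel : lall (fun q : TQ =>
        !E.fx (cw q.u [q.a]) (E.ap q.v (E.gj q.b))) Q = true) q hq) (by simp [t2])
    rw [wd_cw cz.sq] at this
    exact conj_eq_one_iff.1 this
  have key : ∀ g : ℕ → H1 x, Cox ZC ZB g → (∀ j, π' (g j) = f j) → wd g sp = 1 → wd g e71 = 1 →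
      ∃ χ : H1 x →* ℤˣ, χ ⟨x.t, t_mem_H1 (Cm.refl x)⟩ = -1 := fun g cz pg k1 k2 => by
    obtain ⟨Φ, hΦ⟩ := Fi23G.hom (cz.pres (SP := [sp, e71]) (by decide +kernel) (by simp [k1, k2]))
    have k3 : ∀ y, π' (Φ y) = y := fun y => by
      have : y ∈ (π'.comp Φ).eqLocus (MonoidHom.id _) := (show gsub 10 Fi23G.f ≤ _ from
        gsub_le fun j hj => by
          show π' (Φ _) = _
          rw [hΦ j hj, pg, f_eq j hj]; rfl) (Fi23G.top ▸ mem_top y)
      exact this
    refine exists_chi Φ.range ?_ fun u => ?_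
    · rintro ⟨y, hy⟩
      have := k3 y
      rw [hy, ex.pd] at this
      rw [← this, map_one] at hy
      exact ex.ne hy.symm
    · rcases ex.cases (k3 (π' u)) with t | t
      exacts [Or.inl ⟨_, t⟩, Or.inr ⟨_, t⟩]
  obtain ⟨χ, hχ⟩ : ∃ χ : H1 x →* ℤˣ, χ ⟨x.t, t_mem_H1 (Cm.refl x)⟩ = -1 := by
    rcases ex.ker _ ((pw e71).trans (ok.one (by decide +kernel))) with t | t
    · exact key g cz pg hsp t
    · refine key _ (cz.twist ex.cen ex.sq) (fun j => by rw [map_mul, ex.pd, one_mul, pg]) ?_ ?_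
      · rw [wd_twist ex.cen, hsp, show sp.length = 2 * 45 from rfl, pow_mul, pow_two, ex.sq, one_pow,
          one_mul]
      · rw [wd_twist ex.cen, t, show e71.length = 2 * 31 + 1 from rfl, pow_succ, pow_mul, pow_two,
          ex.sq, one_pow, one_mul, ex.sq]
  have k := (chi_neg c h.p4 h.r7 (fun t => h.n6 (c.rel_down t)) χ hχ).2
  refine ⟨c.p4 h.p4, c.sgn h.p4 h.p6 χ fun y hy => ?_, c.rc h.p4 h.rc⟩
  by_cases t : Cm x y
  · by_cases t' : y = x
    · subst t'; exact Or.inl hχ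
    · exact Or.inl (k y ⟨t', t⟩)
  · exact Or.inr t

theorem Ctx.t25 (c : Ctx D E') (h : T24 E') : False := c.not_rc h.sgn (c.rc h.p4 h.rc)

end Cfsg.Agent.Fs
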