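import Cfsg.Agent.Fs.Aut
import Cfsg.Agent.Fx.Tup

/-!
Relations between commuting points, and the comparison of a class with a model class.
-/
set_option autoImplicit false

namespace Cfsg.Agent.Fs

open Cfsg.Agent.Fis Cfsg.Agent.Fx Cfsg.Agent.Spor Subgroup

section rel
variable {G : Type*} [Group G] {D : Set G} [TT D] {H : Type*} [Group H] {E : Set H} [TT E]

/-- a relation between distinct commuting points -/
structure IsRel (l : List (Pt D)) (g : G) : Prop where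
  nd : l.Nodup
  cm : ∀ a ∈ l, ∀ b ∈ l, Cm a b
  eq : (l.map Pt.t).prod = g

def Rel (D : Set G) [TT D] (k : ℕ) : Prop := ∃ l : List (Pt D), l.length = k ∧ IsRel l 1

theorem not_rel5 [Finite G] (h : Prim D) (np : ¬ Pol D) : ¬ Rel D 5 := by
  rintro ⟨l, h1, h2⟩
  match l, h1, h2 with
  | [a, b, c, d, e], _, h2 =>
    exact np (pol_of_rel h (List.pairwise_of_forall_mem_list h2.cm) h2.nd (by simp)
      fun y => by rw [h2.eq, one_smul])

theorem Emb.prod {x : Pt D} {φ : Pt E → Pt D} (h : Emb x φ) (l : List (Pt E)) (p : Pt E) :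
    φ ((l.map Pt.t).prod • p) = ((l.map φ).map Pt.t).prod • φ p := by
  induction l with
  | nil => simp
  | cons a l ih => rw [List.map_cons, List.prod_cons, mul_smul, ← st_def, h.st, ih]; simp [mul_smul, st_def]

theorem Emb.pull {x : Pt D} {φ : Pt E → Pt D} (h : Emb x φ) (l : List (Pt D))
    (hl : ∀ a ∈ l, a ∈ Dx x) : ∃ m : List (Pt E), m.map φ = l := by
  induction l with
  | nil => exact ⟨[], rfl⟩
  | cons a l ih =>
    obtain ⟨m, rfl⟩ := ih fun b hb => hl b (by simp [hb])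
    obtain ⟨p, rfl⟩ := (h.rng a).1 (hl a (by simp))
    exact ⟨p :: m, rfl⟩

theorem Emb.prod_one {x : Pt D} {φ : Pt E → Pt D} (h : Emb x φ) (hE : Irr E) {m : List (Pt E)}
    (e : ((m.map φ).map Pt.t).prod = 1 ∨ ((m.map φ).map Pt.t).prod = x.t) :
    (m.map Pt.t).prod = 1 :=
  hE.eq_one fun p => h.inj (by
    rw [h.prod]
    rcases e with e | e <;> rw [e]
    exacts [one_smul _ _, (h.cmx p).eq])

theorem Ctx.rel_down (c : Ctx D E) {k : ℕ} (h : Rel D (k + 1)) : Rel E k := by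
  obtain ⟨l, h1, h2⟩ := h
  match l, h1, h2 with
  | x :: l, h1, h2 =>
    obtain ⟨φ, e⟩ := c.emb x
    have nd := List.nodup_cons.1 h2.nd
    obtain ⟨m, rfl⟩ := e.pull l fun a ha =>
      ⟨fun t => nd.1 (t ▸ ha), h2.cm _ (by simp) _ (by simp [ha])⟩
    refine ⟨m, by simpa using h1, nd.2.of_map _, fun a ha b hb => e.cm.1 (h2.cm _ ?_ _ ?_),
      e.prod_one c.loc (Or.inr ?_)⟩
    · exact List.mem_cons_of_mem _ (List.mem_map_of_mem ha)
    · exact List.mem_cons_of_mem _ (List.mem_map_of_mem hb)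
    · have := h2.eq
      rw [List.map_cons, List.prod_cons] at this
      rw [eq_inv_of_mul_eq_one_right this, x.inv]

theorem Ctx.rel_up [Finite G] (c : Ctx D E) (h4 : P4 E) {x : Pt D} {φ : Pt E → Pt D} (e : Emb x φ)
    {m : List (Pt E)} (h : IsRel m 1) : IsRel (m.map φ) 1 ∨ IsRel (m.map φ) x.t := by
  have cm : ∀ a ∈ m.map φ, ∀ b ∈ m.map φ, Cm a b := fun a ha b hb => by
    obtain ⟨p, hp, rfl⟩ := List.mem_map.1 ha
    obtain ⟨q, hq, rfl⟩ := List.mem_map.1 hb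
    exact e.cm.2 (h.cm p hp q hq)
  refine (ker_G c.irr (c.p4 h4) (g := ((m.map φ).map Pt.t).prod) (H1_fix (list_prod_mem ?_))
    fun y hy => ?_).imp (fun t => ⟨h.nd.map e.inj, cm, t⟩) fun t => ⟨h.nd.map e.inj, cm, t⟩
  · intro g hg
    obtain ⟨a, ha, rfl⟩ := List.mem_map.1 hg
    obtain ⟨p, hp, rfl⟩ := List.mem_map.1 ha
    exact t_mem_H1 (e.cmx p)
  · obtain ⟨p, rfl⟩ := (e.rng y).1 hy
    rw [← e.prod, h.eq, one_smul]

theorem IsRel.cons {x : Pt D} {l : List (Pt D)} (h : IsRel l x.t) (hl : ∀ a ∈ l, a ∈ Dx x) :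
    IsRel (x :: l) 1 := by
  refine ⟨List.nodup_cons.2 ⟨fun t => (hl x t).1 rfl, h.nd⟩, fun a ha b hb => ?_, by
    rw [List.map_cons, List.prod_cons, h.eq, x.sq]⟩
  rcases List.mem_cons.1 ha with rfl | ha' <;> rcases List.mem_cons.1 hb with rfl | hb'
  exacts [Cm.refl _, (hl _ hb').2, (hl _ ha').2.symm, h.cm _ ha' _ hb']

theorem Ctx.rel_succ [Finite G] (c : Ctx D E) (h4 : P4 E) {k : ℕ} (h : Rel E k) (hn : ¬ Rel D k)
    (x : Pt D) : ∃ l : List (Pt D), l.length = k ∧ (∀ a ∈ l, a ∈ Dx x) ∧ IsRel l x.t := by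
  obtain ⟨φ, e⟩ := c.emb x
  obtain ⟨m, h1, h2⟩ := h
  refine ⟨m.map φ, by simpa using h1, fun a ha => ?_,
    (c.rel_up h4 e h2).resolve_left fun t => hn ⟨_, by simpa using h1, t⟩⟩
  obtain ⟨p, -, rfl⟩ := List.mem_map.1 ha
  exact e.mem p

theorem Ctx.rel_succ' [Finite G] (c : Ctx D E) (h4 : P4 E) {k : ℕ} (h : Rel E k)
    (hn : ¬ Rel D k) : Rel D (k + 1) := by
  obtain ⟨x⟩ := c.irr.ne
  obtain ⟨l, h1, h2, h3⟩ := c.rel_succ h4 h hn x
  exact ⟨x :: l, by simp [h1], h3.cons h2⟩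

/-- a relation with seven points and a part of `m` further points -/
def RC (D : Set G) [TT D] (m : ℕ) : Prop :=
  ∃ (Q : List (Pt D × Bool)) (P : List (Pt D)), Q.length = m ∧ P.length = 7 ∧
    (Q.map Prod.fst ++ P).Nodup ∧
    (∀ a ∈ Q.map Prod.fst ++ P, ∀ b ∈ Q.map Prod.fst ++ P, Cm a b) ∧
    ((((Q.filter Prod.snd).map Prod.fst ++ P)).map Pt.t).prod = 1

theorem RC.of_rel (h : Rel D 7) : RC D 0 := by
  obtain ⟨l, h1, h2⟩ := h
  exact ⟨[], l, rfl, h1, h2.nd, h2.cm, h2.eq⟩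

theorem Ctx.rc [Finite G] (c : Ctx D E) (h4 : P4 E) {m : ℕ} (h : RC E m) : RC D (m + 1) := by
  obtain ⟨x⟩ := c.irr.ne
  obtain ⟨φ, e⟩ := c.emb x
  obtain ⟨Q, P, h1, h2, h3, h5, h6⟩ := h
  have sub : ((Q.filter Prod.snd).map Prod.fst ++ P).Sublist (Q.map Prod.fst ++ P) :=
    (List.filter_sublist.map _).append_right _
  have e1 : (Q.map fun q => (φ q.1, q.2)).map Prod.fst ++ P.map φ = (Q.map Prod.fst ++ P).map φ := by
    simp [Function.comp_def]
  have e2 : ((Q.map fun q => (φ q.1, q.2)).filter Prod.snd).map Prod.fst ++ P.map φ =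
      ((Q.filter Prod.snd).map Prod.fst ++ P).map φ := by
    simp [Function.comp_def, List.filter_map]
  have key : ∀ b : Bool, (((((x, b) :: Q.map fun q => (φ q.1, q.2)).filter Prod.snd).map Prod.fst ++
      P.map φ).map Pt.t).prod = 1 → RC D (m + 1) := fun b hb => by
    refine ⟨(x, b) :: Q.map fun q => (φ q.1, q.2), P.map φ, by simp [h1], by simp [h2], ?_, ?_, hb⟩
    · rw [List.map_cons, List.cons_append, e1, List.nodup_cons]
      refine ⟨fun t => ?_, h3.map e.inj⟩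
      obtain ⟨p, -, hp⟩ := List.mem_map.1 t
      exact e.nex p hp
    · rw [List.map_cons, List.cons_append, e1]
      intro a ha b hb
      rcases List.mem_cons.1 ha with rfl | ha' <;> rcases List.mem_cons.1 hb with rfl | hb'
      · exact Cm.refl _
      · obtain ⟨p, -, rfl⟩ := List.mem_map.1 hb'; exact e.cmx p
      · obtain ⟨p, -, rfl⟩ := List.mem_map.1 ha'; exact (e.cmx p).symm
      · obtain ⟨p, hp, rfl⟩ := List.mem_map.1 ha'
        obtain ⟨q, hq, rfl⟩ := List.mem_map.1 hb'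
        exact e.cm.2 (h5 p hp q hq)
  rcases c.rel_up h4 e ⟨h3.sublist sub, fun a ha b hb => h5 a (sub.subset ha) b (sub.subset hb),
    h6⟩ with t | t
  · exact key false (by rw [List.filter_cons_of_neg (by simp), e2, t.eq])
  · exact key true (by
      rw [List.filter_cons_of_pos rfl, List.map_cons, List.cons_append, e2, List.map_cons,
        List.prod_cons, t.eq, x.sq])

theorem Ctx.sgn_erase [DecidableEq (Pt D)] (c : Ctx D E) (hs : Sgn E) {l : List (Pt D)}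
    (h : IsRel l 1) {x : Pt D} (hx : ∀ a ∈ l, Cm x a) : Even (l.erase x).length := by
  obtain ⟨φ, e⟩ := c.emb x
  obtain ⟨m, hm⟩ := e.pull (l.erase x) fun a ha =>
    ⟨(h.nd.mem_erase_iff.1 ha).1, hx a (List.mem_of_mem_erase ha)⟩
  have h1 := e.prod_one c.loc (m := m) (by
    rw [hm]
    by_cases t : x ∈ l
    · have := ((List.perm_cons_erase t).map Pt.t).prod_eq' (by
        rw [List.pairwise_map]
        exact List.pairwise_of_forall_mem_list fun a ha b hb => cm_iff.1 (h.cm a ha b hb))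
      rw [h.eq, List.map_cons, List.prod_cons] at this
      exact Or.inr (by rw [eq_inv_of_mul_eq_one_right this.symm, x.inv])
    · rw [List.erase_of_not_mem t]; exact Or.inl h.eq)
  obtain ⟨χ, hχ⟩ := hs
  have h2 := congrArg χ h1
  rw [map_list_prod, List.map_map, List.map_congr_left (f := χ ∘ Pt.t) (g := fun _ => -1)
    (fun p _ => hχ _ p.mem), List.map_const', List.prod_replicate, map_one] at h2
  rw [← hm, List.length_map, ← Nat.not_odd_iff_even]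
  intro t
  rw [t.neg_one_pow] at h2
  exact absurd h2 (by decide)

theorem Ctx.not_rc (c : Ctx D E) (hs : Sgn E) : ¬ RC D 3 := by
  classical
  rintro ⟨Q, P, h1, h2, h3, h5, h6⟩
  have sub : ((Q.filter Prod.snd).map Prod.fst ++ P).Sublist (Q.map Prod.fst ++ P) :=
    (List.filter_sublist.map _).append_right _
  have k := fun x (hx : x ∈ Q.map Prod.fst ++ P) => c.sgn_erase hs
    ⟨h3.sublist sub, fun a ha b hb => h5 a (sub.subset ha) b (sub.subset hb), h6⟩ (x := x)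
    fun a ha => h5 x hx a (sub.subset ha)
  match Q, h1 with
  | [(x, i), (e, j), (f, k')], _ =>
    have k1 := k x (by simp)
    have k2 := k e (by simp)
    have k3 := k f (by simp)
    simp only [List.map_cons, List.map_nil, List.cons_append, List.nil_append, List.nodup_cons,
      List.mem_cons, not_or] at h3
    obtain ⟨⟨a1, a2, a3⟩, ⟨a4, a5⟩, a6, -⟩ := h3
    rw [List.length_erase] at k1 k2 k3
    cases i <;> cases j <;> cases k' <;>
      simp [a1, a2, a3, a4, a5, a6, Ne.symm a1, Ne.symm a2, Ne.symm a4, h2] at k1 k2 k3 <;>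
      contradiction

theorem mem_iff_conj (h : Cl D) (x : Pt D) {g : G} : g ∈ D ↔ IsConj x.t g := by
  rw [isConj_iff]
  constructor
  · intro hg
    obtain ⟨k, hk⟩ := h.tr x ⟨g, hg⟩
    exact ⟨k, congrArg Pt.t hk⟩
  · rintro ⟨k, rfl⟩; exact TT.conj _ _ x.mem

/-- relations in a model -/
theorem rel_of_iso {L : Type*} [Group L] (e : H ≃* L) (P : List L) (h1 : ∀ y ∈ P, e.symm y ∈ E)
    (h2 : P.Pairwise Commute) (h3 : P.Nodup) (h4 : P.prod = 1) :
    ∃ l : List (Pt E), l.map (fun p => e p.t) = P ∧ IsRel l 1 := by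
  obtain ⟨l, rfl⟩ : ∃ l : List (Pt E), l.map (fun p => e p.t) = P :=
    ⟨P.pmap (fun y hy => ⟨e.symm y, hy⟩) h1, by rw [List.map_pmap]; simp⟩
  refine ⟨l, rfl, h3.of_map _, fun a ha b hb => ?_, e.injective ?_⟩
  · by_cases t : a = b
    · rw [t]; exact Cm.refl b
    rw [List.pairwise_map] at h2
    exact cm_iff.2 (e.injective (by
      haveI : Std.Symm fun a b : Pt E => Commute (e a.t) (e b.t) := ⟨fun _ _ t => t.symm⟩
      rw [map_mul, map_mul]; exact (h2.forall ha hb t).eq))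
  · rw [map_list_prod, List.map_map, map_one]; exact h4

theorem exists_chi {A : Type*} [Group A] (K : Subgroup A) {d : A} (hd : d ∉ K)
    (h : ∀ u, u ∈ K ∨ d * u ∈ K) : ∃ χ : A →* ℤˣ, χ d = -1 := by
  classical
  have hi : K.index = 2 := index_eq_two_iff'.2 ⟨d, fun u => by
    rcases h u with t | t
    · exact Or.inr ⟨t, fun t' => hd (by simpa using mul_mem t' (inv_mem t))⟩
    · exact Or.inl ⟨t, fun t' => hd (by simpa using mul_mem t (inv_mem t'))⟩⟩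
  refine ⟨MonoidHom.mk' (fun u => if u ∈ K then 1 else -1) fun a b => ?_, if_neg hd⟩
  by_cases ha : a ∈ K <;> by_cases hb : b ∈ K <;> simp [mul_mem_iff_of_index_two hi, ha, hb]

theorem chi_of_not_perfect {A L : Type*} [Group A] [Group L] {d : A} {π : A →* L} (e : Ext d π)
    (hL : commutator L = ⊤) (h : commutator A ≠ ⊤) : ∃ χ : A →* ℤˣ, χ d = -1 := by
  have h1 : ∀ u, u ∈ commutator A ∨ d * u ∈ commutator A := fun u => by
    have : π u ∈ (commutator A).map π := by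
      rw [map_commutator_eq, MonoidHom.range_eq_top.2 e.surj, ← commutator_def, hL]; trivial
    obtain ⟨k, hk, t⟩ := this
    rcases e.cases t with rfl | rfl
    exacts [Or.inl hk, Or.inr hk]
  refine exists_chi _ (fun hd => h ?_) h1
  rw [eq_top_iff]
  intro u _
  exact (h1 u).elim id fun t => (mul_mem_cancel_left hd).1 t

/-- a character of `H1 x` is constant on the local class -/
theorem chi_prod [Finite G] (h : Prim D) {x : Pt D} (χ : H1 x →* ℤˣ) {y : Pt D} (hy : y ∈ Dx x)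
    {l : List (Pt D)} (hl : ∀ a ∈ l, a ∈ Dx x) (hm : (l.map Pt.t).prod ∈ H1 x) :
    χ ⟨_, hm⟩ = χ ⟨y.t, t_mem_H1 hy.2⟩ ^ l.length := by
  induction l with
  | nil => exact (map_one χ).trans (pow_zero _).symm
  | cons a l ih =>
    have ha := hl a (by simp)
    have hm' : (l.map Pt.t).prod ∈ H1 x := list_prod_mem fun g hg => by
      obtain ⟨b, hb, rfl⟩ := List.mem_map.1 hg
      exact t_mem_H1 (hl b (by simp [hb])).2
    obtain ⟨g, hg, rfl⟩ := h.trD hy ha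
    rw [List.length_cons, pow_succ', ← ih (fun b hb => hl b (by simp [hb])) hm']
    have : χ ⟨(g • y).t, t_mem_H1 ha.2⟩ = χ ⟨y.t, t_mem_H1 hy.2⟩ := by
      rw [show (⟨(g • y).t, t_mem_H1 ha.2⟩ : H1 x) = ⟨g, HH_le_H1 x hg⟩ * ⟨y.t, t_mem_H1 hy.2⟩ *
        (⟨g, HH_le_H1 x hg⟩ : H1 x)⁻¹ from rfl, map_mul, map_mul, map_inv, mul_inv_cancel_comm]
    rw [← this, ← map_mul]
    exact congrArg χ (Subtype.ext (by simp))

end rel

section loc
variable {F : Type*} [Group F] {x0 : F} {L : Type*} [Group L] {π0 : CC x0 →* L}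
  {G : Type*} [Group G]

structure Lc (x0 : F) (d : G) (ψ : CC x0 →* G) : Prop where
  inj : Function.Injective ψ
  pd : ψ ⟨x0, self_mem_CC x0⟩ = d
  cl : ∀ h : CC x0, IsConj x0 h.1 → IsConj d (ψ h)
  tr0 : Tr (conjugatesOf d)
  ex : ∀ a b : CC x0, XX x0 a.1 → XX x0 b.1 → b.1 ≠ a.1 → a.1 * b.1 = b.1 * a.1 →
    ∃ y, IsConj d y ∧ y * d ≠ d * y ∧ ψ a * y = y * ψ a ∧ ψ b * y = y * ψ b

namespace Lc
variable {d : G} {ψ : CC x0 →* G}

theorem cm (l : Lc x0 d ψ) (h : CC x0) : ψ h * d = d * ψ h := by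
  rw [← l.pd, ← map_mul, ← map_mul]
  exact congrArg ψ (Subtype.ext (mem_CC.1 h.2))

theorem comm_iff (l : Lc x0 d ψ) {a b : CC x0} :
    ψ a * ψ b = ψ b * ψ a ↔ a.1 * b.1 = b.1 * a.1 := by
  rw [← map_mul, ← map_mul, l.inj.eq_iff, Subtype.ext_iff]; rfl

theorem tr (l : Lc x0 d ψ) (s : G) : Tr {u | IsConj d u ∧ u * s = s * u} :=
  ⟨fun u hu => l.tr0.sq u hu.1, fun u hu => l.tr0.ne u hu.1,
    fun u hu v hv => l.tr0.three u hu.1 v hv.1, fun u hu v hv =>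
      ⟨l.tr0.conj u hu.1 v hv.1, ((Commute.mul_left hu.2 hv.2).mul_left hu.2).eq⟩⟩

theorem adm (l : Lc x0 d ψ) {y : G} (hy : IsConj d y) (hn : y * d ≠ d * y) :
    Adm x0 (((CC y).comap ψ).map (CC x0).subtype) := by
  classical
  have mem : ∀ {x} (hx : x ∈ CC x0), x ∈ ((CC y).comap ψ).map (CC x0).subtype ↔
      ψ ⟨x, hx⟩ * y = y * ψ ⟨x, hx⟩ := fun {x} hx => by
    rw [← mem_CC]
    constructor
    · rintro ⟨a, ha, rfl⟩; exact ha
    · exact fun t => ⟨⟨x, hx⟩, t, rfl⟩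
  have nx : x0 ∉ ((CC y).comap ψ).map (CC x0).subtype := fun t => hn (by
    rw [mem (self_mem_CC x0), l.pd] at t; exact t.symm)
  refine ⟨map_subtype_le _, nx, fun s hs hs' P h1 h2 h3 h4 h5 => ?_⟩
  have sC := map_subtype_le _ hs
  have tr := l.tr (ψ ⟨s, sC⟩)
  obtain ⟨Q, rfl⟩ : ∃ Q : List (CC x0), P = Q.map Subtype.val :=
    ⟨P.pmap Subtype.mk fun p hp => (h1 p hp).1.mem, by rw [List.map_pmap]; simp⟩
  rw [List.pairwise_map] at h2
  have eq : x0 * (Q.map Subtype.val).prod = (⟨x0, self_mem_CC x0⟩ * Q.prod : CC x0).1 := by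
    rw [Subgroup.coe_mul]
    exact congrArg _ (map_list_prod (CC x0).subtype Q).symm
  rw [eq, mem (Subtype.prop _), Subtype.coe_eta, map_mul, l.pd, map_list_prod] at h4
  obtain ⟨k1, k3, k5, k2⟩ := tr.klem (y := y) ⟨hy, ((mem sC).1 hs).symm⟩ (l := d :: Q.map ψ) (by
      intro x hx
      rcases List.mem_cons.1 hx with rfl | hx
      · exact ⟨IsConj.refl _, (l.cm _).symm⟩
      · obtain ⟨q, hq, rfl⟩ := List.mem_map.1 hx
        have := h1 q (List.mem_map_of_mem hq)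
        exact ⟨l.cl q this.1.1, l.comm_iff.2 this.2⟩) (by
      rw [List.pairwise_cons, List.pairwise_map]
      refine ⟨fun x hx => ?_, h2.imp fun t => l.comm_iff.2 t⟩
      obtain ⟨q, hq, rfl⟩ := List.mem_map.1 hx
      exact (l.cm q).symm) (by simpa using h4)
  have k2' := k2 (by
    rw [List.nodup_cons]
    refine ⟨fun hx => ?_, (List.Nodup.of_map _ h3).map l.inj⟩
    obtain ⟨q, hq, e⟩ := List.mem_map.1 hx
    rw [← l.pd, l.inj.eq_iff] at e
    exact (h1 q (List.mem_map_of_mem hq)).1.3 (congrArg Subtype.val e))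
  rw [List.filter_cons_of_pos (by simpa using hn.symm), List.length_cons] at k1 k2' k3 k5
  have le := List.length_filter_le (fun p => decide ¬ p * y = y * p) (Q.map ψ)
  rw [List.length_map] at le h5 ⊢
  by_cases h6 : Q.length = 3
  · exact Or.inl h6
  refine Or.inr ⟨by omega, ?_⟩
  by_contra hne
  have : (Q.map ψ).filter (fun p => decide ¬ p * y = y * p) = Q.map ψ := by
    rw [List.filter_eq_self]
    intro x hx
    obtain ⟨q, hq, rfl⟩ := List.mem_map.1 hx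
    simpa using fun t => hne ⟨q, List.mem_map_of_mem hq, (mem q.2).2 t⟩
  rw [this, List.length_map] at k1 k2' k3 k5
  omega

theorem exists_y (l : Lc x0 d ψ) {φ : F →* Equiv.Perm ℕ} {Sg : List ℕ} {k1 k2 : ℕ}
    (h1 : XX x0 (pt φ x0 k1)) (h2 : XX x0 (pt φ x0 k2))
    (hn : pt φ x0 k2 ≠ pt φ x0 k1) (hc : pt φ x0 k1 * pt φ x0 k2 = pt φ x0 k2 * pt φ x0 k1)
    (hg : Good φ x0 Sg [k1, k2]) : ∃ y, IsConj d y ∧ y * d ≠ d * y ∧
      ∀ s ∈ Sg, ∀ hs : pt φ x0 s ∈ CC x0, ψ ⟨_, hs⟩ * y = y * ψ ⟨_, hs⟩ := by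
  obtain ⟨y, hy, ny, y1, y2⟩ := l.ex ⟨_, h1.mem⟩ ⟨_, h2.mem⟩ h1 h2 hn hc
  obtain ⟨c, hc1, hc2⟩ := hg _ (l.adm hy ny) (by
    intro k hk
    simp only [List.mem_cons, List.not_mem_nil, or_false] at hk
    rcases hk with rfl | rfl
    · exact ⟨⟨_, h1.mem⟩, mem_CC.2 y1, rfl⟩
    · exact ⟨⟨_, h2.mem⟩, mem_CC.2 y2, rfl⟩)
  let u : CC x0 := ⟨c, hc1⟩
  refine ⟨(ψ u)⁻¹ * y * ψ u, hy.trans (isConj_iff.2 ⟨(ψ u)⁻¹, by simp⟩), fun t => ny ?_,
    fun s hs hs' => ?_⟩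
  · have := conj_comm t (ψ u)
    rw [l.cm u] at this
    simpa [mul_assoc] using this
  · obtain ⟨a, ha, ea⟩ := hc2 s hs
    have e1 : a = u * ⟨_, hs'⟩ * u⁻¹ := Subtype.ext (ea.trans (by simp [u]))
    have e2 := conj_comm (mem_CC.1 ha) (ψ u)⁻¹
    rw [e1] at e2
    simpa [mul_assoc] using e2

end Lc

variable {D : Set G} [TT D] {H : Type*} [Group H] {E : Set H} [TT E]

/-- an identification of the centraliser in the model with `H1 x` matching the local classes -/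
structure Mt (x0 : F) (x : Pt D) (ψ : CC x0 ≃* H1 x) : Prop where
  pd : (ψ ⟨x0, self_mem_CC x0⟩).1 = x.t
  cl : ∀ u : H1 x, (∃ y, ∃ hy : XX x0 y, u = ψ ⟨y, hy.mem⟩) ↔ ∃ z ∈ Dx x, u.1 = z.t

theorem Mt.lc [Finite G] [Finite H] (c : Ctx D E) {x : Pt D} {ψ : CC x0 ≃* H1 x} (m : Mt x0 x ψ) :
    Lc x0 x.t ((H1 x).subtype.comp ψ.toMonoidHom) := by
  have hD : conjugatesOf x.t = D := Set.ext fun g => (mem_iff_conj c.irr.toCl x).symm
  refine ⟨(H1 x).subtype_injective.comp ψ.injective, m.pd, fun h hh => ?_, by rw [hD]; exact tr_of_tt D,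
    fun a b ha hb n e => ?_⟩
  · by_cases t : h.1 = x0
    · rw [show h = ⟨x0, self_mem_CC x0⟩ from Subtype.ext t]
      exact m.pd ▸ IsConj.refl _
    · obtain ⟨z, -, hz⟩ := (m.cl (ψ h)).1 ⟨h.1, ⟨hh, mem_CC.1 h.2, t⟩, rfl⟩
      exact (mem_iff_conj c.irr.toCl x).1 (by show (ψ h).1 ∈ D; rw [hz]; exact z.mem)
  · obtain ⟨p, hp, e1⟩ := (m.cl (ψ a)).1 ⟨a.1, ha, rfl⟩
    obtain ⟨q, hq, e2⟩ := (m.cl (ψ b)).1 ⟨b.1, hb, rfl⟩
    have hpq : q ∈ Dx p := ⟨fun t => n (congrArg Subtype.val (ψ.injective (Subtype.ext (by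
      rw [e1, e2, t])))), cm_iff.2 (by
        show _ = _
        rw [← e1, ← e2, ← coe_mul, ← coe_mul, ← map_mul, ← map_mul]
        exact congrArg _ (congrArg ψ (Subtype.ext e)))⟩
    obtain ⟨φ, l⟩ := c.emb p
    obtain ⟨x', rfl⟩ := (l.rng x).1 (Dx_symm hp)
    obtain ⟨a', ha'⟩ := c.loc.toPrim.exists_nc' c.loc.cen x'
    obtain ⟨w, w1, w2⟩ := c.loc.toPrim.exists_DD x' a'
    obtain ⟨g, g1, g2, g3⟩ := c.tr3 (f := φ w) hp ⟨fun t => ha' (by rwa [l.inj t] at w2), l.cm.2 w1.symm⟩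
      (l.mem w) hp hq hpq
    refine ⟨(g • φ a').t, (mem_iff_conj c.irr.toCl _).1 (g • φ a').mem, fun t => ha' ?_, ?_, ?_⟩
    · rw [← l.cm, ← cm_smul g, g1]; exact cm_iff.2 t.symm
    · show (ψ a).1 * _ = _ * (ψ a).1
      rw [e1]; exact (cm_iff.1 (g2 ▸ (l.cmx a').smul g)).eq
    · show (ψ b).1 * _ = _ * (ψ b).1
      rw [e2]; exact (cm_iff.1 (g3 ▸ (l.cm.2 w2).smul g)).eq

theorem Mt.iso [Finite G] [Finite F] (b : Base x0 L π0) (h : Irr D) {x : Pt D}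
    {ψ : CC x0 ≃* H1 x} (m : Mt x0 x ψ) (Φ : F →* G) (hΦ : Φ x0 = x.t) :
    (∃ e : F ≃* G, e x0 = x.t) ∧ ∀ g : G, g • x = x → g ∈ H1 x := by
  haveI := b.simple
  have hi : Function.Injective Φ := by
    rw [← MonoidHom.ker_eq_bot_iff]
    refine Φ.normal_ker.eq_bot_or_eq_top.resolve_right fun t => x.ne_one ?_
    rw [← hΦ]; exact (t ▸ mem_top x0 : x0 ∈ Φ.ker)
  have mD : ∀ z, IsConj x0 z → Φ z ∈ D := fun z hz =>
    (mem_iff_conj h.toCl x).2 (hΦ ▸ Φ.map_isConj hz)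
  have e1 : (fun z : CC x0 => Φ z.1) '' {z | XX x0 z.1} = (fun z : CC x0 => (ψ z).1) '' {z | XX x0 z.1} := by
    refine Set.eq_of_subset_of_ncard_le ?_ (by
      rw [Set.ncard_image_of_injective (f := fun z : CC x0 => Φ z.1) _ (hi.comp Subtype.val_injective),
        Set.ncard_image_of_injective (f := fun z : CC x0 => (ψ z).1) _
          (Subtype.val_injective.comp ψ.injective)])
    rintro _ ⟨z, hz, rfl⟩
    have hm : (⟨Φ z.1, mD _ hz.1⟩ : Pt D) ∈ Dx x := ⟨fun t => hz.3 (hi (by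
      rw [hΦ]; exact congrArg Pt.t t)), cm_iff.2 (by
        show _ = _
        rw [← hΦ, ← map_mul, ← map_mul, hz.2])⟩
    obtain ⟨y, hy, e⟩ := (m.cl ⟨_, t_mem_H1 hm.2⟩).2 ⟨_, hm, rfl⟩
    exact ⟨⟨y, hy.mem⟩, hy, (congrArg Subtype.val e).symm⟩
  have e2 : ∀ y : Pt D, Cm x y → ∃ z, IsConj x0 z ∧ z ∈ CC x0 ∧ Φ z = y.t := fun y hy => by
    by_cases t : y = x
    · exact ⟨x0, IsConj.refl _, self_mem_CC x0, t ▸ hΦ⟩
    obtain ⟨z, hz, e⟩ := (m.cl ⟨_, t_mem_H1 hy⟩).2 ⟨y, ⟨t, hy⟩, rfl⟩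
    obtain ⟨w, hw, e'⟩ := (e1 ▸ ⟨⟨z, hz.mem⟩, hz, (congrArg Subtype.val e).symm⟩ :
      y.t ∈ (fun z : CC x0 => Φ z.1) '' {z | XX x0 z.1})
    exact ⟨w.1, hw.1, w.2, e'⟩
  have e3 : ∀ y : Pt D, ∃ z, IsConj x0 z ∧ Φ z = y.t := h.toPrim.cc (x := x) (by
    rintro y y' ⟨z, hz, e⟩ c
    obtain ⟨k, rfl⟩ := isConj_iff.1 hz
    have : y = Φ k • x := Pt.ext (by rw [← e, smul_t, ← hΦ]; simp)
    obtain ⟨w, hw, -, e'⟩ := e2 ((Φ k)⁻¹ • y') (by rw [← cm_smul (Φ k), smul_inv_smul, ← this]; exact c)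
    refine ⟨k * w * k⁻¹, hw.trans (isConj_iff.2 ⟨k, rfl⟩), ?_⟩
    rw [map_mul, map_mul, e', smul_t, map_inv]; group) ⟨x0, IsConj.refl _, hΦ⟩
  have hs : Function.Surjective Φ := by
    rw [← MonoidHom.range_eq_top, eq_top_iff, ← h.gen, closure_le]
    exact fun d hd => (e3 ⟨d, hd⟩).imp fun _ t => t.2
  refine ⟨⟨MulEquiv.ofBijective Φ ⟨hi, hs⟩, hΦ⟩, fun g hg => ?_⟩
  have le : H1 x ≤ (CC x0).map Φ := (closure_le _).2 (by
    rintro _ ⟨y, hy, rfl⟩
    obtain ⟨z, -, h1, h2⟩ := e2 y hy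
    exact ⟨z, h1, h2⟩)
  rw [eq_of_le_of_card_ge le (by
    rw [card_map_of_injective hi, Nat.card_congr ψ.toEquiv])]
  obtain ⟨k, rfl⟩ := hs g
  exact ⟨k, mem_CC.2 (hi (by
    rw [map_mul, map_mul, hΦ]; exact (smul_eq_iff_commute.1 hg).eq)), rfl⟩

/-- the local class as a lift of the model class -/
theorem exists_lam [Finite G] [Finite F] (b : Base x0 L π0) (c : Ctx D E) (h4 : P4 E) (e : H ≃* L)
    {p0 : Pt E} {y0 : F} (h0 : XX x0 y0) (e0 : e p0.t = π0 ⟨y0, h0.mem⟩) (x : Pt D) :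
    ∃ (π : H1 x →* L) (lam : F → H1 x), Ext (⟨x.t, t_mem_H1 (Cm.refl x)⟩ : H1 x) π ∧
      Lam π0 π lam ∧ ∀ u : H1 x, (∃ y, XX x0 y ∧ u = lam y) ↔ ∃ z ∈ Dx x, u.1 = z.t := by
  classical
  obtain ⟨φ, l⟩ := c.emb x
  obtain ⟨π, h1, h2, h3⟩ := l.exists_pi c.loc
  have ex := c.ext h4 l h1 h2
  have m : ∀ {q : L}, e.symm q ∈ E ↔ ∃ y, ∃ hy : XX x0 y, q = π0 ⟨y, hy.mem⟩ := fun {q} => by
    rw [← b.mem_DL h0, mem_iff_conj c.loc.toCl p0, ← e0]
    exact ⟨fun t => by simpa [conjugatesOf] using e.toMonoidHom.map_isConj t,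
      fun t => by simpa using e.symm.toMonoidHom.map_isConj t⟩
  let lam : F → H1 x := fun y => if hy : XX x0 y then
    ⟨(φ ⟨e.symm (π0 ⟨y, hy.mem⟩), m.2 ⟨y, hy, rfl⟩⟩).t, t_mem_H1 (l.cmx _)⟩ else 1
  have el : ∀ {y} (hy : XX x0 y) (p : Pt E), e p.t = π0 ⟨y, hy.mem⟩ → (lam y).1 = (φ p).t :=
    fun {y} hy p t => by
      simp only [lam, dif_pos hy]
      exact congrArg (fun p => (φ p).t) (Pt.ext (e.symm_apply_eq.2 t.symm))
  have ep : ∀ {y} (hy : XX x0 y), ∃ p : Pt E, e p.t = π0 ⟨y, hy.mem⟩ := fun {y} hy =>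
    ⟨⟨_, m.2 ⟨y, hy, rfl⟩⟩, e.apply_symm_apply _⟩
  refine ⟨e.toMonoidHom.comp π, lam, ⟨ex.cen, ex.sq, ex.ne, e.surjective.comp h1, by simp [ex.pd],
    fun u hu => ex.ker u (by simpa using hu)⟩, ⟨fun {y} hy => ?_, fun {y} hy u g t => ?_,
    fun {y} hy => ?_⟩, fun u => ⟨?_, ?_⟩⟩
  · obtain ⟨p, hp⟩ := ep hy
    rw [show lam y = ⟨(φ p).t, t_mem_H1 (l.cmx p)⟩ from Subtype.ext (el hy p hp), ← hp]
    exact congrArg e (h3 p _)
  · obtain ⟨p, hp⟩ := ep hy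
    refine Subtype.ext ?_
    rw [el (hy.conj g.2) (π u • p) (by
      have t' : e (π u) = π0 g := t
      rw [smul_t, map_mul, map_mul, map_inv, t', hp, ← map_inv, ← map_mul, ← map_mul]; rfl),
      h2, smul_t, coe_mul, coe_mul, el hy p hp]; rfl
  · obtain ⟨p, hp⟩ := ep hy
    exact Subtype.ext (by rw [coe_mul, el hy p hp]; exact Pt.sq _)
  · rintro ⟨y, hy, rfl⟩
    obtain ⟨p, hp⟩ := ep hy
    exact ⟨φ p, l.mem p, el hy p hp⟩
  · rintro ⟨z, hz, t⟩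
    obtain ⟨p, rfl⟩ := (l.rng z).1 hz
    obtain ⟨y, hy, t'⟩ := m.1 (show e.symm (e p.t) ∈ E by simpa using p.mem)
    exact ⟨y, hy, Subtype.ext (t.trans (el hy p t').symm)⟩

end loc

end Cfsg.Agent.Fs
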